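import Cfsg.Agent.Lib.HNType.TwoB.Inv
import Cfsg.Agent.Lib.HNType.Five

/-!
The centraliser of the second kind of involution in a group of HN type.
-/

set_option autoImplicit false
set_option maxRecDepth 100000

namespace CfsgLib.HNType.TwoB

open CfsgLib.CosetEnum CfsgLib.DCoset CfsgLib.DCoset.Space CfsgLib.HN

attribute [local irreducible] toP

/-- a copy of HN in a group, compatible with a chart -/
structure Emb {G : Type*} [Group G] (t : G) where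
  /-- the chart -/
  χ : Chart t
  /-- the map -/
  Φ : HNG →* G
  inj : Function.Injective Φ
  compat : ∀ h : ↥subH, Φ h = χ.hom (toP h)

theorem exists_emb {G : Type*} [Group G] [Finite G] [IsSimpleGroup G] {t : G} (ht : orderOf t = 2)
    (χ : Chart t) : Nonempty (Emb t) := by
  obtain ⟨s, h5, hx, hy, hz⟩ := χ.exists_five ht
  obtain ⟨Φ, hΦ, hc, -⟩ := exists_embedding (χ.hom.comp toP) (χ.hom_inj.comp toP_injective) s h5 hx hy hz
  exact ⟨⟨χ, Φ, hΦ, hc⟩⟩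

namespace Emb

variable {G : Type*} [Group G] {t : G} (E : Emb t)

theorem map_gi : E.Φ gi = t :=
  (E.compat ⟨gi, gi_mem⟩).trans (by rw [toP_gi_eq]; exact E.χ.hom_iP)

theorem map_za : E.Φ za = E.χ.hom (wordP w0) :=
  (E.compat ⟨za, za_mem⟩).trans (by rw [toP_za])

theorem lift {g : G} (h : Commute g t) : ∃ x : ↥subH, E.Φ x = g := by
  obtain ⟨p, rfl⟩ := E.χ.exists_of_commute h
  obtain ⟨x, rfl⟩ := toP_surjective p
  exact ⟨x, E.compat x⟩

theorem isConj_of_TH {x : HNG} (h : TH x) : IsConj (E.Φ x) t := by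
  have h' := E.Φ.map_isConj h
  rwa [E.map_gi] at h'

theorem not_isConj_of_CH [Finite G] {x : HNG} (h : CH x) : ¬ IsConj (E.Φ x) t := fun h' => by
  have h2 := ((E.Φ.map_isConj h).symm.trans h').symm
  obtain ⟨g, hg⟩ := isConj_iff.mp h2
  refine E.χ.not_conj_690 ((E.χ.hom (wordP u690))⁻¹ * g) ?_
  rw [el690_eq, map_mul, map_mul, map_inv, ← E.map_za, ← hg]
  group

theorem T_of_TP {q : PH} (h : TP q) : IsConj (E.χ.hom q) t := by
  obtain ⟨x, rfl⟩ := toP_surjective q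
  rw [← E.compat x]
  exact E.isConj_of_TH (TH_of_TP h)

theorem not_T_of_CP [Finite G] {q : PH} (h : CP q) : ¬ IsConj (E.χ.hom q) t := by
  obtain ⟨x, rfl⟩ := toP_surjective q
  rw [← E.compat x]
  exact E.not_isConj_of_CH (CH_of_CP h)

/-- the centraliser of the image of `za` -/
abbrev Lz : Subgroup G := Subgroup.centralizer {E.Φ za}

/-- the map on the centralisers -/
noncomputable def ψ : ↥cL →* ↥E.Lz :=
  (E.Φ.comp cL.subtype).codRestrict E.Lz fun x => Subgroup.mem_centralizer_singleton_iff.mpr (by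
    show E.Φ x * E.Φ za = E.Φ za * E.Φ x
    rw [← map_mul, mem_cL.mp x.2, map_mul])

theorem ψ_val (x : ↥cL) : (E.ψ x : G) = E.Φ x := rfl

theorem ψ_inj : Function.Injective E.ψ := fun a b h =>
  Subtype.ext (E.inj (congrArg Subtype.val h))

theorem T_cases [Finite G] {x : ↥cL} (hx : x ∈ M0) (hx2 : x * x = 1) (ht1 : t ≠ 1)
    (hT : IsConj (E.ψ x : G) t) :
    (IsConj (↑(E.ψ x * E.ψ zL) : G) t ∧ x ∈ Q0 ∧ ∃ m ∈ M0, m * tL * m⁻¹ = x) ∨
    (¬ IsConj (↑(E.ψ x * E.ψ zL) : G) t ∧ ∃ m ∈ M0, m * bL * m⁻¹ = x) := by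
  rw [← map_mul, E.ψ_val]
  rcases inv_cases hx hx2 with h | h | ⟨-, h1, h2⟩ | ⟨-, h1, h2⟩
  · refine absurd ?_ ht1
    rw [h, map_one] at hT
    exact isConj_one_right.mp hT
  · exact absurd hT (E.not_isConj_of_CH h)
  · exact Or.inl ⟨E.isConj_of_TH h1, h2⟩
  · exact Or.inr ⟨E.not_isConj_of_CH h1, h2⟩

theorem cent_t' {g : ↥E.Lz} (h : g * E.ψ tL = E.ψ tL * g) : g ∈ M0.map E.ψ := by
  have h' : Commute (g : G) t := by
    have e := congrArg Subtype.val h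
    simp only [Subgroup.coe_mul, E.ψ_val, tL_val, E.map_gi] at e
    exact e
  obtain ⟨x, hx⟩ := E.lift h'
  have hc : (x : HNG) ∈ cL := mem_cL.mpr (E.inj (by
    rw [map_mul, map_mul, hx]
    exact Subgroup.mem_centralizer_singleton_iff.mp g.2))
  exact ⟨⟨x, hc⟩, MY_le (MY_of_commute x.2), Subtype.ext hx⟩

theorem dGen_conj {n : ℕ} (hn : n < 4) : ∃ m ∈ M0,
    val gB * prodW gen (dGen.getD n ([], [], 0, false, ⟨[], []⟩)).1 = (m : HNG) * val gB := by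
  have hc := List.all_eq_true.mp wdChk.2.2.1 n (List.mem_range.mpr hn)
  simp only [Bool.and_eq_true, List.all_eq_true, Nat.blt_eq] at hc
  have h := val_eq_of_idOK (List.all_eq_true.mp dGen_ok n (List.mem_range.mpr hn))
  generalize dGen.getD n ([], [], 0, false, ⟨[], []⟩) = d at hc h ⊢
  refine ⟨gWord d.2.1 * qc d.2.2.1 * (bif d.2.2.2.1 then zL else 1),
    mul_mem (mul_mem (gWord_mem hc.1) (Q0_le (qc_mem _))) ?_, ?_⟩
  · cases d.2.2.2.1
    · exact one_mem _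
    · exact zL_mem_M0
  · simp only [val_append, val_word (wlt_iff.mp hc.2), val_zS, val_codeS, ← gWord_val hc.1] at h
    rw [h, Subgroup.coe_mul, Subgroup.coe_mul]
    cases d.2.2.2.1 <;> rfl

theorem cent_s' {g : ↥E.Lz} (h : g * E.ψ bL = E.ψ bL * g) : g ∈ M0.map E.ψ := by
  have hb : Commute (g : G) (E.Φ (prodW gen wB)) := by
    have e := congrArg Subtype.val h
    simp only [Subgroup.coe_mul, E.ψ_val, bL_val] at e
    exact e
  have hz : Commute (g : G) (E.Φ za) := Subgroup.mem_centralizer_singleton_iff.mp g.2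
  obtain ⟨e1, e2⟩ := fuseFacts.2.2.2.2 _ rfl
  obtain ⟨c, hcdef⟩ : ∃ c, c = E.Φ (val gB) := ⟨_, rfl⟩
  have conjc : ∀ {a b : HNG}, a * val gB = val gB * b → Commute (g : G) (E.Φ a) →
      Commute (c⁻¹ * (g : G) * c) (E.Φ b) := by
    intro a b hab hga
    have hb' : E.Φ b = c⁻¹ * E.Φ a * c := by
      rw [mul_assoc, hcdef, ← map_mul, hab, map_mul, inv_mul_cancel_left]
    rw [hb']
    show _ * _ = _ * _
    calc c⁻¹ * (g : G) * c * (c⁻¹ * E.Φ a * c) = c⁻¹ * ((g : G) * E.Φ a) * c := by group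
      _ = _ := by rw [hga.eq]; group
  have ht' := conjc e1 hb
  rw [E.map_gi] at ht'
  obtain ⟨x, hx⟩ := E.lift ht'
  have hD : ∀ v ∈ wD, v < 5 := wlt_iff.mp wdChk.2.1
  have hxD : Commute (toP x) (wordP wD) := by
    rw [← toP_subW hD]
    refine Commute.map (Subtype.ext (E.inj ?_) : Commute x (subW wD hD)) toP
    rw [Subgroup.coe_mul, Subgroup.coe_mul, map_mul, map_mul, hx]
    exact (conjc e2 hz).eq
  have key : ∀ p ∈ Subgroup.closure {x : PH | ∃ w ∈ gDW, wordP w = x},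
      ∃ m ∈ M0, c * E.χ.hom p * c⁻¹ = E.Φ ((m : ↥cL) : HNG) := by
    intro p hp
    induction hp using Subgroup.closure_induction with
    | mem p hp =>
      obtain ⟨w, hw, rfl⟩ := hp
      obtain ⟨d, hd, rfl⟩ := List.mem_map.mp hw
      obtain ⟨n, hn, rfl⟩ := List.getElem_of_mem hd
      obtain ⟨m, hm, e⟩ := dGen_conj (show n < 4 by rw [← wdChk.2.2.2]; exact hn)
      have hc := List.all_eq_true.mp wdChk.2.2.1 n (List.mem_range.mpr (wdChk.2.2.2 ▸ hn))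
      simp only [Bool.and_eq_true] at hc
      rw [List.getD_eq_getElem _ _ hn] at e hc
      refine ⟨m, hm, ?_⟩
      rw [← toP_subW (wlt_iff.mp hc.2), ← E.compat, hcdef, mul_inv_eq_iff_eq_mul, ← map_mul, ← map_mul]
      exact congrArg E.Φ e
    | one => exact ⟨1, one_mem _, by rw [map_one, mul_one, mul_inv_cancel]; exact (map_one _).symm⟩
    | mul a b _ _ ha hb =>
      obtain ⟨m, hm, e⟩ := ha
      obtain ⟨m', hm', e'⟩ := hb
      refine ⟨m * m', mul_mem hm hm', ?_⟩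
      rw [Subgroup.coe_mul, map_mul, map_mul, ← e, ← e']
      group
    | inv a _ ha =>
      obtain ⟨m, hm, e⟩ := ha
      refine ⟨m⁻¹, inv_mem hm, ?_⟩
      rw [Subgroup.coe_inv, map_inv, map_inv, ← e]
      group
  obtain ⟨m, hm, e⟩ := key _ (cent_wD hxD)
  rw [← E.compat, hx] at e
  refine ⟨m, hm, Subtype.ext ?_⟩
  rw [E.ψ_val, ← e]
  group

theorem qc_inT {v : ℕ} (hv : v < 256) (h : inT v = true) {p : ↥cL} (hp : ME p (qc v)) :
    p ∈ M0 ∧ p * p = 1 ∧ TH (p : HNG) ∧ TH (↑(p * zL) : HNG) := by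
  have hpM : p ∈ M0 := Q0_le (mem_Q0_of_me hp)
  have hv0 : v ≠ 0 := fun e => by subst e; exact absurd h (by decide +kernel)
  obtain ⟨n, hn, hnv, hlt⟩ := orb_cover hv hv0
  obtain ⟨m, -, hm⟩ := orb_conj n hn
  rw [hnv, orbRoot, if_pos (hlt h)] at hm
  have hzz : (tL * zL) * zL = tL := by rw [mul_assoc, zL_sq, mul_one]
  have hh : TH (p : HNG) ∧ TH (↑(p * zL) : HNG) := by
    rcases me_trans hp (me_symm hm) with e | e
    · exact ⟨(kinds_conj e.symm).1 tL_kind.1,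
        (kinds_conj (show m * (tL * zL) * m⁻¹ = p * zL by rw [← conj_mul_z, e]; rfl)).1 tL_kind.2⟩
    · have e' : m * (tL * zL) * m⁻¹ = p := by rw [← conj_mul_z, e]; rfl
      refine ⟨(kinds_conj e').1 tL_kind.2,
        (kinds_conj (show m * (tL * zL * zL) * m⁻¹ = p * zL by rw [← conj_mul_z, e'])).1 ?_⟩
      rw [hzz]
      exact tL_kind.1
  exact ⟨hpM, Subtype.ext (TH_sq hh.1).1, hh⟩

theorem transitive' (P : Subgroup ↥E.Lz) (hPQ : P ≤ Q0.map E.ψ) (hz : E.ψ zL ∈ P)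
    (hfree : ∀ p ∈ P, p * p = 1 → ¬ (IsConj (p : G) t ∧ IsConj (↑(p * E.ψ zL) : G) t))
    (htr : ∀ y₁ ∈ M0.map E.ψ, ∀ y₂ ∈ M0.map E.ψ, y₁ * y₁ = 1 → y₂ * y₂ = 1 → IsConj (y₁ : G) t →
      IsConj (↑(y₁ * E.ψ zL) : G) t → IsConj (y₂ : G) t → IsConj (↑(y₂ * E.ψ zL) : G) t →
      ∃ p₁ ∈ P, ∃ p₂ ∈ P, ∃ m ∈ M0.map E.ψ,
        (∀ p ∈ P, m * p * m⁻¹ = p ∨ m * p * m⁻¹ = p * E.ψ zL) ∧ m * (y₁ * p₁) * m⁻¹ = y₂ * p₂) :
    ∀ p ∈ P, p = 1 ∨ p = E.ψ zL := by
  have hrange : ∀ p ∈ P, ∃ x ∈ P.comap E.ψ, E.ψ x = p := fun p hp => by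
    obtain ⟨x, -, e⟩ := hPQ hp
    exact ⟨x, show E.ψ x ∈ P by rw [e]; exact hp, e⟩
  have hsub : P.comap E.ψ ≤ Q0 := fun x hx => by
    obtain ⟨y, hy, e⟩ := hPQ hx
    exact E.ψ_inj e ▸ hy
  have hy : ∀ {v : ℕ}, v < 256 → inT v = true → ∀ {q : ↥cL}, ME q (qc v) →
      E.ψ q ∈ M0.map E.ψ ∧ E.ψ q * E.ψ q = 1 ∧ IsConj (E.ψ q : G) t ∧
        IsConj (↑(E.ψ q * E.ψ zL) : G) t := by
    intro v hv h q hq
    obtain ⟨h1, h2, h3, h4⟩ := qc_inT hv h hq
    refine ⟨⟨q, h1, rfl⟩, by rw [← map_mul, h2, map_one], E.isConj_of_TH h3, ?_⟩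
    rw [← map_mul]
    exact E.isConj_of_TH h4
  have h := subspace_trivial (P.comap E.ψ) hsub hz ?_ ?_
  · intro p hp
    obtain ⟨x, hx, rfl⟩ := hrange p hp
    rcases h x hx with e | e
    · exact Or.inl (by rw [e, map_one])
    · exact Or.inr (by rw [e])
  · intro p hp v hv hT hme
    obtain ⟨-, h2, h3⟩ := hy hv hT hme
    exact hfree _ hp h2 h3
  · intro u₁ h₁ u₂ h₂ T₁ T₂
    obtain ⟨a1, a2, a3, a4⟩ := hy h₁ T₁ (ModEq.refl (qc u₁))
    obtain ⟨b1, b2, b3, b4⟩ := hy h₂ T₂ (ModEq.refl (qc u₂))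
    obtain ⟨p₁, hp₁, p₂, hp₂, m, ⟨m', hm', rfl⟩, hmod, e⟩ := htr _ a1 _ b1 a2 b2 a3 a4 b3 b4
    obtain ⟨q₁, hq₁, rfl⟩ := hrange p₁ hp₁
    obtain ⟨q₂, hq₂, rfl⟩ := hrange p₂ hp₂
    refine ⟨q₁, hq₁, q₂, hq₂, m', hm', fun q hq => ?_, Or.inl (E.ψ_inj ?_)⟩
    · rcases hmod _ hq with e' | e'
      · exact Or.inl (E.ψ_inj (by simpa using e'))
      · exact Or.inr (E.ψ_inj (by simpa using e'))
    · simpa using e

/-- the hypotheses hold in the centraliser of the image of `za` -/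
noncomputable def hyp [Finite G] (ht : orderOf t = 2) : Hyp ↥E.Lz where
  M := M0.map E.ψ
  Q := Q0.map E.ψ
  z₀ := E.ψ zL
  T x := IsConj (x : G) t
  t := E.ψ tL
  s₀ := E.ψ bL
  z_central g := Subtype.ext (Subgroup.mem_centralizer_singleton_iff.mp g.2)
  z_sq := by rw [← map_mul, zL_sq, map_one]
  T_conj g x h := (isConj_iff.mpr ⟨(g : G), rfl⟩ : IsConj (x : G) (↑(g * x * g⁻¹) : G)).symm.trans h
  T_z := E.not_isConj_of_CH CH_za
  Q_le := Subgroup.map_mono Q0_le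
  z_mem := ⟨zL, zL_mem, rfl⟩
  Q_normal := by
    rintro _ ⟨m, hm, rfl⟩ _ ⟨q, hq, rfl⟩
    exact ⟨m * q * m⁻¹, Q0_normal hm hq, by simp⟩
  Q_comm := by
    rintro _ ⟨p, hp, rfl⟩ _ ⟨q, hq, rfl⟩
    rw [← map_inv, ← map_mul, ← map_mul, ← map_mul]
    rcases Q0_comm hp hq with e | e <;> rw [e]
    · exact Or.inl rfl
    · exact Or.inr rfl
  t_sq := by rw [← map_mul, show tL * tL = 1 from Subtype.ext (TH_sq tL_kind.1).1, map_one]
  t_mem := ⟨tL, qc_mem 1, rfl⟩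
  t_T := ⟨E.isConj_of_TH tL_kind.1, by rw [← map_mul]; exact E.isConj_of_TH tL_kind.2⟩
  s_sq := by rw [← map_mul, rootL_sq.1, map_one]
  s_T := ⟨E.isConj_of_TH bL_kind.1, by rw [← map_mul]; exact E.not_isConj_of_CH bL_kind.2⟩
  A_conj := by
    rintro _ ⟨x, hx, rfl⟩ h2 hT hTz
    rw [← map_mul, ← E.ψ.map_one] at h2
    rcases E.T_cases hx (E.ψ_inj h2) (fun e => by simp [e] at ht) hT with
      ⟨-, hQ, m, hm, e⟩ | ⟨h, -⟩
    · exact ⟨⟨x, hQ, rfl⟩, E.ψ m, ⟨m, hm, rfl⟩, by rw [← e]; simp⟩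
    · exact absurd hTz h
  B_conj := by
    rintro _ ⟨x, hx, rfl⟩ h2 hT hTz
    rw [← map_mul, ← E.ψ.map_one] at h2
    rcases E.T_cases hx (E.ψ_inj h2) (fun e => by simp [e] at ht) hT with ⟨h, -⟩ | ⟨-, m, hm, e⟩
    · exact absurd h hTz
    · exact ⟨E.ψ m, ⟨m, hm, rfl⟩, by rw [← e]; simp⟩
  cent_t g := E.cent_t'
  cent_s g := E.cent_s'
  inventory i hi hc hT hTz := by
    have h' : Commute (i : G) t := by
      have e := congrArg Subtype.val hc
      simp only [Subgroup.coe_mul, E.ψ_val, tL_val, E.map_gi] at e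
      exact e
    obtain ⟨p, hp⟩ := E.χ.exists_of_commute h'
    have hz : E.χ.hom (wordP w0) = ((E.ψ zL : ↥E.Lz) : G) := E.map_za.symm
    have htv : E.χ.hom iP = ((E.ψ tL : ↥E.Lz) : G) := by rw [E.χ.hom_iP, E.ψ_val, tL_val, E.map_gi]
    have hp2 : p * p = 1 := E.χ.hom_inj (by
      rw [map_mul, hp, map_one]; exact congrArg Subtype.val hi)
    have hpw : Commute p (wordP w0) := E.χ.hom_inj (by
      rw [map_mul, map_mul, hp, ← E.map_za]
      exact Subgroup.mem_centralizer_singleton_iff.mp i.2)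
    rcases inventory_PH hp2 hpw with h | h | h | h
    · exact absurd (by rw [map_mul, hp, htv]; exact hT) (E.not_T_of_CP h)
    · refine absurd ?_ hTz
      have := E.T_of_TP h
      rwa [map_mul, map_mul, hp, htv, hz] at this
    · left
      have := E.T_of_TP h
      rwa [hp] at this
    · right
      have := E.T_of_TP h
      rwa [map_mul, hp, hz] at this
  wreath := by
    rintro _ ⟨x, hx, rfl⟩ _ ⟨y, hy, rfl⟩ x2 y2 xT xTz yT yTz h4
    rw [← map_mul, ← E.ψ.map_one] at x2 y2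
    have ht1 : t ≠ 1 := fun e => by simp [e] at ht
    rcases E.T_cases hx (E.ψ_inj x2) ht1 xT with ⟨h, -⟩ | ⟨-, m, hm, rfl⟩
    · exact absurd h xTz
    rcases E.T_cases hy (E.ψ_inj y2) ht1 yT with ⟨h, -⟩ | ⟨-, n, hn, rfl⟩
    · exact absurd h yTz
    rw [← map_mul, ← map_pow, ← E.ψ.map_one] at h4
    exact ⟨_, wreath_L hm hn (E.ψ_inj h4), by rw [map_pow, map_mul]⟩
  transitive P hPQ hz hfree htr := E.transitive' P hPQ hz hfree htr

theorem cent_za [Finite G] (ht : orderOf t = 2) {g : G} (hg : Commute g (E.Φ za)) :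
    ∃ m ∈ M0, E.Φ ((m : ↥cL) : HNG) = g := by
  have h : (⟨g, Subgroup.mem_centralizer_singleton_iff.mpr hg.eq⟩ : ↥E.Lz) ∈ (E.hyp ht).M := by
    rw [(E.hyp ht).M_eq_top]; exact Subgroup.mem_top _
  obtain ⟨m, hm, e⟩ := h
  exact ⟨m, hm, congrArg Subtype.val e⟩

theorem M0_eq_top [Finite G] (E : Emb t) (ht : orderOf t = 2) : (M0 : Subgroup ↥cL) = ⊤ := by
  refine eq_top_iff.mpr fun x _ => ?_
  obtain ⟨m, hm, e⟩ := E.cent_za ht (Subgroup.mem_centralizer_singleton_iff.mp (E.ψ x).2)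
  exact (Subtype.ext (E.inj e) : m = x) ▸ hm

theorem range_eq_top [Finite G] (ht : orderOf t = 2) :
    E.Φ.range = ⊤ ∧ ∀ y, orderOf y = 2 → IsConj y t ∨ IsConj y (E.Φ za) := by
  have hu : orderOf (E.Φ za) = 2 := by
    rw [orderOf_injective E.Φ E.inj]
    exact orderOf_eq_prime (by rw [pow_two]; exact za_sq) za_ne_one
  have htu : ¬ IsConj t (E.Φ za) := fun h => E.not_isConj_of_CH CH_za h.symm
  have hcls : ∀ x : HNG, orderOf (E.Φ x) = 2 →
      ∃ k, k * x * k⁻¹ = gi ∨ k * x * k⁻¹ = za := by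
    intro x hx
    rw [orderOf_injective E.Φ E.inj] at hx
    have h2 : x * x = 1 := by rw [← pow_two, ← hx, pow_orderOf_eq_one]
    have h1 : x ≠ 1 := fun e => by rw [e, orderOf_one] at hx; exact absurd hx (by norm_num)
    rcases kinds_HN (E.M0_eq_top ht) h2 h1 with h | h
    · obtain ⟨k, hk⟩ := isConj_iff.mp h; exact ⟨k, Or.inl hk⟩
    · obtain ⟨k, hk⟩ := isConj_iff.mp h; exact ⟨k, Or.inr hk⟩
  have htop : E.Φ.range = ⊤ := by
    refine eq_top_of_centralizers _ ht hu htu ?_ ?_ ?_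
    · intro g hg
      obtain ⟨x, hx⟩ := E.lift (Subgroup.mem_centralizer_singleton_iff.mp hg)
      exact ⟨x, hx⟩
    · intro g hg
      obtain ⟨m, -, e⟩ := E.cent_za ht (Subgroup.mem_centralizer_singleton_iff.mp hg)
      exact ⟨_, e⟩
    · rintro _ ⟨x, rfl⟩ hy
      obtain ⟨k, hk⟩ := hcls x hy
      refine ⟨E.Φ k, ⟨k, rfl⟩, ?_⟩
      rw [← map_inv, ← map_mul, ← map_mul]
      rcases hk with e | e <;> rw [e]
      · exact Or.inl E.map_gi
      · exact Or.inr rfl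
  refine ⟨htop, fun y hy => ?_⟩
  obtain ⟨x, rfl⟩ : y ∈ E.Φ.range := by rw [htop]; exact Subgroup.mem_top y
  obtain ⟨k, hk⟩ := hcls x hy
  rcases hk with e | e
  · left
    have h := E.Φ.map_isConj (isConj_iff.mpr ⟨k, e⟩ : IsConj x gi)
    rwa [E.map_gi] at h
  · exact Or.inr (E.Φ.map_isConj (isConj_iff.mpr ⟨k, e⟩))

end Emb

/-- A simple group of HN type is HN, with two classes of involutions. -/
theorem exists_equiv {G : Type*} [Group G] [Finite G] [IsSimpleGroup G] (t : G) (ht : orderOf t = 2)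
    (M : Subgroup (Subgroup.centralizer ({t} : Set G))) [M.Normal] (hM : M.index = 2)
    (hout : Subgroup.centralizer (M : Set (Subgroup.centralizer ({t} : Set G))) ≤ M)
    (hcov : Cfsg.IsNonsplitDoubleCover M Cfsg.Spor.HS) :
    Nonempty (G ≃* Cfsg.Spor.HN) ∧ ∃ x y : G, orderOf x = 2 ∧ orderOf y = 2 ∧ ¬ IsConj x y ∧
      ∀ z : G, orderOf z = 2 → IsConj z x ∨ IsConj z y := by
  obtain ⟨χ⟩ := exists_chart t ht M hM hout hcov
  obtain ⟨E⟩ := exists_emb ht χ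
  obtain ⟨htop, hcls⟩ := E.range_eq_top ht
  refine ⟨⟨(MulEquiv.ofBijective E.Φ ⟨E.inj, MonoidHom.range_eq_top.mp htop⟩).symm⟩,
    t, E.Φ za, ht, ?_, fun h => E.not_isConj_of_CH CH_za h.symm, hcls⟩
  rw [orderOf_injective E.Φ E.inj]
  exact orderOf_eq_prime (by rw [pow_two]; exact za_sq) za_ne_one

end CfsgLib.HNType.TwoB
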