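import Cfsg.Agent.Lib.HNType.TwoB.GammaDefs

/-!
The elements of order five in block 1 of the matrices.
-/

set_option autoImplicit false
set_option maxRecDepth 100000
set_option maxHeartbeats 4000000

namespace CfsgLib.HNType.TwoB

theorem five_ok1 : fiveBlockOK 1 = true := by decide +kernel

end CfsgLib.HNType.TwoB
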