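import Cfsg.Agent.Lib.HNType.TwoB.GammaDefs

/-!
The checks on the group of matrices hold.
-/

set_option autoImplicit false
set_option maxRecDepth 100000
set_option maxHeartbeats 4000000

namespace CfsgLib.HNType.TwoB

open CfsgLib.CosetEnum

theorem minv_ok : minvOK = true := by decide +kernel
theorem par_ok : Cert.allBelow 315 parOK = true := by decide +kernel
theorem cls_ok : Cert.allBelow 60 clsOK = true := by decide +kernel
theorem wreath_ok : Cert.allBelow 60 wreathOK = true := by decide +kernel
theorem orbStep_ok : Cert.allBelow 255 orbStepOK = true := by decide +kernel
theorem orbCover_ok : orbCoverOK = true := by decide +kernel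
theorem tInv_ok : tInvOK = true := by decide +kernel
theorem pairCount_ok : pairCountOK = true := by decide +kernel
theorem fix_ok : (List.range 3).all fixOK = true := by decide +kernel
theorem sch_ok : Cert.allBelow 120 schOK = true := by decide +kernel
theorem repFacts_ok : repFactsOK = true := by decide +kernel

end CfsgLib.HNType.TwoB
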