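import Cfsg.Agent.Lib.HNType.TwoB.Gam0
import Cfsg.Agent.Lib.HNType.TwoB.Five0
import Cfsg.Agent.Lib.HNType.TwoB.Gam1
import Cfsg.Agent.Lib.HNType.TwoB.Five1
import Cfsg.Agent.Lib.HNType.TwoB.Gam2
import Cfsg.Agent.Lib.HNType.TwoB.Five2
import Cfsg.Agent.Lib.HNType.TwoB.Gam3
import Cfsg.Agent.Lib.HNType.TwoB.Five3
import Cfsg.Agent.Lib.HNType.TwoB.Gam4
import Cfsg.Agent.Lib.HNType.TwoB.Five4
import Cfsg.Agent.Lib.HNType.TwoB.Gam5
import Cfsg.Agent.Lib.HNType.TwoB.Five5
import Cfsg.Agent.Lib.HNType.TwoB.Gam6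
import Cfsg.Agent.Lib.HNType.TwoB.Five6
import Cfsg.Agent.Lib.HNType.TwoB.Gam7
import Cfsg.Agent.Lib.HNType.TwoB.Five7
import Cfsg.Agent.Lib.HNType.TwoB.GammaChk

/-!
The checks on all matrices.
-/

set_option autoImplicit false

namespace CfsgLib.HNType.TwoB

open CfsgLib.CosetEnum

theorem of_blocks {f : ℕ → Bool}
    (h : ∀ b < 8, Cert.allBelow 900 (fun k => CfsgLib.CosetEnum.strict (900 * b + k) f) = true)
    (k : ℕ) (hk : k < 7200) : f k = true := by
  have h1 := Cert.allBelow_spec (h (k / 900) (by omega)) (k % 900) (Nat.mod_lt _ (by norm_num))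
  simp only [strict_eq] at h1
  rwa [Nat.div_add_mod] at h1

theorem gam_spec (k : ℕ) (hk : k < 7200) : gamOK k = true ∧ invOK' k = true := by
  have h := of_blocks (f := fun k => gamOK k && invOK' k) (fun b hb => by
    interval_cases b
    · exact gam_ok0
    · exact gam_ok1
    · exact gam_ok2
    · exact gam_ok3
    · exact gam_ok4
    · exact gam_ok5
    · exact gam_ok6
    · exact gam_ok7) k hk
  simpa using h

theorem five_spec (k : ℕ) (hk : k < 7200) : fiveOK k = true :=
  of_blocks (fun b hb => by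
    interval_cases b
    · exact five_ok0
    · exact five_ok1
    · exact five_ok2
    · exact five_ok3
    · exact five_ok4
    · exact five_ok5
    · exact five_ok6
    · exact five_ok7) k hk

end CfsgLib.HNType.TwoB
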