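import Cfsg.Agent.Lib.HNType.TwoB.Elem
import Cfsg.Agent.Lib.HNType.TwoB.GammaTab

/-!
The action of the subgroup of generators on the codes.
-/

set_option autoImplicit false
set_option maxRecDepth 100000

namespace CfsgLib.HNType.TwoB

open CfsgLib.CosetEnum CfsgLib.DCoset CfsgLib.DCoset.Space CfsgLib.HN

/-- equal up to the central involution -/
abbrev ME (x y : ↥cL) : Prop := ModEq zL x y

theorem me_trans {x y w : ↥cL} (h : ME x y) (h' : ME y w) : ME x w := h.trans zL_sq h'

theorem me_symm {x y : ↥cL} (h : ME x y) : ME y x := h.symm zL_sq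

theorem me_mul {x y x' y' : ↥cL} (h : ME x y) (h' : ME x' y') : ME (x * x') (y * y') :=
  h.mul zL_central zL_sq h'

theorem me_conj {x y : ↥cL} (g : ↥cL) (h : ME x y) : ME (g * x * g⁻¹) (g * y * g⁻¹) :=
  conj_modEq zL_central zL_sq g h

theorem qc_self (u : ℕ) : ME (qc u * qc u) 1 := by
  have h := qc_xor u u
  rwa [Nat.xor_self, qc_zero] at h

theorem qc_inv (u : ℕ) : ME (qc u)⁻¹ (qc u) := by
  have h := me_mul (ModEq.refl (z := zL) (qc u)⁻¹) (qc_self u)
  rw [inv_mul_cancel_left, mul_one] at h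
  exact me_symm h

theorem mem_gens (i : ℕ) (hi : i < 4) :
    gL i ∈ Subgroup.closure {x : ↥cL | ∃ i < 4, gL i = x} := Subgroup.subset_closure ⟨i, hi, rfl⟩

/-- the subgroup of the four generators -/
noncomputable def M0 : Subgroup ↥cL := Subgroup.closure {x | ∃ i < 4, gL i = x}

/-- the normal subgroup -/
noncomputable def Q0 : Subgroup ↥cL := Subgroup.closure ({x | ∃ k < 8, qL k = x} ∪ {zL})

theorem qc_mem (v : ℕ) : qc v ∈ Q0 := by
  refine bitProd_mem (fun g hg => ?_) _
  obtain ⟨k, hk, rfl⟩ := List.mem_map.mp hg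
  exact Subgroup.subset_closure (Or.inl ⟨k, List.mem_range.mp hk, rfl⟩)

theorem zL_mem : zL ∈ Q0 := Subgroup.subset_closure (Or.inr rfl)

theorem mem_Q0_of_me {x : ↥cL} {v : ℕ} (h : ME x (qc v)) : x ∈ Q0 := by
  rcases h with rfl | rfl
  · exact qc_mem v
  · exact mul_mem (qc_mem v) zL_mem

theorem exists_code {x : ↥cL} (hx : x ∈ Q0) : ∃ v < 256, ME x (qc v) := by
  rw [← Subgroup.mem_toSubmonoid, Q0, Subgroup.closure_toSubmonoid_of_finite] at hx
  induction hx using Submonoid.closure_induction with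
  | mem y hy =>
    rcases hy with ⟨k, hk, rfl⟩ | rfl
    · exact ⟨2 ^ k, Nat.pow_lt_pow_right (by norm_num) (show k < 8 from hk),
        Or.inl (qc_two_pow hk).symm⟩
    · exact ⟨0, by norm_num, Or.inr (by rw [qc_zero, one_mul])⟩
  | one => exact ⟨0, by norm_num, Or.inl qc_zero.symm⟩
  | mul a b _ _ ha hb =>
    obtain ⟨u, hu, hua⟩ := ha
    obtain ⟨v, hv, hvb⟩ := hb
    exact ⟨u ^^^ v, Nat.xor_lt_two_pow (n := 8) hu hv, me_trans (me_mul hua hvb) (qc_xor u v)⟩

theorem orbEntry {n : ℕ} (hn : n < 255) : orbStepOK n = true :=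
  Cert.allBelow_spec orbStep_ok n hn

/-- the root of the orbit at position `n` -/
def orbRoot (n : ℕ) : ℕ := if n < 60 then 1 else if n < 180 then 10 else 12

theorem orb_conj : ∀ n, n < 255 → ∃ m ∈ M0,
    ME (m * qc (orbRoot n) * m⁻¹) (qc (orbList.getD n (0, 0, 0)).1) := by
  intro n
  induction n using Nat.strong_induction_on with
  | _ n ih =>
    intro hn
    have h := orbEntry hn
    simp only [orbStepOK, strict_eq, Bool.and_eq_true, Nat.blt_eq] at h
    obtain ⟨-, h⟩ := h
    split_ifs at h with h0 h60 h180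
    · rw [Nat.eq_of_beq_eq_true h, Nat.eq_of_beq_eq_true h0]
      exact ⟨1, one_mem _, by simp [orbRoot, ModEq.refl]⟩
    · rw [Nat.eq_of_beq_eq_true h, Nat.eq_of_beq_eq_true h60]
      exact ⟨1, one_mem _, by simp [orbRoot, ModEq.refl]⟩
    · rw [Nat.eq_of_beq_eq_true h, Nat.eq_of_beq_eq_true h180]
      exact ⟨1, one_mem _, by simp [orbRoot, ModEq.refl]⟩
    · simp only [Bool.and_eq_true, Nat.blt_eq, Bool.or_eq_true, Bool.not_eq_true'] at h
      obtain ⟨⟨⟨⟨hi, hp⟩, h1⟩, h2⟩, hv⟩ := h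
      obtain ⟨m, hm, hmc⟩ := ih _ hp (hp.trans hn)
      have hr : orbRoot (orbList.getD n (0, 0, 0)).2.2 = orbRoot n := by
        simp only [orbRoot]
        rw [← Bool.not_eq_true, Nat.blt_eq] at h1 h2
        split_ifs <;> omega
      rw [hr] at hmc
      have hp' := orbEntry (hp.trans hn)
      simp only [orbStepOK, strict_eq, Bool.and_eq_true, Nat.blt_eq] at hp'
      have ha := act_gen hi _ hp'.1.2
      rw [Nat.eq_of_beq_eq_true hv] at ha
      refine ⟨gL (orbList.getD n (0, 0, 0)).2.1 * m, mul_mem (mem_gens _ hi) hm, ?_⟩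
      rw [show ∀ g a : ↥cL, g * m * a * (g * m)⁻¹ = g * (m * a * m⁻¹) * g⁻¹ from fun g a => by group]
      exact me_trans (me_conj _ hmc) ha

theorem orb_cover {v : ℕ} (hv : v < 256) (hv0 : v ≠ 0) :
    ∃ n < 255, (orbList.getD n (0, 0, 0)).1 = v ∧ (inT v = true → n < 60) := by
  have h := orbCover_ok
  simp only [orbCoverOK, List.all_eq_true, List.mem_range] at h
  have h1 := h v hv
  simp only [Bool.and_eq_true, Bool.or_eq_true, List.any_eq_true, List.mem_range, beq_iff_eq] at h1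
  obtain ⟨hc, hT⟩ := h1
  by_cases ht : inT v = true
  · rw [ht] at hT
    obtain ⟨n, hn, he⟩ := List.any_eq_true.mp hT.symm
    exact ⟨n, by rw [List.mem_range] at hn; omega, Nat.eq_of_beq_eq_true he,
      fun _ => List.mem_range.mp hn⟩
  · obtain ⟨n, hn, he⟩ := hc.resolve_left (fun e => hv0 (Nat.eq_of_beq_eq_true e))
    exact ⟨n, hn, Nat.eq_of_beq_eq_true he, fun e => absurd e ht⟩

theorem repChk : ((List.range 7).all fun k => ebAt k == [some (ebW k)]) = true ∧
    wlt (codeW 12) = true ∧ wlt w0 = true ∧ codeW 1 = [0, 0] := by decide +kernel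

theorem qc_one_val : (qc 1 : HNG) = gi := by
  rw [qc_word (by norm_num), repChk.2.2.2, gi_word]

theorem root_ne {r : ℕ} (hr : r = 1 ∨ r = 10 ∨ r = 12) : ¬ ME (qc r) 1 := by
  have hz : (zL : HNG) = prodW gen w0 := za_word
  have h := repFacts_ok
  simp only [repFactsOK, Bool.and_eq_true, Bool.not_eq_true'] at h
  intro e
  rcases hr with rfl | rfl | rfl
  · rcases e with e | e <;> have e' := congrArg Subtype.val e <;>
      simp only [qc_one_val, OneMemClass.coe_one, one_mul] at e'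
    · exact gi_ne_one e'
    · rw [gi_word, hz] at e'
      exact hn_ne_of_same (by decide +kernel) repChk.2.2.1 h.1.2 e'
  · have e2 : qc 10 * qc 10 = 1 := by
      rcases e with e | e <;> rw [e]
      · exact one_mul 1
      · rw [one_mul, zL_sq]
    have e3 := congrArg Subtype.val e2
    rw [Subgroup.coe_mul, qc_word (by norm_num), ← prodW_append, OneMemClass.coe_one,
      hn_of_same (show sameOK (codeW 10 ++ codeW 10) w0 = true by decide +kernel)] at e3
    exact hn_ne_of_same repChk.2.2.1 (v := []) rfl h.2 (e3.trans (prodW_nil _).symm)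
  · rcases e with e | e <;> have e' := congrArg Subtype.val e <;>
      simp only [qc_word (show (12 : ℕ) < 128 by norm_num), OneMemClass.coe_one, one_mul] at e'
    · exact hn_ne_of_same repChk.2.1 (v := []) rfl h.1.1.1.2 (e'.trans (prodW_nil _).symm)
    · rw [hz] at e'
      exact hn_ne_of_same repChk.2.1 repChk.2.2.1 h.1.1.2 e'

theorem qc_ne {v : ℕ} (hv : v < 256) (hv0 : v ≠ 0) : ¬ ME (qc v) 1 := by
  intro e
  obtain ⟨n, hn, he, -⟩ := orb_cover hv hv0
  obtain ⟨m, -, hm⟩ := orb_conj n hn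
  rw [he] at hm
  refine root_ne (r := orbRoot n) (by unfold orbRoot; split_ifs <;> simp) ?_
  have h := me_conj m⁻¹ (me_trans hm e)
  rwa [show m⁻¹ * (m * qc (orbRoot n) * m⁻¹) * m⁻¹⁻¹ = qc (orbRoot n) by group, mul_one,
    mul_inv_cancel] at h

theorem code_inj {u v : ℕ} (hu : u < 256) (hv : v < 256) (h : ME (qc u) (qc v)) : u = v := by
  have h1 := me_trans (me_symm (qc_xor u v))
    (me_trans (me_mul h (ModEq.refl (z := zL) (qc v))) (qc_self v))
  by_contra hne
  exact qc_ne (Nat.xor_lt_two_pow (n := 8) hu hv) (fun e => hne (Nat.xor_eq_zero_iff.mp e)) h1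

theorem act_unique {x : ↥cL} {A B : ℕ} (hA : Act qs zL x A) (hB : Act qs zL x B) :
    eqM A B = true := by
  refine eqM_iff.mpr fun i hi => ?_
  have h2 : 2 ^ i < 256 := Nat.pow_lt_pow_right (by norm_num) (show i < 8 from hi)
  have h1 := me_trans (me_symm (hA _ h2)) (hB _ h2)
  rw [app8_two_pow A hi, app8_two_pow B hi] at h1
  exact code_inj (col_lt A i) (col_lt B i) h1

theorem act_congr {x : ↥cL} {A B : ℕ} (hA : Act qs zL x A) (h : eqM A B = true) :
    Act qs zL x B := fun v hv => by rw [← app8_eqM h]; exact hA v hv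

theorem act_comp {x y : ↥cL} {A B : ℕ} (hA : Act qs zL x A) (hB : Act qs zL y B) :
    Act qs zL (x * y) (mmul A B) := act_mul zL_central zL_sq qs_comm qs_sq hA hB

theorem act_id : Act qs zL (1 : ↥cL) idM := act_one zL_central zL_sq qs_comm qs_sq

theorem act_code (u : ℕ) : Act qs zL (qc u) idM := by
  intro v hv
  rw [app8_idM hv]
  have h1 := me_mul (qc_xor u v) (qc_inv u)
  refine me_trans h1 (me_trans (qc_xor _ _) ?_)
  rw [Nat.xor_comm u v, Nat.xor_assoc, Nat.xor_self, Nat.xor_zero]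
  exact ModEq.refl _

theorem tInv_spec {i v : ℕ} (hi : i < 4) (hv : v < 256) (h : inT v = true) :
    inT (app8 (matAt i) v) = true := by
  have h0 := tInv_ok
  simp only [tInvOK, List.all_eq_true, List.mem_range] at h0
  have h1 := h0 i hi v hv
  rwa [h, Bool.not_true, Bool.false_or] at h1

theorem act_eval {x : ↥cL} {A : ℕ} (h : Act qs zL x A) {v w : ℕ} (hv : v < 256) (hw : w < 256)
    (e : ME (x * qc v * x⁻¹) (qc w)) : app8 A v = w :=
  code_inj (app8_lt A v) hw (me_trans (me_symm (h v hv)) e)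

/-- every element of the subgroup acts by a listed matrix preserving the first orbit -/
theorem exists_act {x : ↥cL} (hx : x ∈ M0) : ∃ k < 7200, Act qs zL x (gamAt k) ∧
    ∀ v < 256, inT v = true → inT (app8 (gamAt k) v) = true := by
  rw [← Subgroup.mem_toSubmonoid, M0, Subgroup.closure_toSubmonoid_of_finite] at hx
  induction hx using Submonoid.closure_induction_left with
  | one =>
    have h0 : eqM (gamAt 0) idM = true := by
      have h := minv_ok
      rw [minvOK, Bool.and_eq_true] at h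
      exact h.1
    refine ⟨0, by norm_num, act_congr act_id (eqM_iff.mpr fun i hi => (eqM_iff.mp h0 i hi).symm),
      fun v hv ht => ?_⟩
    rwa [app8_eqM h0, app8_idM hv]
  | mul_left y hy a _ ha =>
    obtain ⟨i, hi, rfl⟩ := hy
    obtain ⟨k, hk, hact, hinv⟩ := ha
    have h := (gam_spec k hk).1
    simp only [gamOK, strict_eq, List.all_eq_true, List.mem_range, Bool.and_eq_true, Nat.blt_eq] at h
    obtain ⟨hn, he⟩ := h i hi
    have hA := act_congr (act_comp (act_gen hi) hact) he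
    refine ⟨_, hn, hA, fun v hv ht => ?_⟩
    rw [← app8_eqM he, app8_mmul _ _ hv]
    exact tInv_spec hi (app8_lt _ _) (hinv v hv ht)

theorem Q0_normal {m : ↥cL} (hm : m ∈ M0) {q : ↥cL} (hq : q ∈ Q0) : m * q * m⁻¹ ∈ Q0 := by
  obtain ⟨k, -, hk, -⟩ := exists_act hm
  obtain ⟨v, hv, hqv⟩ := exists_code hq
  exact mem_Q0_of_me (me_trans (me_conj m hqv) (hk v hv))

theorem Q0_comm {p q : ↥cL} (hp : p ∈ Q0) (hq : q ∈ Q0) :
    p * q * p⁻¹ = q ∨ p * q * p⁻¹ = q * zL := by
  obtain ⟨u, -, hu⟩ := exists_code hp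
  obtain ⟨v, hv, hqv⟩ := exists_code hq
  have h1 : ME (p * q) (qc (u ^^^ v)) := me_trans (me_mul hu hqv) (qc_xor u v)
  have h2 : ME (q * p) (qc (u ^^^ v)) := by
    rw [Nat.xor_comm]
    exact me_trans (me_mul hqv hu) (qc_xor v u)
  rcases me_trans h1 (me_symm h2) with e | e
  · exact Or.inl (by rw [e, mul_inv_cancel_right])
  · refine Or.inr ?_
    rw [e, mul_assoc (q * p) zL, ← zL_central p⁻¹, ← mul_assoc, mul_inv_cancel_right]

theorem t_code : ME (qL 7 * qc 1 * (qL 7)⁻¹) (qc 1) ∧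
    qL 7 * qc 1 * (qL 7)⁻¹ = qc 1 * zL := by
  have hb : (commData.getD 6 (false, ⟨[], []⟩)).1 = true ∧ pairs.getD 6 (0, 0) = (0, 7) := by
    decide +kernel
  have h := val_eq_of_idOK (List.all_eq_true.mp comm_ok 6 (List.mem_range.mpr (by norm_num)))
  simp only [val_append, val_zS, hb.1, hb.2] at h
  have e1 : qc 1 = qL 0 := by rw [show (1 : ℕ) = 2 ^ 0 by norm_num, qc_two_pow (by norm_num)]
  have e : qL 7 * qc 1 * (qL 7)⁻¹ = qc 1 * zL := by
    rw [e1, mul_inv_eq_iff_eq_mul, mul_assoc (qL 0) zL, ← zL_central, ← mul_assoc]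
    exact Subtype.ext h
  exact ⟨Or.inr e, e⟩

end CfsgLib.HNType.TwoB
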