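import Cfsg.Agent.Lib.HNType.TwoB.CentChk

/-!
The centralisers of `wA` and `wD` in the group on 1408 points are generated by listed elements.
-/

set_option autoImplicit false
set_option maxRecDepth 10000

namespace CfsgLib.HNType.TwoB

open CfsgLib.CosetEnum CfsgLib.DCoset CfsgLib.DCoset.Space CfsgLib.HN

/-- the images of the base points as one number -/
noncomputable def keyP (x : PH) : ℕ :=
  img x (bp (b := 0) (by norm_num)) + 4096 * (img x (bp (b := 1) (by norm_num)) +
    4096 * (img x (bp (b := 2) (by norm_num)) + 4096 * (img x (bp (b := 3) (by norm_num)) +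
    4096 * (img x (bp (b := 4) (by norm_num)) + 4096 * img x (bp (b := 5) (by norm_num))))))

theorem wlt_iff {w : List ℕ} : wlt w = true ↔ ∀ g ∈ w, g < 5 := by
  simp [wlt, List.all_eq_true]

theorem keyP_word {w : List ℕ} (hw : ∀ g ∈ w, g < 5) : keyP (wordP w) = keyW w := by
  simp only [keyP, keyW, img_word hw, bp_val]

theorem wordP_mem_closure {ws : List (List ℕ)} : ∀ js : List ℕ,
    wordP (joinW ws js) ∈ Subgroup.closure {x : PH | ∃ w ∈ ws, wordP w = x}
  | [] => by rw [show joinW ws [] = [] from rfl, wordP_nil]; exact one_mem _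
  | j :: js => by
    rw [show joinW ws (j :: js) = ws.getD j [] ++ joinW ws js from List.flatMap_cons, wordP_append]
    refine mul_mem ?_ (wordP_mem_closure js)
    by_cases hj : j < ws.length
    · rw [List.getD_eq_getElem _ _ hj]
      exact Subgroup.subset_closure ⟨_, List.getElem_mem hj, rfl⟩
    · rw [List.getD_eq_default _ _ (by omega), wordP_nil]; exact one_mem _

theorem pairwise_of_chainLt {α : Type} : ∀ {l : List (ℕ × α)}, chainLt l = true →
    l.Pairwise fun a b => a.1 < b.1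
  | [], _ => List.Pairwise.nil
  | [_], _ => List.pairwise_singleton _ _
  | a :: b :: l, h => by
    rw [chainLt, Bool.and_eq_true, Nat.blt_eq] at h
    have ih := pairwise_of_chainLt h.2
    refine List.pairwise_cons.mpr ⟨fun c hc => ?_, ih⟩
    rcases List.mem_cons.mp hc with rfl | hc
    · exact h.1
    · exact h.1.trans ((List.pairwise_cons.mp ih).1 c hc)

theorem getElem_inj_of_chainLt {α : Type} {l : List (ℕ × α)} (h : chainLt l = true)
    (i j : Fin l.length) (e : l[i].1 = l[j].1) : i = j := by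
  have hp := List.pairwise_iff_getElem.mp (pairwise_of_chainLt h)
  rcases lt_trichotomy i.1 j.1 with hij | hij | hij
  · exact absurd e (Nat.ne_of_lt (hp _ _ i.2 j.2 hij))
  · exact Fin.ext hij
  · exact absurd e (Nat.ne_of_gt (hp _ _ j.2 i.2 hij))

/-- distinct values on elements of a subgroup bound a set fixing the values -/
theorem fibre_le (S : Subgroup PH) (C : Set PH) (hC : C ⊆ S) (f : PH → ℕ)
    (hf : ∀ c ∈ C, ∀ u ∈ S, f (c * u) = f u) {m : ℕ} (u : Fin m → PH) (hu : ∀ i, u i ∈ S)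
    (hinj : ∀ i j, f (u i) = f (u j) → i = j) : m * Nat.card C ≤ Nat.card ↥S := by
  refine (le_of_eq (show m * Nat.card C = Nat.card (Fin m × C) by
    rw [Nat.card_prod, Nat.card_fin])).trans (Nat.card_le_card_of_injective
    (fun p : Fin m × C => (⟨p.2.1 * u p.1, S.mul_mem (hC p.2.2) (hu _)⟩ : ↥S)) ?_)
  rintro ⟨i, c, hc⟩ ⟨j, c', hc'⟩ e
  have e' : c * u i = c' * u j := congrArg Subtype.val e
  obtain rfl : i = j := hinj i j (by rw [← hf c hc _ (hu i), e', hf c' hc' _ (hu j)])
  obtain rfl : c = c' := mul_right_cancel e'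
  rfl

/-- the elements of a subgroup commuting with `a` are the listed ones -/
theorem commute_listed (S : Subgroup PH) (a : PH) {m k : ℕ} (hS : Nat.card ↥S ≤ m * k) (hm : 0 < m)
    (u : Fin m → PH) (hu : ∀ i, u i ∈ S)
    (hinj : ∀ i j, keyP ((u i)⁻¹ * a * u i) = keyP ((u j)⁻¹ * a * u j) → i = j)
    (v : Fin k → PH) (hv : ∀ i, v i ∈ S ∧ Commute (v i) a)
    (vinj : ∀ i j, keyP (v i) = keyP (v j) → i = j)
    {x : PH} (hx : x ∈ S) (hxa : Commute x a) : ∃ i, v i = x := by
  obtain ⟨C, hCdef⟩ : ∃ C : Set PH, C = {c | c ∈ S ∧ Commute c a} := ⟨_, rfl⟩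
  have hle := fibre_le S C (by rw [hCdef]; exact fun c hc => hc.1)
    (fun w => keyP (w⁻¹ * a * w)) (fun c hc w _ => by
      rw [hCdef] at hc
      congr 1
      calc (c * w)⁻¹ * a * (c * w) = w⁻¹ * (c⁻¹ * (a * c)) * w := by group
        _ = w⁻¹ * a * w := by rw [← hc.2.eq, inv_mul_cancel_left]) u hu hinj
  have hCk : Nat.card C ≤ k := Nat.le_of_mul_le_mul_left (hle.trans hS) hm
  obtain ⟨w, hw⟩ : ∃ w : Fin k → C, ∀ i, (w i : PH) = v i :=
    ⟨fun i => ⟨v i, by rw [hCdef]; exact hv i⟩, fun _ => rfl⟩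
  have winj : Function.Injective w := fun i j e => vinj i j (by rw [← hw, ← hw, e])
  have hbij : Function.Bijective w := winj.bijective_of_nat_card_le (by rwa [Nat.card_fin])
  obtain ⟨i, hi⟩ := hbij.2 ⟨x, by rw [hCdef]; exact ⟨hx, hxa⟩⟩
  exact ⟨i, by rw [← hw, hi]⟩

/-- the stabiliser of the point `0` -/
def stab0 : Subgroup PH where
  carrier := {x | x.1.unop valid.zero = valid.zero}
  one_mem' := rfl
  mul_mem' {x y} hx hy := by
    show (x.1 * y.1).unop valid.zero = valid.zero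
    rw [valid.unop_mul_apply, hx, hy]
  inv_mem' {x} hx := by
    show (x.1)⁻¹.unop valid.zero = valid.zero
    rw [MulOpposite.unop_inv, Equiv.Perm.inv_eq_iff_eq]
    exact hx.symm

theorem mem_pU {x : PH} (hx : x ∈ stab0) : x.1 ∈ valid.grp (gensOf uChain) := by
  obtain ⟨w, hw, hwe⟩ := lowValid.exists_word x
  have h0 : space.C.run 0 w = 0 := by
    have e := valid.pgen_apply hw valid.zero
    rw [hwe, show x.1.unop valid.zero = valid.zero from hx] at e
    exact e.symm
  have h := valid.mem_of_fix invOK subs_mem hw h0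
  rwa [hwe] at h

theorem card_stab0 : Nat.card ↥stab0 ≤ 126000 := by
  rw [← card_pU]
  exact Nat.card_le_card_of_injective (fun x => (⟨x.1.1, mem_pU x.2⟩ : ↥(valid.grp (gensOf uChain))))
    fun x y e => Subtype.ext (Subtype.ext (congrArg (fun z => z.1) e))

theorem mem_stab0_word {w : List ℕ} (hw : wlt w = true) (h : space.C.run 0 w = 0) :
    wordP w ∈ stab0 :=
  Fin.ext ((valid.pgen_apply (wlt_iff.mp hw) valid.zero).trans h)

theorem revInv_wordP {w : List ℕ} : wordP (space.C.revInv w) = (wordP w)⁻¹ :=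
  Subtype.ext ((valid.model invOK ⊤ fun _ _ => trivial).revInv_eq w)

theorem key_conj {w a : List ℕ} (hw : wlt w = true) (ha : wlt a = true) {n : ℕ}
    (h : Nat.beq (keyW (space.C.revInv w ++ a ++ w)) n = true) :
    keyP ((wordP w)⁻¹ * wordP a * wordP w) = n := by
  rw [← revInv_wordP, ← wordP_append, ← wordP_append, keyP_word, Nat.eq_of_beq_eq_true h]
  intro g hg
  simp only [List.mem_append] at hg
  rcases hg with (hg | hg) | hg
  · exact revInv_lt5 (wlt_iff.mp hw) g hg
  · exact wlt_iff.mp ha g hg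
  · exact wlt_iff.mp hw g hg

theorem commute_word {u v : List ℕ} (h : sameOK (u ++ v) (v ++ u) = true) :
    Commute (wordP u) (wordP v) := by
  have e := wordP_of_sameOK h
  rwa [wordP_append, wordP_append] at e

/-- the image of `0` -/
noncomputable def pt0 (x : PH) : ℕ := img x valid.zero

theorem wA_lt : wlt wA = true := by decide +kernel

theorem div_stab0 {p g : PH} (h : g.1.unop valid.zero = p.1.unop valid.zero) :
    p * g⁻¹ ∈ stab0 := by
  show (p.1 * (g⁻¹).1).unop valid.zero = valid.zero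
  rw [valid.unop_mul_apply, ← h, ← valid.unop_mul_apply, Subgroup.coe_inv, mul_inv_cancel]
  rfl

theorem w0_eq : wordP w0 = wordP wA * iP := by
  have h := centA_ok
  simp only [centAOK, Bool.and_eq_true] at h
  rw [wordP_of_sameOK h.1.1.1.1.1.1.1.1.1, wordP_append]
  rfl

theorem commute_wA {p : PH} (hp : Commute p (wordP w0)) : Commute p (wordP wA) := by
  have e : wordP wA = wordP w0 * iP := by rw [w0_eq, mul_assoc, iP_sq, mul_one]
  rw [e]
  exact hp.mul_right (iP_comm p).symm

/-- An element commuting with `w0` is in the group of the listed generators. -/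
theorem cent_w0 {p : PH} (hp : Commute p (wordP w0)) :
    p ∈ Subgroup.closure {x : PH | ∃ w ∈ gY, wordP w = x} := by
  have h := centA_ok
  simp only [centAOK, Bool.and_eq_true, List.all_eq_true] at h
  obtain ⟨⟨⟨⟨⟨⟨⟨⟨⟨-, hA0⟩, hfix⟩, htree⟩, hconj⟩, hcent⟩, hc1⟩, hc2⟩, hl1⟩, hl2⟩ := h
  have hl1' : conjA.length = 525 := Nat.eq_of_beq_eq_true hl1
  have hl2' : centA.length = 240 := Nat.eq_of_beq_eq_true hl2
  have hpa := commute_wA hp
  have hwA := mem_stab0_word wA_lt (Nat.eq_of_beq_eq_true hA0)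
  have hr : space.C.run (pt0 p) wA = pt0 p := by
    have e := congrArg (fun x : PH => img x valid.zero) hpa.eq
    simp only [img_mul, show (wordP wA).1.unop valid.zero = valid.zero from hwA] at e
    rw [img_word (wlt_iff.mp wA_lt)] at e
    exact e
  have h1 := Cert.allBelow_spec hfix (pt0 p) (p.1.unop valid.zero).2
  simp only [strict_eq, hr, Nat.beq_refl, Bool.not_true, Bool.false_or, List.any_eq_true] at h1
  obtain ⟨e, he, hre⟩ := h1
  obtain ⟨⟨hlt, himg⟩, hcomm⟩ := htree e he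
  have hg : (wordP (joinW gY e.2)).1.unop valid.zero = p.1.unop valid.zero := Fin.ext
    (((img_word (wlt_iff.mp hlt) valid.zero).trans (Nat.eq_of_beq_eq_true himg)).trans
      (Nat.eq_of_beq_eq_true hre))
  have hu : p * (wordP (joinW gY e.2))⁻¹ ∈ stab0 := div_stab0 hg
  obtain ⟨i, hi⟩ := commute_listed stab0 (wordP wA) (m := conjA.length) (k := centA.length)
    (card_stab0.trans (by rw [hl1', hl2'])) (by rw [hl1']; norm_num)
    (fun i => wordP conjA[i].2)
    (fun i => mem_stab0_word (hconj _ (List.getElem_mem i.2)).1.1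
      (Nat.eq_of_beq_eq_true (hconj _ (List.getElem_mem i.2)).1.2))
    (fun i j e' => getElem_inj_of_chainLt hc1 i j (by
      obtain ⟨⟨a1, -⟩, a3⟩ := hconj _ (List.getElem_mem i.2)
      obtain ⟨⟨b1, -⟩, b3⟩ := hconj _ (List.getElem_mem j.2)
      exact ((key_conj a1 wA_lt a3).symm.trans e').trans (key_conj b1 wA_lt b3)))
    (fun i => wordP (joinW gY centA[i].2))
    (fun i => ⟨mem_stab0_word (hcent _ (List.getElem_mem i.2)).1.1.1
      (Nat.eq_of_beq_eq_true (hcent _ (List.getElem_mem i.2)).1.1.2),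
      commute_word (hcent _ (List.getElem_mem i.2)).2⟩)
    (fun i j e' => getElem_inj_of_chainLt hc2 i j (by
      obtain ⟨⟨⟨a1, -⟩, a3⟩, -⟩ := hcent _ (List.getElem_mem i.2)
      obtain ⟨⟨⟨b1, -⟩, b3⟩, -⟩ := hcent _ (List.getElem_mem j.2)
      simp only [Fin.getElem_fin] at e' ⊢
      rw [keyP_word (wlt_iff.mp a1), keyP_word (wlt_iff.mp b1)] at e'
      exact ((Nat.eq_of_beq_eq_true a3).symm.trans e').trans (Nat.eq_of_beq_eq_true b3)))
    hu (hpa.mul_left (commute_word hcomm).inv_left)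
  rw [show p = p * (wordP (joinW gY e.2))⁻¹ * wordP (joinW gY e.2) by group, ← hi]
  exact mul_mem (wordP_mem_closure _) (wordP_mem_closure _)

theorem mask_inv {x : PPerm} (hx : x ∈ valid.grp (gensOf uChain)) :
    ∀ r : Fin space.C.N, Nat.testBit qMask r = true → Nat.testBit qMask (x.unop r) = true := by
  have h := centD_ok
  simp only [centDOK, Bool.and_eq_true, List.all_eq_true] at h
  have hcl := h.1.1.1.1.1.1.1.1.1.1.1.2
  rw [← Subgroup.mem_toSubmonoid, Valid.grp, Subgroup.closure_toSubmonoid_of_finite] at hx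
  induction hx using Submonoid.closure_induction with
  | mem y hy =>
    obtain ⟨g, hg, rfl⟩ := hy
    intro r hr
    have h1 := Cert.allBelow_spec (hcl g hg) r r.2
    simp only [strict_eq, hr, Bool.not_true, Bool.false_or] at h1
    rwa [valid.pev_apply (uGens g hg).1]
  | one => exact fun r hr => hr
  | mul a b _ _ ha hb => intro r hr; rw [valid.unop_mul_apply]; exact hb _ (ha r hr)

/-- An element commuting with `wD` is in the group of the listed generators. -/
theorem cent_wD {p : PH} (hp : Commute p (wordP wD)) :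
    p ∈ Subgroup.closure {x : PH | ∃ w ∈ gDW, wordP w = x} := by
  have h := centD_ok
  simp only [centDOK, Bool.and_eq_true, List.all_eq_true] at h
  obtain ⟨⟨⟨⟨⟨⟨⟨⟨⟨⟨⟨⟨⟨⟨hDlt, hD0⟩, hq⟩, -⟩, hpt⟩, htree⟩, horb⟩, hconj⟩, hcent⟩, hc0⟩, hc1⟩, hc2⟩,
    hl0⟩, hl1⟩, hl2⟩ := h
  have hl0' : qOrbit.length = 50 := Nat.eq_of_beq_eq_true hl0
  have hl1' : conjD.length = 105 := Nat.eq_of_beq_eq_true hl1
  have hl2' : centD.length = 24 := Nat.eq_of_beq_eq_true hl2
  obtain ⟨q, hqdef⟩ : ∃ q : Fin space.C.N, q = (wordP wD).1.unop valid.zero := ⟨_, rfl⟩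
  have hqv : (q : ℕ) = qPt :=
    (congrArg Fin.val hqdef).trans ((img_word (wlt_iff.mp hDlt) valid.zero).trans
      (Nat.eq_of_beq_eq_true hD0))
  obtain ⟨r, hr⟩ : ∃ r : Fin space.C.N, r = p.1.unop valid.zero := ⟨_, rfl⟩
  have h1 := Cert.allBelow_spec hpt r r.2
  simp only [strict_eq, Bool.and_eq_true, Bool.or_eq_true, Bool.not_eq_true', List.any_eq_true] at h1
  obtain ⟨⟨hwlt, hw0⟩, hcase⟩ := h1
  have hwr : (wordP (ptWord.getD r [])).1.unop valid.zero = r :=
    Fin.ext ((img_word (wlt_iff.mp hwlt) valid.zero).trans (Nat.eq_of_beq_eq_true hw0))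
  obtain ⟨u, hu⟩ : ∃ u, u = p * (wordP (ptWord.getD r []))⁻¹ := ⟨_, rfl⟩
  have hu0 : u ∈ stab0 := hu ▸ div_stab0 (hwr.trans hr)
  have hdp : p.1.unop q = (wordP wD).1.unop r := by
    rw [hqdef, hr, ← valid.unop_mul_apply, ← valid.unop_mul_apply,
      show (wordP wD).1 * p.1 = p.1 * (wordP wD).1 from congrArg Subtype.val hp.eq.symm]
  have hmask := mask_inv (mem_pU hu0) q (by rw [hqv]; exact hq)
  have huq : (u.1.unop q : ℕ) =
      space.C.run r (wD ++ space.C.revInv (ptWord.getD r [])) := by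
    rw [hu, Subgroup.coe_mul, valid.unop_mul_apply, hdp, ← valid.unop_mul_apply]
    rw [← revInv_wordP, ← Subgroup.coe_mul, ← wordP_append]
    exact img_word (fun g hg => (List.mem_append.mp hg).elim (wlt_iff.mp hDlt g)
      (revInv_lt5 (wlt_iff.mp hwlt) g)) r
  rw [huq] at hmask
  obtain ⟨e, he, hre⟩ := hcase.resolve_left (fun h => Bool.noConfusion (hmask.symm.trans h))
  obtain ⟨⟨hlt, himg⟩, hcomm⟩ := htree e he
  have hg : (wordP (joinW gDW e.2)).1.unop valid.zero = r := Fin.ext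
    (((img_word (wlt_iff.mp hlt) valid.zero).trans (Nat.eq_of_beq_eq_true himg)).trans
      (Nat.eq_of_beq_eq_true hre))
  obtain ⟨v, hv⟩ : ∃ v, v = p * (wordP (joinW gDW e.2))⁻¹ := ⟨_, rfl⟩
  have hv0 : v ∈ stab0 := hv ▸ div_stab0 (hg.trans hr)
  have hvd : Commute v (wordP wD) := hv ▸ hp.mul_left (commute_word hcomm).inv_left
  have hvq : v.1.unop q = q := by
    rw [hqdef, ← valid.unop_mul_apply, ← Subgroup.coe_mul, ← hvd.eq, Subgroup.coe_mul,
      valid.unop_mul_apply, show v.1.unop valid.zero = valid.zero from hv0]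
  let S : Subgroup PH :=
    { carrier := {x | x ∈ stab0 ∧ x.1.unop q = q}
      one_mem' := ⟨one_mem _, rfl⟩
      mul_mem' := fun {x y} hx hy => ⟨mul_mem hx.1 hy.1, by
        show (x.1 * y.1).unop q = q
        rw [valid.unop_mul_apply, hx.2, hy.2]⟩
      inv_mem' := fun {x} hx => ⟨inv_mem hx.1, by
        show (x.1)⁻¹.unop q = q
        rw [MulOpposite.unop_inv, Equiv.Perm.inv_eq_iff_eq]; exact hx.2.symm⟩ }
  have memS : ∀ {w : List ℕ}, wlt w = true → Nat.beq (space.C.run 0 w) 0 = true →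
      Nat.beq (space.C.run qPt w) qPt = true → wordP w ∈ S := fun {w} a b c =>
    ⟨mem_stab0_word a (Nat.eq_of_beq_eq_true b), Fin.ext
      ((img_word (wlt_iff.mp a) q).trans (by rw [hqv, Nat.eq_of_beq_eq_true c]))⟩
  have hS : Nat.card ↥S ≤ conjD.length * centD.length := by
    have hle := fibre_le stab0 (S : Set PH) (fun x hx => hx.1) (fun x => img x q)
      (fun c hc w _ => by rw [img_mul, hc.2])
      (fun i : Fin qOrbit.length => wordP (joinW uW qOrbit[i].2))
      (fun i => mem_stab0_word (horb _ (List.getElem_mem i.2)).1.1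
        (Nat.eq_of_beq_eq_true (horb _ (List.getElem_mem i.2)).1.2))
      (fun i j e' => getElem_inj_of_chainLt hc0 i j (by
        obtain ⟨⟨a1, -⟩, a3⟩ := horb _ (List.getElem_mem i.2)
        obtain ⟨⟨b1, -⟩, b3⟩ := horb _ (List.getElem_mem j.2)
        simp only [Fin.getElem_fin] at e' ⊢
        rw [img_word (wlt_iff.mp a1), img_word (wlt_iff.mp b1), hqv] at e'
        exact ((Nat.eq_of_beq_eq_true a3).symm.trans e').trans (Nat.eq_of_beq_eq_true b3)))
    rw [hl0'] at hle
    rw [hl1', hl2']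
    have := card_stab0
    have e50 : Nat.card (S : Set PH) = Nat.card ↥S := rfl
    omega
  obtain ⟨i, hi⟩ := commute_listed S (wordP wD) (m := conjD.length) (k := centD.length)
    hS (by rw [hl1']; norm_num)
    (fun i => wordP (joinW qStabW conjD[i].2))
    (fun i => by
      obtain ⟨⟨⟨a1, a2⟩, a3⟩, -⟩ := hconj _ (List.getElem_mem i.2)
      exact memS a1 a2 a3)
    (fun i j e' => getElem_inj_of_chainLt hc1 i j (by
      obtain ⟨⟨⟨a1, -⟩, -⟩, a3⟩ := hconj _ (List.getElem_mem i.2)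
      obtain ⟨⟨⟨b1, -⟩, -⟩, b3⟩ := hconj _ (List.getElem_mem j.2)
      exact ((key_conj a1 hDlt a3).symm.trans e').trans (key_conj b1 hDlt b3)))
    (fun i => wordP (joinW gDW centD[i].2))
    (fun i => by
      obtain ⟨⟨⟨⟨a1, a2⟩, a3⟩, -⟩, a5⟩ := hcent _ (List.getElem_mem i.2)
      exact ⟨memS a1 a2 a3, commute_word a5⟩)
    (fun i j e' => getElem_inj_of_chainLt hc2 i j (by
      obtain ⟨⟨⟨⟨a1, -⟩, -⟩, a3⟩, -⟩ := hcent _ (List.getElem_mem i.2)
      obtain ⟨⟨⟨⟨b1, -⟩, -⟩, b3⟩, -⟩ := hcent _ (List.getElem_mem j.2)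
      simp only [Fin.getElem_fin] at e' ⊢
      rw [keyP_word (wlt_iff.mp a1), keyP_word (wlt_iff.mp b1)] at e'
      exact ((Nat.eq_of_beq_eq_true a3).symm.trans e').trans (Nat.eq_of_beq_eq_true b3)))
    ⟨hv0, hvq⟩ hvd
  rw [show p = v * wordP (joinW gDW e.2) by rw [hv]; group, ← hi]
  exact mul_mem (wordP_mem_closure _) (wordP_mem_closure _)

end CfsgLib.HNType.TwoB
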