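import Cfsg.Agent.Lib.HNType.TwoB.Words
import Cfsg.Agent.Lib.HNType.TwoB.CentData

/-!
Two centralisers in the group on 1408 points: definitions of the checks.
-/

set_option autoImplicit false
set_option maxRecDepth 10000

namespace CfsgLib.HNType.TwoB

open CfsgLib.CosetEnum CfsgLib.DCoset CfsgLib.DCoset.Space CfsgLib.HN

/-- increasing first entries -/
noncomputable def chainLt {α : Type} : List (ℕ × α) → Bool
  | [] => true
  | [_] => true
  | a :: b :: l => Nat.blt a.1 b.1 && chainLt (b :: l)

/-- a product of listed words -/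
def joinW (ws : List (List ℕ)) (js : List ℕ) : List ℕ := js.flatMap fun j => ws.getD j []

/-- the six images of a word as one number -/
noncomputable def keyW (w : List ℕ) : ℕ :=
  space.C.run (basePt 0) w + 4096 * (space.C.run (basePt 1) w + 4096 * (space.C.run (basePt 2) w +
    4096 * (space.C.run (basePt 3) w + 4096 * (space.C.run (basePt 4) w + 4096 * space.C.run (basePt 5) w))))

/-- the letters of a word -/
noncomputable def wlt (w : List ℕ) : Bool := w.all fun g => Nat.blt g 5

/-- the words of the stabiliser of `0` -/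
def uW : List (List ℕ) := [[2], [1, 2, 0]]

/-- generators of the centraliser of `wD` -/
def gDW : List (List ℕ) := dGen.map Prod.fst

/-- the checks for `wA` -/
noncomputable def centAOK : Bool :=
  sameOK w0 (wA ++ [0, 0]) && Nat.beq (space.C.run 0 wA) 0 &&
  (Cert.allBelow 1408 fun r => strict r fun r =>
    !Nat.beq (space.C.run r wA) r || fixTree.any fun e => Nat.beq e.1 r) &&
  (fixTree.all fun e => wlt (joinW gY e.2) && Nat.beq (space.C.run 0 (joinW gY e.2)) e.1 &&
    sameOK (joinW gY e.2 ++ wA) (wA ++ joinW gY e.2)) &&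
  (conjA.all fun e => wlt e.2 && Nat.beq (space.C.run 0 e.2) 0 &&
    Nat.beq (keyW (space.C.revInv e.2 ++ wA ++ e.2)) e.1) &&
  (centA.all fun e => wlt (joinW gY e.2) && Nat.beq (space.C.run 0 (joinW gY e.2)) 0 &&
    Nat.beq (keyW (joinW gY e.2)) e.1 && sameOK (joinW gY e.2 ++ wA) (wA ++ joinW gY e.2)) &&
  chainLt conjA && chainLt centA && Nat.beq conjA.length 525 && Nat.beq centA.length 240

/-- the checks for `wD` -/
noncomputable def centDOK : Bool :=
  wlt wD && Nat.beq (space.C.run 0 wD) qPt && Nat.testBit qMask qPt &&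
  ((gensOf uChain).all fun g => Cert.allBelow 1408 fun x => strict x fun x =>
    !Nat.testBit qMask x || Nat.testBit qMask (space.app g.1 x)) &&
  (Cert.allBelow 1408 fun r => strict r fun r =>
    wlt (ptWord.getD r []) && Nat.beq (space.C.run 0 (ptWord.getD r [])) r &&
    (!Nat.testBit qMask (space.C.run r (wD ++ space.C.revInv (ptWord.getD r []))) ||
      dTree.any fun e => Nat.beq e.1 r)) &&
  (dTree.all fun e => wlt (joinW gDW e.2) && Nat.beq (space.C.run 0 (joinW gDW e.2)) e.1 &&
    sameOK (joinW gDW e.2 ++ wD) (wD ++ joinW gDW e.2)) &&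
  (qOrbit.all fun e => wlt (joinW uW e.2) && Nat.beq (space.C.run 0 (joinW uW e.2)) 0 &&
    Nat.beq (space.C.run qPt (joinW uW e.2)) e.1) &&
  (conjD.all fun e => wlt (joinW qStabW e.2) && Nat.beq (space.C.run 0 (joinW qStabW e.2)) 0 &&
    Nat.beq (space.C.run qPt (joinW qStabW e.2)) qPt &&
    Nat.beq (keyW (space.C.revInv (joinW qStabW e.2) ++ wD ++ joinW qStabW e.2)) e.1) &&
  (centD.all fun e => wlt (joinW gDW e.2) && Nat.beq (space.C.run 0 (joinW gDW e.2)) 0 &&
    Nat.beq (space.C.run qPt (joinW gDW e.2)) qPt &&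
    Nat.beq (keyW (joinW gDW e.2)) e.1 && sameOK (joinW gDW e.2 ++ wD) (wD ++ joinW gDW e.2)) &&
  chainLt qOrbit && chainLt conjD && chainLt centD &&
  Nat.beq qOrbit.length 50 && Nat.beq conjD.length 105 && Nat.beq centD.length 24

end CfsgLib.HNType.TwoB
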