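import Cfsg.Agent.Lib.HNType.TwoB.Action

/-!
The kernel of the action on the codes and the involutions of the subgroup of generators.
-/

set_option autoImplicit false
set_option maxRecDepth 100000

namespace CfsgLib.HNType.TwoB

open CfsgLib.CosetEnum CfsgLib.DCoset CfsgLib.DCoset.Space CfsgLib.HN

/-- conjugate to `x²` -/
def TH (x : HNG) : Prop := IsConj x gi

/-- conjugate to `za` -/
def CH (x : HNG) : Prop := IsConj x za

theorem isConj_hn {x y g : HNG} (h : x * g = g * y) : IsConj x y :=
  isConj_iff.mpr ⟨g⁻¹, by rw [inv_inv, mul_assoc, h, inv_mul_cancel_left]⟩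

theorem fuseFacts :
    IsConj gz gi ∧ IsConj (prodW gen wA) gi ∧ IsConj (prodW gen wD) za ∧
    IsConj (prodW gen wB) gi ∧
    (∀ g, g = val gB → prodW gen wB * g = g * gi ∧ za * g = g * prodW gen wD) := by
  have h := fuse_ok
  simp only [fuseOK, Bool.and_eq_true] at h
  obtain ⟨⟨⟨⟨h1, h2⟩, h3⟩, h4⟩, h5⟩ := h
  have e1 := val_eq_of_idOK h1
  have e2 := val_eq_of_idOK h2
  have e3 := val_eq_of_idOK h3
  have e4 := val_eq_of_idOK h4
  have e5 := val_eq_of_idOK h5
  have w00 : val [some [0, 0]] = gi := (val_word (by decide)).trans gi_word.symm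
  have wz : val [some [4]] = gz := (val_word (by decide)).trans (by simp [gen])
  simp only [val_append, w00, wz] at e1 e2 e3 e4 e5
  rw [val_word (show ∀ g ∈ wA, g < 5 by decide +kernel)] at e2
  rw [val_word (show ∀ g ∈ wB, g < 5 by decide +kernel)] at e3
  rw [val_word (show ∀ g ∈ wD, g < 5 by decide +kernel)] at e4 e5
  exact ⟨isConj_hn e1, isConj_hn e2, isConj_hn e5, isConj_hn e3,
    fun g hg => by subst hg; exact ⟨e3, e4⟩⟩

/-- the representative of the second type -/
noncomputable def bL : ↥cL := gL 1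

/-- the representative of the class of 225 -/
noncomputable def xL : ↥cL := gL 2 * gL 2 * qc 4

/-- the product of generators -/
noncomputable def gWord (w : List ℕ) : ↥cL := (w.map gL).prod

/-- the representative of the class of 30 -/
noncomputable def x30L : ↥cL := gWord w30 * qc x30Code

theorem gWord_cons (i : ℕ) (w : List ℕ) : gWord (i :: w) = gL i * gWord w := by simp [gWord]

theorem gWord_mem {w : List ℕ} (hw : ∀ i ∈ w, i < 4) : gWord w ∈ M0 := by
  induction w with
  | nil => exact one_mem _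
  | cons i w ih =>
    rw [gWord_cons]
    exact mul_mem (mem_gens i (hw i List.mem_cons_self))
      (ih fun j hj => hw j (List.mem_cons_of_mem _ hj))

theorem gWord_val : ∀ {w : List ℕ}, (∀ i ∈ w, i < 4) → (gWord w : HNG) = val (w.flatMap genS)
  | [], _ => by simp [gWord, val_nil]
  | i :: w, h => by
    rw [gWord_cons, Subgroup.coe_mul, List.flatMap_cons, val_append, gL_val (h i List.mem_cons_self),
      gWord_val fun j hj => h j (List.mem_cons_of_mem _ hj)]

theorem act_gWord : ∀ {w : List ℕ}, (∀ i ∈ w, i < 4) → Act qs zL (gWord w) (matProd w)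
  | [], _ => act_id
  | i :: w, h => by
    rw [gWord_cons, show matProd (i :: w) = mmul (matAt i) (matProd w) from rfl]
    exact act_comp (act_gen (h i List.mem_cons_self))
      (act_gWord fun j hj => h j (List.mem_cons_of_mem _ hj))

theorem smallChk : (∀ i ∈ w30, i < 4) ∧ wlt wB = true ∧ wlt wX = true ∧ gY.length = 3 ∧
    eqM (rootMat 1) (mmul (mmul (matAt 2) (matAt 2)) idM) = true ∧
    eqM (rootMat 2) (mmul (matProd w30) idM) = true ∧ x30Code < 256 := by decide +kernel

theorem gY_lt : ∀ w ∈ gY, ∀ g ∈ w, g < 5 := by decide +kernel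

theorem gLY_val {i : ℕ} (hi : i < 3) : (gL i : HNG) = prodW gen (gY.getD i []) := by
  rw [gL_val (by omega), genS, if_pos hi]
  refine val_word fun g hg => gY_lt _ ?_ g hg
  rw [List.getD_eq_getElem _ _ (by rw [smallChk.2.2.2.1]; exact hi)]
  exact List.getElem_mem _

theorem bL_val : (bL : HNG) = prodW gen wB := by
  rw [bL, gLY_val (by norm_num)]
  have h : gY.getD 1 [] = wB := by decide +kernel
  rw [h]

theorem xL_val : (xL : HNG) = prodW gen wX := by
  have h := repFacts_ok
  simp only [repFactsOK, Bool.and_eq_true] at h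
  rw [xL, Subgroup.coe_mul, Subgroup.coe_mul, gLY_val (by norm_num), qc_word (by norm_num),
    ← prodW_append, ← prodW_append, hn_of_same (show sameOK wX (gY.getD 2 [] ++ gY.getD 2 [] ++ codeW 4) = true by decide +kernel)]

/-- representative `r` -/
noncomputable def rootL : ℕ → ↥cL
  | 0 => bL
  | 1 => xL
  | _ => x30L

theorem rootL_act : ∀ r < 3, Act qs zL (rootL r) (rootMat r) := by
  intro r hr
  interval_cases r
  · exact act_gen (by norm_num)
  · exact act_congr (act_comp (act_comp (act_gen (by norm_num)) (act_gen (by norm_num))) (act_code 4))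
      (eqM_iff.mpr fun i hi => (eqM_iff.mp smallChk.2.2.2.2.1 i hi).symm)
  · exact act_congr (act_comp (act_gWord smallChk.1) (act_code _))
      (eqM_iff.mpr fun i hi => (eqM_iff.mp smallChk.2.2.2.2.2.1 i hi).symm)

theorem rootL_mem_gens : bL ∈ M0 := mem_gens 1 (by norm_num)

/-- the subgroup of the first three generators -/
noncomputable def MY : Subgroup ↥cL := Subgroup.closure {x | ∃ i < 3, gL i = x}

/-- the representatives of the part of the first three generators -/
noncomputable def yL (k : ℕ) : ↥cL := gWord (yWord.getD k [])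

theorem sch_spec {k : ℕ} (hk : k < 120) : (∀ i ∈ yWord.getD k [], i < 3) ∧
    (k = 0 → yWord.getD k [] = []) ∧ (k ≠ 0 → eqM (matProd (yWord.getD k [])) idM = false) := by
  have h := Cert.allBelow_spec sch_ok k hk
  simp only [schOK, strict_eq, Bool.and_eq_true, List.all_eq_true, Nat.blt_eq] at h
  refine ⟨h.1.1, fun e => ?_, fun e => ?_⟩
  · have h2 := h.1.2
    subst e
    simpa using h2
  · have h2 := h.1.2
    rw [show Nat.beq k 0 = false by
      rw [← Bool.not_eq_true]; exact fun e' => e (Nat.eq_of_beq_eq_true e'), cond_false] at h2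
    simpa using h2

theorem yL_val {k : ℕ} (hk : k < 120) : (yL k : HNG) = prodW gen (yRep k) := by
  obtain ⟨hw, -, -⟩ := sch_spec hk
  rw [yL, yRep]
  generalize yWord.getD k [] = w at hw ⊢
  induction w with
  | nil => simp [gWord]
  | cons i w ih =>
    rw [gWord_cons, Subgroup.coe_mul, List.flatMap_cons, prodW_append, gLY_val (hw i List.mem_cons_self),
      ih fun j hj => hw j (List.mem_cons_of_mem _ hj)]

theorem MY_form {x : ↥cL} (hx : x ∈ MY) : ∃ k < 120, ∃ v < 256, ME x (yL k * qc v) := by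
  rw [← Subgroup.mem_toSubmonoid, MY, Subgroup.closure_toSubmonoid_of_finite] at hx
  induction hx using Submonoid.closure_induction_left with
  | one =>
    refine ⟨0, by norm_num, 0, by norm_num, ?_⟩
    rw [yL, (sch_spec (show 0 < 120 by norm_num)).2.1 rfl, qc_zero, mul_one]
    exact ModEq.refl _
  | mul_left y hy a _ ha =>
    obtain ⟨i, hi, rfl⟩ := hy
    obtain ⟨k, hk, v, hv, hav⟩ := ha
    have h := Cert.allBelow_spec sch_ok k hk
    simp only [schOK, strict_eq, Bool.and_eq_true, List.all_eq_true, List.mem_range, Nat.blt_eq] at h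
    obtain ⟨⟨hn, hc⟩, he⟩ := h.2 i hi
    generalize ySch.getD (3 * k + i) 0 = d at hn hc he
    have e : ME (gL i * yL k) (yL (d % 256) * qc ((d >>> 8) % 256)) := by
      refine modEq_of_val (Nat.testBit d 16) ?_
      have h2 := hn_of_same he
      rw [prodW_append, prodW_append, prodW_append] at h2
      rw [Subgroup.coe_mul, Subgroup.coe_mul, gLY_val hi, yL_val hk, yL_val hn, qc_word hc, h2]
      congr 1
      cases Nat.testBit d 16
      · rfl
      · exact za_word.symm
    refine ⟨_, hn, (d >>> 8) % 256 ^^^ v,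
      Nat.xor_lt_two_pow (n := 8) (Nat.mod_lt _ (by norm_num)) hv, ?_⟩
    have h3 := me_mul e (ModEq.refl (z := zL) (qc v))
    rw [mul_assoc, mul_assoc] at h3
    exact me_trans (me_mul (ModEq.refl (z := zL) (gL i)) hav)
      (me_trans h3 (me_mul (ModEq.refl (z := zL) _) (qc_xor _ v)))

theorem MY_of_commute {x : ↥cL} (hx : (x : HNG) ∈ subH) : x ∈ MY := by
  have hc : Commute (toP ⟨x, hx⟩) (wordP w0) := by
    have hw : ∀ g ∈ w0, g < 5 := by decide +kernel
    rw [← toP_subW hw]
    refine Commute.map (Subtype.ext ?_ : Commute (⟨x, hx⟩ : ↥subH) (subW w0 hw)) toP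
    show (x : HNG) * prodW gen w0 = prodW gen w0 * x
    rw [← za_word]
    exact mem_cL.mp x.2
  have key : ∀ p ∈ Subgroup.closure {x : PH | ∃ w ∈ gY, wordP w = x},
      ∃ y ∈ MY, ∃ h : (y : HNG) ∈ subH, toP ⟨y, h⟩ = p := by
    intro p hp
    induction hp using Subgroup.closure_induction with
    | mem p hp =>
      obtain ⟨w, hw, rfl⟩ := hp
      obtain ⟨i, hi, rfl⟩ := List.getElem_of_mem hw
      have hi3 : i < 3 := smallChk.2.2.2.1 ▸ hi
      have hl : ∀ g ∈ gY[i], g < 5 := gY_lt _ hw
      have e : (gL i : HNG) = prodW gen gY[i] := by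
        rw [gLY_val hi3, List.getD_eq_getElem _ _ hi]
        rfl
      refine ⟨gL i, Subgroup.subset_closure ⟨i, hi3, rfl⟩, e ▸ rig.prodW_mem hl, ?_⟩
      rw [show (⟨(gL i : HNG), e ▸ rig.prodW_mem hl⟩ : ↥subH) = subW gY[i] hl from Subtype.ext e,
        toP_subW]
      rfl
    | one => exact ⟨1, one_mem _, one_mem _, (congrArg toP (Subtype.ext rfl)).trans (map_one toP)⟩
    | mul a b _ _ ha hb =>
      obtain ⟨y, hy, h, e⟩ := ha
      obtain ⟨y', hy', h', e'⟩ := hb
      refine ⟨y * y', mul_mem hy hy', mul_mem h h', ?_⟩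
      rw [← e, ← e', ← map_mul]
      rfl
    | inv a _ ha =>
      obtain ⟨y, hy, h, e⟩ := ha
      refine ⟨y⁻¹, inv_mem hy, inv_mem h, ?_⟩
      rw [← e, ← map_inv]
      rfl
  obtain ⟨y, hy, h, e⟩ := key _ (cent_w0 hc)
  have e1 : x = y := Subtype.ext (congrArg Subtype.val (toP_injective e)).symm
  exact e1 ▸ hy

theorem q7_code : qL 7 = qc 128 := by rw [← qc_two_pow (k := 7) (by norm_num)]; norm_num

/-- the elements acting trivially are in the normal subgroup -/
theorem kernel_mem {x : ↥cL} (hx : Act qs zL x idM) : ∃ v < 256, ME x (qc v) := by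
  have h1 := hx 1 (by norm_num)
  rw [app8_idM (by norm_num)] at h1
  obtain ⟨w, hw, x', hx', hfix⟩ : ∃ w < 256, ∃ x', x' = qc w * x ∧ Commute x' (qc 1) := by
    rcases h1 with h1 | h1
    · exact ⟨0, by norm_num, x, by rw [qc_zero, one_mul], mul_inv_eq_iff_eq_mul.mp h1⟩
    · refine ⟨128, by norm_num, qc 128 * x, rfl, ?_⟩
      have h1' : x * code qs 1 * x⁻¹ = code qs 1 * zL := h1
      have e : qc 128 * x * qc 1 * (qc 128 * x)⁻¹ = qc 1 := by
        calc qc 128 * x * qc 1 * (qc 128 * x)⁻¹ = qc 128 * (x * qc 1 * x⁻¹) * (qc 128)⁻¹ := by group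
          _ = qc 128 * qc 1 * (zL * (qc 128)⁻¹) := by
            rw [show x * qc 1 * x⁻¹ = qc 1 * zL from h1']; group
          _ = qc 128 * qc 1 * (qc 128)⁻¹ * zL := by rw [← zL_central, mul_assoc (qc 128 * qc 1)]
          _ = qc 1 := by rw [← q7_code, t_code.2, mul_assoc, zL_sq, mul_one]
      exact mul_inv_eq_iff_eq_mul.mp e
  have hgi : (x' : HNG) ∈ subH := mem_subH_of_gi (by
    have h2 := congrArg Subtype.val hfix.eq
    rw [Subgroup.coe_mul, Subgroup.coe_mul, qc_one_val] at h2
    exact h2)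
  obtain ⟨k, hk, v, hv, hkv⟩ := MY_form (MY_of_commute hgi)
  have ha1 : Act qs zL x' (mmul idM idM) := hx' ▸ act_comp (act_code w) hx
  have hA : Act qs zL (yL k * qc v) (mmul (matProd (yWord.getD k [])) idM) :=
    act_comp (act_gWord fun i hi => ((sch_spec hk).1 i hi).trans (by norm_num)) (act_code v)
  have hA' : Act qs zL x' (mmul (matProd (yWord.getD k [])) idM) := fun u hu => by
    rcases hkv with e | e
    · rw [e]; exact hA u hu
    · have e2 : x' * code qs u * x'⁻¹ = yL k * qc v * code qs u * (yL k * qc v)⁻¹ := by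
        rw [e]
        calc yL k * qc v * zL * code qs u * (yL k * qc v * zL)⁻¹
            = yL k * qc v * (zL * code qs u) * zL⁻¹ * (yL k * qc v)⁻¹ := by group
          _ = _ := by rw [← zL_central (code qs u)]; group
      rw [e2]; exact hA u hu
  have hk0 : k = 0 := by
    by_contra hne
    have h2 := act_unique hA' ha1
    have h3 : eqM (matProd (yWord.getD k [])) idM = true := eqM_iff.mpr fun i hi => by
      have h4 := eqM_iff.mp h2 i hi
      rw [col_mmul _ _ hi, col_mmul _ _ hi, col_idM hi, app8_two_pow _ hi, app8_two_pow _ hi] at h4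
      rw [h4]
    rw [(sch_spec hk).2.2 hne] at h3
    exact Bool.noConfusion h3
  subst hk0
  rw [yL, (sch_spec hk).2.1 rfl, show gWord [] = 1 from rfl, one_mul] at hkv
  refine ⟨w ^^^ v, Nat.xor_lt_two_pow (n := 8) hw hv, ?_⟩
  have e : x = (qc w)⁻¹ * x' := by rw [hx', inv_mul_cancel_left]
  rw [e]
  exact me_trans (me_mul (qc_inv w) hkv) (qc_xor w v)

theorem minv_spec {i : ℕ} (hi : i < 4) :
    eqM (mmul (matAt i) (minvAt i)) idM = true ∧ eqM (mmul (minvAt i) (matAt i)) idM = true := by
  have h := minv_ok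
  simp only [minvOK, Bool.and_eq_true, List.all_eq_true, List.mem_range] at h
  exact h.2 i hi

theorem act_inv_gen {i : ℕ} (hi : i < 4) : Act qs zL (gL i)⁻¹ (minvAt i) := by
  intro v hv
  have h := act_gen hi (app8 (minvAt i) v) (app8_lt _ _)
  rw [← app8_mmul _ _ hv, app8_eqM (minv_spec hi).1, app8_idM hv] at h
  have h2 := me_conj (gL i)⁻¹ h
  rw [show (gL i)⁻¹ * (gL i * code qs (app8 (minvAt i) v) * (gL i)⁻¹) * (gL i)⁻¹⁻¹ =
    code qs (app8 (minvAt i) v) by group] at h2
  exact me_symm h2

/-- the class of the involution at position `j` -/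
def invClass (j : ℕ) : ℕ := if j < 60 then 0 else if j < 285 then 1 else 2

theorem inv_reduce : ∀ j, j < 315 → ∀ x : ↥cL, Act qs zL x (invAt j) →
    ∃ m ∈ M0, Act qs zL (m * x * m⁻¹) (rootMat (invClass j)) := by
  intro j
  induction j using Nat.strong_induction_on with
  | _ j ih =>
    intro hj x hx
    have h := Cert.allBelow_spec par_ok j hj
    simp only [parOK, strict_eq] at h
    split_ifs at h with h0 h60 h285
    · refine ⟨1, one_mem _, ?_⟩
      rw [one_mul, inv_one, mul_one, Nat.eq_of_beq_eq_true h0]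
      rw [Nat.eq_of_beq_eq_true h0] at hx h
      exact act_congr hx h
    · refine ⟨1, one_mem _, ?_⟩
      rw [one_mul, inv_one, mul_one, Nat.eq_of_beq_eq_true h60]
      rw [Nat.eq_of_beq_eq_true h60] at hx h
      exact act_congr hx h
    · refine ⟨1, one_mem _, ?_⟩
      rw [one_mul, inv_one, mul_one, Nat.eq_of_beq_eq_true h285]
      rw [Nat.eq_of_beq_eq_true h285] at hx h
      exact act_congr hx h
    · simp only [Bool.and_eq_true, Nat.blt_eq, Bool.or_eq_true, Bool.not_eq_true'] at h
      obtain ⟨⟨⟨⟨hi, hp⟩, h1⟩, h2⟩, hM⟩ := h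
      generalize invPar.getD j (9, 0) = e at hi hp h1 h2 hM
      have hx' : Act qs zL ((gL e.1)⁻¹ * x * gL e.1) (invAt e.2) := by
        have h3 := act_comp (act_comp (act_inv_gen hi) hx) (act_gen hi)
        refine fun v hv => ?_
        have h4 := h3 v hv
        rwa [app8_mmul _ _ hv, app8_mmul _ _ (app8_lt _ _), app8_eqM hM,
          app8_mmul _ _ (app8_lt _ _), app8_mmul _ _ (app8_lt _ _),
          ← app8_mmul _ _ hv, app8_eqM (minv_spec hi).2, app8_idM hv,
          ← app8_mmul _ _ (app8_lt _ _), app8_eqM (minv_spec hi).2,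
          app8_idM (app8_lt _ _)] at h4
      obtain ⟨m, hm, hme⟩ := ih e.2 hp (hp.trans hj) _ hx'
      refine ⟨m * (gL e.1)⁻¹, mul_mem hm (inv_mem (mem_gens _ hi)), ?_⟩
      have hc : invClass e.2 = invClass j := by
        simp only [invClass]
        rw [← Bool.not_eq_true, Nat.blt_eq] at h1 h2
        split_ifs <;> omega
      rw [← hc, show m * (gL e.1)⁻¹ * x * (m * (gL e.1)⁻¹)⁻¹ = m * ((gL e.1)⁻¹ * x * gL e.1) * m⁻¹ by
        group]
      exact hme

theorem act_sq {x : ↥cL} {A : ℕ} (hx : x * x = 1) (hA : Act qs zL x A) :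
    eqM (mmul A A) idM = true := act_unique (hx ▸ act_comp hA hA) act_id

theorem w_lt4 : ∀ i ∈ w30, i < 4 := smallChk.1

theorem rootL_sq : bL * bL = 1 ∧ xL * xL = 1 ∧ x30L * x30L = zL := by
  have h := repFacts_ok
  simp only [repFactsOK, Bool.and_eq_true] at h
  refine ⟨Subtype.ext ?_, Subtype.ext ?_, Subtype.ext ?_⟩
  · rw [Subgroup.coe_mul, bL_val, ← prodW_append, hn_of_same (show sameOK (wB ++ wB) [] = true by decide +kernel), prodW_nil]
    rfl
  · rw [Subgroup.coe_mul, xL_val, ← prodW_append, hn_of_same (show sameOK (wX ++ wX) [] = true by decide +kernel), prodW_nil]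
    rfl
  · have e := val_eq_of_idOK x30_ok
    rw [val_append] at e
    have e2 : (x30L : HNG) = val x30S := by
      rw [x30L, Subgroup.coe_mul, gWord_val w_lt4, x30S, val_append, val_codeS]
    rw [Subgroup.coe_mul, e2]
    exact e

theorem root_sq_me : ∀ r < 3, ME (rootL r * rootL r) 1 := by
  intro r hr
  interval_cases r
  · exact Or.inl rootL_sq.1
  · exact Or.inl rootL_sq.2.1
  · exact Or.inr (by rw [one_mul]; exact rootL_sq.2.2)

/-- an involution acting as a representative is conjugate to it up to the central involution -/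
theorem conj_root {r : ℕ} (hr : r < 3) {x : ↥cL} (hx2 : x * x = 1)
    (hx : Act qs zL x (rootMat r)) :
    ∃ f < 256, x = qc f * rootL r * (qc f)⁻¹ ∨ x = qc f * (rootL r * zL) * (qc f)⁻¹ := by
  have hR := rootL_act r hr
  have hsq : eqM (mmul (rootMat r) (rootMat r)) idM = true := act_sq hx2 hx
  obtain ⟨v, hv, hxv⟩ := kernel_mem (act_congr (act_comp hR hx) hsq)
  have hx1 : ME x (rootL r * qc v) := by
    have h1 := me_mul (ModEq.refl (z := zL) (rootL r)) hxv
    rw [← mul_assoc] at h1
    have h2 := me_mul (root_sq_me r hr) (ModEq.refl (z := zL) x)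
    rw [one_mul] at h2
    exact me_trans (me_symm h2) h1
  have hinv : ME (rootL r)⁻¹ (rootL r) := by
    have h1 := me_mul (ModEq.refl (z := zL) (rootL r)⁻¹) (root_sq_me r hr)
    rw [inv_mul_cancel_left, mul_one] at h1
    exact me_symm h1
  have hswap : ∀ u < 256, ME (rootL r * qc u) (qc (app8 (rootMat r) u) * rootL r) := fun u hu => by
    have h1 := me_mul (hR u hu) (ModEq.refl (z := zL) (rootL r))
    rwa [inv_mul_cancel_right] at h1
  have hfix : app8 (rootMat r) v = v := by
    have h1 := me_mul hx1 hx1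
    rw [hx2, mul_assoc] at h1
    have h2 : ME (rootL r * (qc v * (rootL r * qc v))) (qc (app8 (rootMat r) v ^^^ v)) := by
      rw [show rootL r * (qc v * (rootL r * qc v)) = (rootL r * qc v) * (rootL r * qc v) by group]
      refine me_trans (me_mul (hswap v hv) (ModEq.refl (z := zL) _)) ?_
      rw [show qc (app8 (rootMat r) v) * rootL r * (rootL r * qc v) =
        qc (app8 (rootMat r) v) * ((rootL r * rootL r) * qc v) by group]
      have h3 := me_mul (root_sq_me r hr) (ModEq.refl (z := zL) (qc v))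
      rw [one_mul] at h3
      exact me_trans (me_mul (ModEq.refl (z := zL) _) h3) (qc_xor _ v)
    have h4 := me_symm (me_trans h1 h2)
    rw [← qc_zero] at h4
    exact Nat.xor_eq_zero_iff.mp (code_inj (Nat.xor_lt_two_pow (n := 8) (app8_lt _ _) hv) (by norm_num) h4)
  obtain ⟨f, hf, hfv⟩ : ∃ f < 256, f ^^^ app8 (rootMat r) f = v := by
    have h := List.all_eq_true.mp fix_ok r (List.mem_range.mpr hr)
    simp only [fixOK, strict_eq, List.all_eq_true, List.mem_range] at h
    have h1 := h v hv
    rw [hfix, Nat.beq_refl, Bool.not_true, Bool.false_or] at h1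
    exact ⟨_, Nat.mod_lt _ (by norm_num), Nat.eq_of_beq_eq_true h1⟩
  refine ⟨f, hf, ?_⟩
  have h5 : ME (qc f * rootL r * (qc f)⁻¹) x := by
    refine me_trans (me_mul (ModEq.refl (z := zL) (qc f * rootL r)) (qc_inv f)) ?_
    refine me_trans ?_ (me_symm hx1)
    rw [mul_assoc]
    refine me_trans (me_mul (ModEq.refl (z := zL) (qc f)) (hswap f hf)) ?_
    rw [← mul_assoc]
    refine me_trans (me_mul (qc_xor f _) (ModEq.refl (z := zL) _)) ?_
    rw [hfv]
    have h6 := hswap v hv
    rw [hfix] at h6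
    exact me_symm h6
  rcases me_symm h5 with h | h
  · exact Or.inl h
  · refine Or.inr ?_
    rw [h, mul_assoc (qc f * rootL r), zL_central, ← mul_assoc, mul_assoc (qc f) (rootL r) zL]

theorem MY_le : MY ≤ M0 := by
  refine (Subgroup.closure_le _).mpr ?_
  rintro x ⟨i, hi, rfl⟩
  exact mem_gens i (by omega)

theorem zL_mem_M0 : zL ∈ M0 :=
  MY_le (MY_of_commute (za_word ▸ rig.prodW_mem (show ∀ g ∈ w0, g < 5 by decide +kernel) : za ∈ subH))

theorem codeWlt : ((List.range 128).all fun c => wlt (codeW c)) = true ∧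
    eqM (mats.getD 3 0) (matAt 3) = true ∧ col (matAt 3) 4 = 128 := by decide +kernel

theorem qc_low_mem {c : ℕ} (hc : c < 128) : qc c ∈ M0 := by
  have hw : ∀ g ∈ codeW c, g < 5 := by
    have h := List.all_eq_true.mp codeWlt.1 c (List.mem_range.mpr hc)
    simpa [wlt, List.all_eq_true] using h
  refine MY_le (MY_of_commute ?_)
  rw [qc_word hc]
  exact rig.prodW_mem hw

theorem Q0_le : Q0 ≤ M0 := by
  refine (Subgroup.closure_le _).mpr ?_
  rintro x (⟨k, hk, rfl⟩ | rfl)
  · rw [← qc_two_pow hk, SetLike.mem_coe]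
    rcases Nat.lt_or_ge k 7 with hk' | hk'
    · exact qc_low_mem (Nat.pow_lt_pow_right (by norm_num) hk' : 2 ^ k < 2 ^ 7)
    · obtain rfl : k = 7 := by omega
      have h := act_gen (show 3 < 4 by norm_num) (2 ^ 4) (by norm_num)
      rw [app8_two_pow _ (by norm_num), codeWlt.2.2] at h
      have h' : ME (gL 3 * qc (2 ^ 4) * (gL 3)⁻¹) (qc (2 ^ 7)) := h
      have hm : gL 3 * qc (2 ^ 4) * (gL 3)⁻¹ ∈ M0 :=
        mul_mem (mul_mem (mem_gens 3 (by norm_num)) (qc_low_mem (by norm_num)))
          (inv_mem (mem_gens 3 (by norm_num)))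
      rcases me_symm h' with e | e <;> rw [e]
      · exact hm
      · exact mul_mem hm zL_mem_M0
  · exact zL_mem_M0

end CfsgLib.HNType.TwoB
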