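import Mathlib

/-!
Products of generators of a group that is elementary abelian modulo a central involution.
-/

set_option autoImplicit false

namespace CfsgLib.HNType.TwoB

variable {G : Type*} [Group G] {z : G}

/-- equal up to the central involution -/
def ModEq (z x y : G) : Prop := x = y ∨ x = y * z

theorem ModEq.refl (x : G) : ModEq z x x := Or.inl rfl

variable (hz : ∀ g, g * z = z * g) (hz2 : z * z = 1)

include hz2 in
theorem ModEq.symm {x y : G} (h : ModEq z x y) : ModEq z y x := by
  rcases h with rfl | rfl
  · exact Or.inl rfl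
  · exact Or.inr (by rw [mul_assoc, hz2, mul_one])

include hz2 in
theorem ModEq.trans {x y w : G} (h : ModEq z x y) (h' : ModEq z y w) : ModEq z x w := by
  rcases h with rfl | rfl <;> rcases h' with rfl | rfl
  · exact Or.inl rfl
  · exact Or.inr rfl
  · exact Or.inr rfl
  · exact Or.inl (by rw [mul_assoc, hz2, mul_one])

include hz hz2 in
theorem ModEq.mul {x y x' y' : G} (h : ModEq z x y) (h' : ModEq z x' y') :
    ModEq z (x * x') (y * y') := by
  rcases h with rfl | rfl <;> rcases h' with rfl | rfl
  · exact Or.inl rfl
  · exact Or.inr (mul_assoc _ _ _).symm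
  · exact Or.inr (by rw [mul_assoc, ← hz, ← mul_assoc])
  · refine Or.inl ?_
    calc y * z * (y' * z) = y * (z * y') * z := by group
      _ = y * y' * (z * z) := by rw [← hz y']; group
      _ = y * y' := by rw [hz2, mul_one]

/-- the product selected by the bits -/
def bitProd : List G → List Bool → G
  | [], _ => 1
  | _ :: _, [] => 1
  | g :: gs, b :: bs => (bif b then g else 1) * bitProd gs bs

theorem bitProd_mem {gs : List G} {H : Subgroup G} (h : ∀ g ∈ gs, g ∈ H) :
    ∀ bs, bitProd gs bs ∈ H := by
  induction gs with
  | nil => intro bs; exact one_mem _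
  | cons g gs ih =>
    rintro (_ | ⟨b, bs⟩)
    · exact one_mem _
    · rw [bitProd]
      refine mul_mem ?_ (ih (fun x hx => h x (List.mem_cons_of_mem _ hx)) bs)
      cases b
      · exact one_mem _
      · exact h g List.mem_cons_self

include hz hz2 in
theorem bitProd_commute {g : G} {gs : List G} (h : ∀ x ∈ gs, ModEq z (x * g) (g * x)) :
    ∀ bs, ModEq z (bitProd gs bs * g) (g * bitProd gs bs) := by
  induction gs with
  | nil => intro bs; exact Or.inl (by simp [bitProd])
  | cons x gs ih =>
    rintro (_ | ⟨b, bs⟩)
    · exact Or.inl (by simp [bitProd])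
    · have h1 := ih (fun y hy => h y (List.mem_cons_of_mem _ hy)) bs
      cases b
      · simpa [bitProd] using h1
      · have h2 := (ModEq.refl (z := z) x).mul hz hz2 h1
        have h3 := (h x List.mem_cons_self).mul hz hz2 (ModEq.refl (z := z) (bitProd gs bs))
        simp only [bitProd, cond_true, mul_assoc] at h2 h3 ⊢
        exact h2.trans hz2 h3

include hz hz2 in
/-- the product of two selections selects the sum of the bits -/
theorem bitProd_mul : ∀ (gs : List G),
    gs.Pairwise (fun g x => ModEq z (x * g) (g * x)) → (∀ g ∈ gs, ModEq z (g * g) 1) →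
    ∀ bs cs : List Bool, bs.length = gs.length → cs.length = gs.length →
      ModEq z (bitProd gs bs * bitProd gs cs) (bitProd gs (List.zipWith xor bs cs))
  | [], _, _, bs, cs, _, _ => Or.inl (by simp [bitProd])
  | g :: gs, hp, hs, b :: bs, c :: cs, hb, hc => by
    rw [List.pairwise_cons] at hp
    simp only [List.length_cons, add_left_inj] at hb hc
    have ih := bitProd_mul gs hp.2 (fun x hx => hs x (List.mem_cons_of_mem _ hx)) bs cs hb hc
    have hcomm : ModEq z (bitProd gs bs * (bif c then g else 1)) ((bif c then g else 1) * bitProd gs bs) := by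
      cases c
      · exact Or.inl (by simp)
      · exact bitProd_commute hz hz2 (fun x hx => hp.1 x hx) bs
    have hsq : ModEq z ((bif b then g else 1) * (bif c then g else 1)) (bif xor b c then g else 1) := by
      cases b <;> cases c
      · exact Or.inl (by simp)
      · exact Or.inl (by simp)
      · exact Or.inl (by simp)
      · exact hs g List.mem_cons_self
    simp only [List.zipWith_cons_cons, bitProd]
    have h1 := ((ModEq.refl (z := z) (bif b then g else 1)).mul hz hz2 hcomm).mul hz hz2
      (ModEq.refl (z := z) (bitProd gs cs))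
    have h2 := hsq.mul hz hz2 ih
    simp only [mul_assoc] at h1 h2 ⊢
    exact h1.trans hz2 h2

/-- the bits of a code -/
def bits (n v : ℕ) : List Bool := (List.range n).map v.testBit

theorem bits_xor (n u v : ℕ) : List.zipWith xor (bits n u) (bits n v) = bits n (u ^^^ v) := by
  rw [bits, bits, bits, List.zipWith_map, List.zipWith_self]
  exact List.map_congr_left fun i _ => (Nat.testBit_xor u v i).symm

theorem bits_zero (gs : List G) : bitProd gs (bits gs.length 0) = 1 := by
  suffices h : ∀ (gs : List G) (bs : List Bool), (∀ b ∈ bs, b = false) → bitProd gs bs = 1 from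
    h _ _ fun b hb => by
      simp only [bits, List.mem_map] at hb
      obtain ⟨i, -, rfl⟩ := hb
      exact Nat.zero_testBit i
  intro gs
  induction gs with
  | nil => intro bs _; rfl
  | cons g gs ih =>
    rintro (_ | ⟨b, bs⟩) h
    · rfl
    · rw [bitProd, h b List.mem_cons_self, ih bs fun c hc => h c (List.mem_cons_of_mem _ hc)]
      simp

include hz hz2 in
theorem code_mul {gs : List G} (hp : gs.Pairwise fun g x => ModEq z (x * g) (g * x))
    (hs : ∀ g ∈ gs, ModEq z (g * g) 1) {x y : G} {u v : ℕ}
    (hx : ModEq z x (bitProd gs (bits gs.length u))) (hy : ModEq z y (bitProd gs (bits gs.length v))) :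
    ModEq z (x * y) (bitProd gs (bits gs.length (u ^^^ v))) := by
  refine (hx.mul hz hz2 hy).trans hz2 ?_
  rw [← bits_xor]
  exact bitProd_mul hz hz2 gs hp hs _ _ (by simp [bits]) (by simp [bits])

end CfsgLib.HNType.TwoB
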