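import Mathlib

/-!
The centraliser of a 2B involution: an abstract trivial intersection argument.

`L` is a finite group with central involution `z₀`, `T` is a class of "first type" elements closed
under conjugation, `M` is the subgroup to be shown equal to `L` and `Q` is a normal subgroup of `M`
with commutators in `{1, z₀}`.
-/

set_option autoImplicit false

namespace CfsgLib.HNType.TwoB

section Dihedral

variable {L : Type*} [Group L]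

theorem mul_self_conj {a : L} (ha : a * a = 1) (g : L) : g * a * g⁻¹ * (g * a * g⁻¹) = 1 := by
  rw [show g * a * g⁻¹ * (g * a * g⁻¹) = g * (a * a) * g⁻¹ by group, ha, mul_one, mul_inv_cancel]

theorem inv_pow_mul {y u : L} (hu : u * y * u = y) : ∀ k : ℕ, u ^ k * y * u ^ k = y
  | 0 => by simp
  | k + 1 => by
    calc u ^ (k + 1) * y * u ^ (k + 1) = u * (u ^ k * y * u ^ k) * u := by
          rw [show u ^ (k + 1) * y * u ^ (k + 1) = u * u ^ k * y * (u ^ k * u) by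
            rw [← pow_succ', ← pow_succ]]
          group
      _ = y := by rw [inv_pow_mul hu k, hu]

variable {y y' : L} (hy : y * y = 1) (hy' : y' * y' = 1)

include hy hy'

theorem prod_inverted : y * y' * y * (y * y') = y := by
  rw [show y * y' * y * (y * y') = y * (y' * (y * y) * y') by group, hy, mul_one, hy', mul_one]

/-- `y` times a power of `y y'` is conjugate to `y` or to `y'` by a power of `y y'` -/
theorem conj_power (k : ℕ) :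
    (Even k → ∃ j : ℕ, ((y * y') ^ j)⁻¹ * y * (y * y') ^ j = y * (y * y') ^ k) ∧
    (Odd k → ∃ j : ℕ, ((y * y') ^ j)⁻¹ * y' * (y * y') ^ j = y * (y * y') ^ k) := by
  have hu := prod_inverted hy hy'
  have hc : ∀ j : ℕ, ((y * y') ^ j)⁻¹ * y = y * (y * y') ^ j := fun j => by
    rw [inv_mul_eq_iff_eq_mul, ← mul_assoc, inv_pow_mul hu j]
  constructor
  · rintro ⟨j, rfl⟩
    exact ⟨j, by rw [hc, mul_assoc, ← pow_add]⟩
  · rintro ⟨j, rfl⟩
    refine ⟨j, ?_⟩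
    have e : y' = y * (y * y') := by rw [← mul_assoc, hy, one_mul]
    calc ((y * y') ^ j)⁻¹ * y' * (y * y') ^ j
        = ((y * y') ^ j)⁻¹ * (y * (y * y')) * (y * y') ^ j := by rw [← e]
      _ = ((y * y') ^ j)⁻¹ * y * ((y * y') * (y * y') ^ j) := by simp only [mul_assoc]
      _ = y * ((y * y') ^ j * ((y * y') * (y * y') ^ j)) := by rw [hc, mul_assoc]
      _ = _ := by rw [← pow_succ', ← pow_add]; congr 2; omega

theorem power_conj_left (k : ℕ) :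
    (y * y') ^ k * y * ((y * y') ^ k)⁻¹ = y * (((y * y') ^ k) ^ 2)⁻¹ := by
  have h := inv_pow_mul (prod_inverted hy hy') k
  have h1 : (y * y') ^ k * y = y * ((y * y') ^ k)⁻¹ := eq_mul_inv_of_mul_eq h
  rw [h1, pow_two, mul_inv_rev, mul_assoc]

theorem mul_power_sq (k : ℕ) : y * (y * y') ^ k * (y * (y * y') ^ k) = 1 := by
  have h := inv_pow_mul (prod_inverted hy hy') k
  rw [show y * (y * y') ^ k * (y * (y * y') ^ k) = y * ((y * y') ^ k * y * (y * y') ^ k) by group,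
    h, hy]

end Dihedral

/-- the hypotheses of the argument -/
structure Hyp (L : Type*) [Group L] where
  /-- the subgroup -/
  M : Subgroup L
  /-- its normal subgroup -/
  Q : Subgroup L
  /-- the central involution -/
  z₀ : L
  /-- the first class -/
  T : L → Prop
  /-- representative of the first type -/
  t : L
  /-- representative of the second type -/
  s₀ : L
  z_central : ∀ g, g * z₀ = z₀ * g
  z_sq : z₀ * z₀ = 1
  T_conj : ∀ g x, T x → T (g * x * g⁻¹)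
  T_z : ¬ T z₀
  Q_le : Q ≤ M
  z_mem : z₀ ∈ Q
  Q_normal : ∀ m ∈ M, ∀ q ∈ Q, m * q * m⁻¹ ∈ Q
  Q_comm : ∀ p ∈ Q, ∀ q ∈ Q, p * q * p⁻¹ = q ∨ p * q * p⁻¹ = q * z₀
  t_sq : t * t = 1
  t_mem : t ∈ Q
  t_T : T t ∧ T (t * z₀)
  s_sq : s₀ * s₀ = 1
  s_T : T s₀ ∧ ¬ T (s₀ * z₀)
  A_conj : ∀ x ∈ M, x * x = 1 → T x → T (x * z₀) → x ∈ Q ∧ ∃ m ∈ M, m * t * m⁻¹ = x
  B_conj : ∀ x ∈ M, x * x = 1 → T x → ¬ T (x * z₀) → ∃ m ∈ M, m * s₀ * m⁻¹ = x
  cent_t : ∀ g, g * t = t * g → g ∈ M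
  cent_s : ∀ g, g * s₀ = s₀ * g → g ∈ M
  inventory : ∀ i, i * i = 1 → i * t = t * i → T (t * i) → ¬ T (t * i * z₀) → T i ∨ T (i * z₀)
  wreath : ∀ x ∈ M, ∀ y ∈ M, x * x = 1 → y * y = 1 → T x → ¬ T (x * z₀) → T y → ¬ T (y * z₀) →
    (x * y) ^ 4 = 1 → (x * y) ^ 2 ∈ Q
  transitive : ∀ P : Subgroup L, P ≤ Q → z₀ ∈ P → (∀ p ∈ P, p * p = 1 → ¬ (T p ∧ T (p * z₀))) →
    (∀ y₁ ∈ M, ∀ y₂ ∈ M, y₁ * y₁ = 1 → y₂ * y₂ = 1 → T y₁ → T (y₁ * z₀) → T y₂ → T (y₂ * z₀) →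
      ∃ p₁ ∈ P, ∃ p₂ ∈ P, ∃ m ∈ M, (∀ p ∈ P, m * p * m⁻¹ = p ∨ m * p * m⁻¹ = p * z₀) ∧
        m * (y₁ * p₁) * m⁻¹ = y₂ * p₂) →
    ∀ p ∈ P, p = 1 ∨ p = z₀

namespace Hyp

variable {L : Type*} [Group L] (H : Hyp L)

/-- involution of the first type -/
def IsA (x : L) : Prop := x * x = 1 ∧ H.T x ∧ H.T (x * H.z₀)

/-- involution of the second type -/
def IsB (x : L) : Prop := x * x = 1 ∧ H.T x ∧ ¬ H.T (x * H.z₀)

theorem conj_z (g : L) (x : L) : g * x * g⁻¹ * H.z₀ = g * (x * H.z₀) * g⁻¹ := by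
  calc g * x * g⁻¹ * H.z₀ = g * x * (g⁻¹ * H.z₀) := by group
    _ = _ := by rw [H.z_central g⁻¹]; group

theorem isA_conj {x : L} (h : H.IsA x) (g : L) : H.IsA (g * x * g⁻¹) :=
  ⟨mul_self_conj h.1 g, H.T_conj _ _ h.2.1, by rw [H.conj_z]; exact H.T_conj _ _ h.2.2⟩

theorem isA_conj' {x : L} (h : H.IsA x) (g : L) : H.IsA (g⁻¹ * x * g) := by
  have h' := H.isA_conj h g⁻¹
  rwa [inv_inv] at h'

theorem isB_conj {x : L} (h : H.IsB x) (g : L) : H.IsB (g * x * g⁻¹) := by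
  refine ⟨mul_self_conj h.1 g, H.T_conj _ _ h.2.1, fun h' => h.2.2 ?_⟩
  rw [H.conj_z] at h'
  have h'' := H.T_conj g⁻¹ _ h'
  rwa [inv_inv, show g⁻¹ * (g * (x * H.z₀) * g⁻¹) * g = x * H.z₀ by group] at h''

theorem isB_conj' {x : L} (h : H.IsB x) (g : L) : H.IsB (g⁻¹ * x * g) := by
  have h' := H.isB_conj h g⁻¹
  rwa [inv_inv] at h'

theorem not_A_of_B {x : L} (h : H.IsB x) : ¬ H.IsA x := fun h' => h.2.2 h'.2.2

theorem isA_t : H.IsA H.t := ⟨H.t_sq, H.t_T.1, H.t_T.2⟩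

theorem isB_s : H.IsB H.s₀ := ⟨H.s_sq, H.s_T.1, H.s_T.2⟩

theorem mem_Q_of_A {x : L} (hx : x ∈ H.M) (h : H.IsA x) : x ∈ H.Q :=
  (H.A_conj x hx h.1 h.2.1 h.2.2).1

theorem fix_unique {r : L} (hr : ∀ g, g * r = r * g → g ∈ H.M) {x g : L}
    (hx : ∃ m ∈ H.M, m * r * m⁻¹ = x) (hgx : ∃ m ∈ H.M, m * r * m⁻¹ = g * x * g⁻¹) : g ∈ H.M := by
  obtain ⟨m, hm, rfl⟩ := hx
  obtain ⟨n, hn, e⟩ := hgx
  have h : n⁻¹ * g * m ∈ H.M := hr _ (by
    calc n⁻¹ * g * m * r = n⁻¹ * (g * (m * r * m⁻¹) * g⁻¹) * (g * m) := by group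
      _ = r * (n⁻¹ * g * m) := by rw [← e]; group)
  simpa [mul_assoc] using mul_mem (mul_mem hn h) (inv_mem hm)

theorem fix_A {x g : L} (hx : x ∈ H.M) (h : H.IsA x) (hg : g * x * g⁻¹ ∈ H.M) : g ∈ H.M :=
  H.fix_unique H.cent_t (H.A_conj x hx h.1 h.2.1 h.2.2).2
    (H.A_conj _ hg (H.isA_conj h g).1 (H.isA_conj h g).2.1 (H.isA_conj h g).2.2).2

theorem fix_B {x g : L} (hx : x ∈ H.M) (h : H.IsB x) (hg : g * x * g⁻¹ ∈ H.M) : g ∈ H.M :=
  H.fix_unique H.cent_s (H.B_conj x hx h.1 h.2.1 h.2.2)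
    (H.B_conj _ hg (H.isB_conj h g).1 (H.isB_conj h g).2.1 (H.isB_conj h g).2.2)

theorem cent_of_T {i : L} (hiM : i ∈ H.M) (hi : i * i = 1) (hT : H.T i) {g : L}
    (hg : g * i = i * g) : g ∈ H.M := by
  have e : g * i * g⁻¹ = i := by rw [hg, mul_inv_cancel_right]
  by_cases h : H.T (i * H.z₀)
  · exact H.fix_A hiM ⟨hi, hT, h⟩ (e.symm ▸ hiM)
  · exact H.fix_B hiM ⟨hi, hT, h⟩ (e.symm ▸ hiM)

/-- a power of 2-power order of the product of two involutions of the first type -/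
theorem power_mem {y y' : L} (hyM : y ∈ H.M) (hy : H.IsA y) (hy' : H.IsA y') :
    ∀ (e k : ℕ), ((y * y') ^ k) ^ (2 ^ e) = 1 → (y * y') ^ k ∈ H.Q
  | 0, k, h => by rw [pow_zero, pow_one] at h; rw [h]; exact one_mem _
  | e + 1, k, h => by
    have h2 : (y * y') ^ (2 * k) ∈ H.Q := power_mem hyM hy hy' e (2 * k) (by
      rw [mul_comm 2 k, pow_mul, ← pow_mul, ← pow_succ']; exact h)
    have hw : (y * y') ^ k ∈ H.M := by
      refine H.fix_A hyM hy ?_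
      rw [power_conj_left hy.1 hy'.1 k, ← pow_mul, mul_comm k 2]
      exact mul_mem hyM (inv_mem (H.Q_le h2))
    have hA : H.IsA (y * (y * y') ^ k) := by
      obtain ⟨he, ho⟩ := conj_power hy.1 hy'.1 k
      rcases Nat.even_or_odd k with hk | hk
      · obtain ⟨j, hj⟩ := he hk; rw [← hj]; exact H.isA_conj' hy _
      · obtain ⟨j, hj⟩ := ho hk; rw [← hj]; exact H.isA_conj' hy' _
    have h3 := mul_mem (inv_mem (H.mem_Q_of_A hyM hy)) (H.mem_Q_of_A (mul_mem hyM hw) hA)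
    rwa [inv_mul_cancel_left] at h3

theorem mod_mem {P : Subgroup L} {g g' : L}
    (hg : ∀ p ∈ P, g * p * g⁻¹ = p ∨ g * p * g⁻¹ = p * H.z₀)
    (hg' : ∀ p ∈ P, g' * p * g'⁻¹ = p ∨ g' * p * g'⁻¹ = p * H.z₀) :
    ∀ p ∈ P, g * g' * p * (g * g')⁻¹ = p ∨ g * g' * p * (g * g')⁻¹ = p * H.z₀ := by
  intro p hp
  have e : g * g' * p * (g * g')⁻¹ = g * (g' * p * g'⁻¹) * g⁻¹ := by group
  rw [e]
  rcases hg' p hp with h | h <;> rw [h]
  · exact hg p hp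
  · rw [← H.conj_z]
    rcases hg p hp with h' | h' <;> rw [h']
    · exact Or.inr rfl
    · exact Or.inl (by rw [mul_assoc, H.z_sq, mul_one])

variable [Finite L]

/-- two conjugates of `Q` at different cosets meet in `{1, z₀}` -/
theorem inter_trivial {g : L} (hg : g ∉ H.M) {p : L} (hp : p ∈ H.Q) (hp' : g⁻¹ * p * g ∈ H.Q) :
    p = 1 ∨ p = H.z₀ := by
  obtain ⟨P, hPdef⟩ : ∃ P : Subgroup L, ∀ x, x ∈ P ↔ x ∈ H.Q ∧ g⁻¹ * x * g ∈ H.Q :=
    ⟨H.Q ⊓ H.Q.comap (MulAut.conj g⁻¹).toMonoidHom, fun x => by simp⟩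
  have hz : H.z₀ ∈ P := (hPdef _).mpr ⟨H.z_mem, by
    rw [H.z_central g⁻¹, mul_assoc, inv_mul_cancel, mul_one]; exact H.z_mem⟩
  have hinv : ∀ {w : L} (P' : Subgroup L), P' = P →
      (∀ q ∈ P', w * q * w⁻¹ = q ∨ w * q * w⁻¹ = q * H.z₀) →
      ∀ q ∈ P, w⁻¹ * q * w⁻¹⁻¹ = q ∨ w⁻¹ * q * w⁻¹⁻¹ = q * H.z₀ := by
    intro w P' hP' hw q hq
    subst hP'
    rw [inv_inv]
    rcases hw q hq with h | h
    · left; nth_rw 1 [← h]; group
    · right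
      rcases hw (q * H.z₀) (mul_mem hq hz) with h' | h'
      · exfalso
        have : w * q * w⁻¹ = w * (q * H.z₀) * w⁻¹ := by rw [h, h']
        have e2 : q = q * H.z₀ := mul_left_cancel (mul_right_cancel this)
        have hz1 : H.z₀ = 1 := mul_left_cancel (e2.symm.trans (mul_one q).symm)
        exact H.s_T.2 (by rw [hz1, mul_one]; exact H.s_T.1)
      · rw [show q * H.z₀ * H.z₀ = q by rw [mul_assoc, H.z_sq, mul_one]] at h'
        nth_rw 1 [← h']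
        group
  refine H.transitive P (fun x hx => ((hPdef x).mp hx).1) hz ?_ ?_ p ((hPdef p).mpr ⟨hp, hp'⟩)
  · rintro x hx hx2 ⟨hT, hTz⟩
    obtain ⟨hx1, hx'⟩ := (hPdef x).mp hx
    have hA : H.IsA x := ⟨hx2, hT, hTz⟩
    refine hg ?_
    have h := H.fix_A (g := g⁻¹) (H.Q_le hx1) hA (by rw [inv_inv]; exact H.Q_le hx')
    simpa using inv_mem h
  intro y₁ hy₁ y₂ hy₂ s₁ s₂ T₁ T₁' T₂ T₂'
  obtain ⟨y', hy'def⟩ : ∃ y', y' = g * H.t * g⁻¹ := ⟨_, rfl⟩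
  have hy'A : H.IsA y' := hy'def ▸ H.isA_conj H.isA_t g
  have hy'Q : g⁻¹ * y' * g ∈ H.Q := by
    rw [hy'def, show g⁻¹ * (g * H.t * g⁻¹) * g = H.t by group]; exact H.t_mem
  have key : ∀ y ∈ H.M, H.IsA y → ∃ w ∈ P, ∃ c : L,
      (∀ q ∈ P, c * q * c⁻¹ = q ∨ c * q * c⁻¹ = q * H.z₀) ∧ c * y' * c⁻¹ = y * w := by
    intro y hyM hy
    obtain ⟨e, m, hm, hn⟩ := Nat.exists_eq_two_pow_mul_odd (orderOf_pos (y * y')).ne'
    have hw : ((y * y') ^ m) ^ (2 ^ e) = 1 := by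
      rw [← pow_mul, mul_comm, ← hn, pow_orderOf_eq_one]
    have h1 := H.power_mem hyM hy hy'A e m hw
    have hAA : H.IsA (g⁻¹ * y' * g) := H.isA_conj' hy'A g
    have h2 : g⁻¹ * ((y * y') ^ m) * g ∈ H.Q := by
      have e' : (g⁻¹ * y' * g * (g⁻¹ * y * g)) ^ m = g⁻¹ * ((y * y') ^ m)⁻¹ * g := by
        rw [show g⁻¹ * y' * g * (g⁻¹ * y * g) = g⁻¹ * (y' * y) * g⁻¹⁻¹ by group, conj_pow, inv_inv,
          ← inv_pow, mul_inv_rev, inv_eq_of_mul_eq_one_right hy.1,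
          inv_eq_of_mul_eq_one_right hy'A.1]
      have h := H.power_mem (H.Q_le hy'Q) hAA (H.isA_conj' hy g) e m (by
        rw [e', show g⁻¹ * ((y * y') ^ m)⁻¹ * g = g⁻¹ * ((y * y') ^ m)⁻¹ * g⁻¹⁻¹ by group,
          conj_pow, inv_pow, hw, inv_one, mul_one, mul_inv_cancel])
      rw [e'] at h
      simpa [mul_assoc] using inv_mem h
    obtain ⟨j, hj⟩ := (conj_power hy.1 hy'A.1 m).2 hm
    refine ⟨_, (hPdef _).mpr ⟨h1, h2⟩, ((y * y') ^ j)⁻¹, ?_, by rw [inv_inv]; exact hj⟩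
    have hyN : ∀ q ∈ P, y * q * y⁻¹ = q ∨ y * q * y⁻¹ = q * H.z₀ := fun q hq =>
      H.Q_comm y (H.mem_Q_of_A hyM hy) q ((hPdef q).mp hq).1
    have hy'N : ∀ q ∈ P, y' * q * y'⁻¹ = q ∨ y' * q * y'⁻¹ = q * H.z₀ := fun q hq => by
      have ee : y' * q * y'⁻¹ = g * ((g⁻¹ * y' * g) * (g⁻¹ * q * g) * (g⁻¹ * y' * g)⁻¹) * g⁻¹ := by
        group
      rw [ee]
      rcases H.Q_comm _ hy'Q _ ((hPdef q).mp hq).2 with h | h <;> rw [h]
      · left; group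
      · right; rw [← H.conj_z]; group
    have hN : ∀ q ∈ P, y * y' * q * (y * y')⁻¹ = q ∨ y * y' * q * (y * y')⁻¹ = q * H.z₀ :=
      H.mod_mem hyN hy'N
    have hpow : ∀ k : ℕ, ∀ q ∈ P, (y * y') ^ k * q * ((y * y') ^ k)⁻¹ = q ∨
        (y * y') ^ k * q * ((y * y') ^ k)⁻¹ = q * H.z₀ := by
      intro k
      induction k with
      | zero => intro q _; left; simp
      | succ k ih => rw [pow_succ]; exact H.mod_mem ih hN
    exact hinv P rfl (hpow j)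
  obtain ⟨w₁, hw₁, c₁, hc₁, e₁⟩ := key y₁ hy₁ ⟨s₁, T₁, T₁'⟩
  obtain ⟨w₂, hw₂, c₂, hc₂, e₂⟩ := key y₂ hy₂ ⟨s₂, T₂, T₂'⟩
  have e3 : c₂ * c₁⁻¹ * (y₁ * w₁) * (c₂ * c₁⁻¹)⁻¹ = y₂ * w₂ := by rw [← e₁, ← e₂]; group
  refine ⟨w₁, hw₁, w₂, hw₂, c₂ * c₁⁻¹, ?_, H.mod_mem hc₂ (hinv P rfl hc₁), e3⟩
  refine H.fix_A (mul_mem hy₁ (H.Q_le ((hPdef _).mp hw₁).1)) ?_ (by
    rw [e3]; exact mul_mem hy₂ (H.Q_le ((hPdef _).mp hw₂).1))
  rw [← e₁]
  exact H.isA_conj hy'A _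

/-- every element lies in the subgroup -/
theorem mem_M (x : L) : x ∈ H.M := by
  by_contra hx
  obtain ⟨g, hgM, hsM⟩ : ∃ g, g ∉ H.M ∧ g * H.s₀ * g⁻¹ ∉ H.M := by
    refine ⟨x, hx, fun h => hx ?_⟩
    exact H.fix_B (H.cent_s _ rfl) H.isB_s h
  have hsmem : H.s₀ ∈ H.M := H.cent_s _ rfl
  obtain ⟨s, hsdef⟩ : ∃ s, s = g * H.s₀ * g⁻¹ := ⟨_, rfl⟩
  rw [← hsdef] at hsM
  have hs : H.IsB s := hsdef ▸ H.isB_conj H.isB_s g
  have ht := H.isA_t
  obtain ⟨n, hn⟩ : ∃ n, n = orderOf (H.t * s) := ⟨_, rfl⟩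
  obtain ⟨k, hk⟩ : Even n := by
    rcases Nat.even_or_odd n with h | h
    · exact h
    · exfalso
      obtain ⟨j, hj⟩ := (conj_power ht.1 hs.1 n).2 h
      rw [hn, pow_orderOf_eq_one, mul_one] at hj
      exact H.not_A_of_B (hj ▸ H.isB_conj' hs _) ht
  have hpos : 0 < n := hn ▸ orderOf_pos _
  have hi1 : (H.t * s) ^ k ≠ 1 :=
    pow_ne_one_of_lt_orderOf (by omega) (hn ▸ show k < n by omega)
  have hi2 : (H.t * s) ^ k * (H.t * s) ^ k = 1 := by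
    rw [← pow_add, ← hk, hn, pow_orderOf_eq_one]
  have hinv : ((H.t * s) ^ k)⁻¹ = (H.t * s) ^ k := inv_eq_of_mul_eq_one_right hi2
  have hct : (H.t * s) ^ k * H.t = H.t * (H.t * s) ^ k := by
    have h := inv_pow_mul (prod_inverted ht.1 hs.1) k
    calc (H.t * s) ^ k * H.t
        = (H.t * s) ^ k * H.t * (H.t * s) ^ k * ((H.t * s) ^ k)⁻¹ := by group
      _ = _ := by rw [h, hinv]
  have hcs : s * (H.t * s) ^ k = (H.t * s) ^ k * s := by
    have e : s = H.t * (H.t * s) := by rw [← mul_assoc, ht.1, one_mul]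
    calc s * (H.t * s) ^ k = H.t * ((H.t * s) * (H.t * s) ^ k) := by rw [← mul_assoc, ← e]
      _ = H.t * ((H.t * s) ^ k * (H.t * s)) := by rw [← pow_succ', pow_succ]
      _ = (H.t * s) ^ k * (H.t * (H.t * s)) := by rw [← mul_assoc, ← hct, mul_assoc]
      _ = _ := by rw [← e]
  have hiM : (H.t * s) ^ k ∈ H.M := H.cent_t _ hct
  obtain ⟨he, ho⟩ := conj_power ht.1 hs.1 k
  rcases Nat.even_or_odd k with hke | hko
  · obtain ⟨j, hj⟩ := he hke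
    have hA : H.IsA (H.t * (H.t * s) ^ k) := hj ▸ H.isA_conj' ht _
    have htM : H.t ∈ H.M := H.Q_le H.t_mem
    have hiQ : (H.t * s) ^ k ∈ H.Q := by
      have h := mul_mem (inv_mem H.t_mem) (H.mem_Q_of_A (mul_mem htM hiM) hA)
      rwa [inv_mul_cancel_left] at h
    obtain ⟨q, rfl⟩ := hke
    have hq : (s * H.t) ^ q * s * ((s * H.t) ^ q)⁻¹ = s * (((s * H.t) ^ q) ^ 2)⁻¹ :=
      power_conj_left hs.1 ht.1 q
    have hst : s * H.t = (H.t * s)⁻¹ := by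
      rw [mul_inv_rev, inv_eq_of_mul_eq_one_right ht.1, inv_eq_of_mul_eq_one_right hs.1]
    have hr2 : ((s * H.t) ^ q) ^ 2 = (H.t * s) ^ (q + q) := by
      rw [hst, inv_pow, inv_pow, ← pow_mul, show q * 2 = q + q by omega, hinv]
    have hs0 : g⁻¹ * s * g = H.s₀ := by rw [hsdef]; group
    have hi0M : g⁻¹ * (H.t * s) ^ (q + q) * g ∈ H.M := by
      refine H.cent_s _ ?_
      rw [← hs0]
      calc g⁻¹ * (H.t * s) ^ (q + q) * g * (g⁻¹ * s * g)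
          = g⁻¹ * ((H.t * s) ^ (q + q) * s) * g := by group
        _ = _ := by rw [← hcs]; group
    obtain ⟨r, hr⟩ : ∃ r, r = g⁻¹ * (s * H.t) ^ q * g := ⟨_, rfl⟩
    have hrconj : r * H.s₀ * r⁻¹ = H.s₀ * (g⁻¹ * (H.t * s) ^ (q + q) * g) := by
      calc r * H.s₀ * r⁻¹ = g⁻¹ * ((s * H.t) ^ q * s * ((s * H.t) ^ q)⁻¹) * g := by
            rw [hr, ← hs0]; group
        _ = g⁻¹ * s * g * (g⁻¹ * (((s * H.t) ^ q) ^ 2)⁻¹ * g) := by rw [hq]; group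
        _ = _ := by rw [hs0, hr2, hinv]
    have hrM : r ∈ H.M := H.fix_B hsmem H.isB_s (by rw [hrconj]; exact mul_mem hsmem hi0M)
    have hr2' : r ^ 2 = g⁻¹ * (H.t * s) ^ (q + q) * g := by
      rw [hr, show g⁻¹ * (s * H.t) ^ q * g = g⁻¹ * (s * H.t) ^ q * g⁻¹⁻¹ by group, conj_pow, hr2,
        inv_inv]
    have hr4 : r ^ 4 = 1 := by
      rw [show (4 : ℕ) = 2 * 2 from rfl, pow_mul, hr2', pow_two,
        show g⁻¹ * (H.t * s) ^ (q + q) * g * (g⁻¹ * (H.t * s) ^ (q + q) * g)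
          = g⁻¹ * ((H.t * s) ^ (q + q) * (H.t * s) ^ (q + q)) * g by group, hi2, mul_one,
        inv_mul_cancel]
    have hsr : H.s₀ * r = g⁻¹ * (s * (s * H.t) ^ q) * g := by rw [hr, ← hs0]; group
    have hsrM : H.s₀ * r ∈ H.M := mul_mem hsmem hrM
    have hrQ : r ^ 2 ∈ H.Q := by
      obtain ⟨he', ho'⟩ := conj_power hs.1 ht.1 q
      have eprod : r = H.s₀ * (H.s₀ * r) := by rw [← mul_assoc, H.s_sq, one_mul]
      rcases Nat.even_or_odd q with hq' | hq'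
      · obtain ⟨j', hj'⟩ := he' hq'
        have hB : H.IsB (H.s₀ * r) := by
          rw [hsr, ← hj']; exact H.isB_conj' (H.isB_conj' hs _) _
        have h := H.wreath _ hsmem _ hsrM H.s_sq hB.1 H.s_T.1 H.s_T.2 hB.2.1 hB.2.2
          (by rw [← eprod]; exact hr4)
        rwa [← eprod] at h
      · obtain ⟨j', hj'⟩ := ho' hq'
        have hA' : H.IsA (H.s₀ * r) := by
          rw [hsr, ← hj']; exact H.isA_conj' (H.isA_conj' ht _) _
        have h := H.mem_Q_of_A hsrM hA'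
        have h2 := mul_mem (H.Q_normal _ hsmem _ h) h
        rw [inv_eq_of_mul_eq_one_right H.s_sq] at h2
        rw [pow_two]
        nth_rw 1 2 [eprod]
        simpa [mul_assoc] using h2
    rw [hr2'] at hrQ
    rcases H.inter_trivial hgM hiQ hrQ with h | h
    · exact hi1 h
    · obtain ⟨j', hj'⟩ := (conj_power hs.1 ht.1 (q + q)).1 ⟨q, rfl⟩
      have hB : H.IsB (s * (s * H.t) ^ (q + q)) := hj' ▸ H.isB_conj' hs _
      rw [hst, inv_pow, hinv, h] at hB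
      exact hs.2.2 hB.2.1
  · obtain ⟨j, hj⟩ := ho hko
    have hB : H.IsB (H.t * (H.t * s) ^ k) := hj ▸ H.isB_conj' hs _
    rcases H.inventory _ hi2 hct hB.2.1 hB.2.2 with hT | hT
    · exact hsM (H.cent_of_T hiM hi2 hT hcs)
    · refine hsM (H.cent_of_T (mul_mem hiM (H.Q_le H.z_mem)) ?_ hT ?_)
      · calc (H.t * s) ^ k * H.z₀ * ((H.t * s) ^ k * H.z₀)
            = (H.t * s) ^ k * (H.z₀ * (H.t * s) ^ k) * H.z₀ := by group
          _ = ((H.t * s) ^ k * (H.t * s) ^ k) * (H.z₀ * H.z₀) := by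
              rw [← H.z_central ((H.t * s) ^ k)]; group
          _ = 1 := by rw [hi2, H.z_sq, mul_one]
      · rw [← mul_assoc, hcs, mul_assoc, H.z_central s, ← mul_assoc]

theorem M_eq_top : H.M = ⊤ := eq_top_iff.mpr fun x _ => H.mem_M x

end Hyp

end CfsgLib.HNType.TwoB
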