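import Cfsg.Agent.Lib.DCoset.Check

/-!
Words and witnesses for the centraliser of a 2B involution.
-/

set_option autoImplicit false
set_option linter.style.longLine false
set_option maxRecDepth 100000

namespace CfsgLib.HNType.TwoB

open CfsgLib.DCoset

/-- a witness of an identity -/
structure Wit where
  /-- at the coset -/
  w0 : List LWit
  /-- at the base points -/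
  wb : List (List LWit)

/-- an involution of the class of `el 1975` -/
def wA : List ℕ :=
  [2,1,2,0,2,1,2,0]

/-- the involution `wA` times the central one -/
def w0 : List ℕ :=
  [2,1,2,0,2,1,2,0,0,0]

/-- the involution of the second type -/
def wB : List ℕ :=
  [1,2,0,2,1,2,0,2]

/-- the outer involution of the second class -/
def wD : List ℕ :=
  [4,2,1,2,0,2,1,2,0]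

/-- the representative of the class of 225 -/
def wX : List ℕ :=
  [0,2,2,4,2,0,2,0,2,2,2,2,0,3,3,1,3,4,1,3,4,1,3,3,1,0,2,2,4,2,0,2,0,2,2,2,2,0,3,3,1,3,4,1,3,4,1,3,3,1,3,3,3,4,1,3,3,3,1,4,0,2,2,2,0,4,2,2,2]

/-- generators of the centraliser of `w0` -/
def gY : List (List ℕ) :=
  [[2,2,2,1,2,0,2,2,1,2,0,2,1,2,0,2,2,1,2,0,2,2,1,2,0],[1,2,0,2,1,2,0,2],[0,2,2,4,2,0,2,0,2,2,2,2,0,3,3,1,3,4,1,3,4,1,3,3,1]]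

/-- the last generator -/
def hGen : List (Option (List ℕ)) :=
  [some [3,4,1,3,4,1,3],none,none,none,some [4],none,some [3,3,3,4,1,3,3,1]]

/-- generators of the normal subgroup -/
def ebS : List (List (Option (List ℕ))) :=
  [[some [0,0]],[some [1,3,3,3,3,4,1,3,3,3,1,4,0,2,2,2,0,4,2,2,2,2,0]],[some [3,3,3,4,1,3,3,3,1,4,0,2,2,2,0,4,2,2,2]],[some [3,3,1,3,4,1,3,1,3,3,1,4,0,2,2,0,2,0,4,2,0,2,2]],[some [3,3,4,1,3,3,3,4,2,2,2,0,4,2,2]],[some [3,4,1,3,3,4,3,1,3,3,4,2,2,0,2,4,2,2,0,4,2]],[some [4,1,3,3,4,3,1,3,1,3,3,4,2,2,0,2,0,2,4,2,2,0,4]],[some [3,4,1,3,4,1,3],none,none,none,some [4],none,some [3,3,3,4,1,3,3,1,3,3,4,1,3,3,3,4,2,2,2,0,4,2,2,0,2,2,0,4,2,2,2],none,none,none,none,some [4],none,none,some [2,0,4,2,0,4,2]]]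

/-- the action of the generators -/
def mats : List ℕ :=
  [10984691817162475521,9601429334854496257,13908083241514450945,13519250281997598981]

/-- the inverse matrices -/
def minvs : List ℕ :=
  [17599514796262166529,9601429334854496257,9440176058970226945,1214213808046940930]

/-- it takes `wB` to the central involution -/
def gB : List (Option (List ℕ)) :=
  [some [1,3,4,1,3,4,1,3],none,none,none,some [4],none,some [3,4,1,3,4,1,3],none,none,none,some [4],none,some [3,4,1,3,4,1,3,1,3,3,3,4,1,3,3,3]]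

/-- it takes `wD` to `w0` -/
def gD : List (Option (List ℕ)) :=
  [some [3,4,1,3,4,1,3],none,none,none,some [4],none,some [3,4,1,3,4,1,3],none,none,none,some [4],none,some [3,4,1,3,4,1,3,1,3,1,3,3,1,3,1,3,1,3,3,1,3,1]]

/-- it takes `z` to the central involution -/
def gZ : List (Option (List ℕ)) :=
  [none,none,none,some [4],none]

/-- it takes `wA` to the central involution -/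
def gA : List (Option (List ℕ)) :=
  [some [3,4,1,3,4,1,3],none,none,none,some [4],none,some [3,4,1,3,4,1,3],none,none,none,some [4],none,some [3,4,1,3,4,1,3,1]]

/-- squares -/
def sqData : List (Bool × Wit) :=
  [(false, ⟨[],
    [[],
    [],
    [],
    [],
    [],
    []]⟩),(false, ⟨[],
    [[],
    [],
    [],
    [],
    [],
    []]⟩),(false, ⟨[],
    [[],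
    [],
    [],
    [],
    [],
    []]⟩),(false, ⟨[],
    [[],
    [],
    [],
    [],
    [],
    []]⟩),(false, ⟨[],
    [[],
    [],
    [],
    [],
    [],
    []]⟩),(false, ⟨[],
    [[],
    [],
    [],
    [],
    [],
    []]⟩),(false, ⟨[],
    [[],
    [],
    [],
    [],
    [],
    []]⟩),(false, ⟨[⟨0,[(2,true),(4,false),(5,true),(2,true),(4,false)]⟩,⟨2,[]⟩,⟨3,[]⟩,⟨7,[(4,true),(0,true)]⟩,⟨3,[(6,true),(4,true)]⟩,⟨15,[]⟩,⟨2,[(2,true),(1,false),(0,false)]⟩,⟨14,[(2,true),(1,false),(0,false)]⟩,⟨16,[(0,true)]⟩,⟨29,[(0,false),(0,false)]⟩,⟨0,[(2,true),(0,true),(0,true),(3,false),(0,false),(0,false)]⟩,⟨17,[(0,true),(0,true)]⟩,⟨25,[]⟩,⟨10,[(0,false)]⟩,⟨0,[(3,true),(0,false)]⟩,⟨4,[(4,true),(0,true)]⟩,⟨2,[]⟩,⟨0,[(0,false)]⟩,⟨1,[]⟩,⟨0,[]⟩],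
    [[⟨9,[(1,true),(0,true),(1,true)]⟩,⟨4,[(5,true)]⟩,⟨3,[(0,false)]⟩,⟨10,[(3,false)]⟩,⟨29,[(0,false),(0,false)]⟩,⟨0,[(2,true),(0,true),(0,true),(3,false),(0,false),(0,false)]⟩,⟨17,[(0,true),(0,true)]⟩,⟨25,[]⟩,⟨16,[(3,false),(0,true)]⟩,⟨29,[(0,false),(0,false)]⟩,⟨0,[(2,true),(0,true),(0,true),(3,false),(0,false),(0,false)]⟩,⟨17,[(0,true),(0,true)]⟩,⟨25,[]⟩,⟨16,[(1,false),(0,false)]⟩,⟨0,[(1,false)]⟩,⟨8,[(3,true),(3,true)]⟩,⟨11,[(4,false),(2,true)]⟩,⟨2,[]⟩,⟨1,[(1,false),(0,false)]⟩,⟨9,[(5,false)]⟩],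
    [⟨5,[(1,true),(0,true)]⟩,⟨3,[(0,false)]⟩,⟨1,[(0,false),(0,false),(0,false)]⟩,⟨11,[(4,true),(3,false)]⟩,⟨17,[(1,false)]⟩,⟨25,[]⟩,⟨16,[(0,false),(0,false)]⟩,⟨29,[(0,false),(0,false)]⟩,⟨1,[(0,false),(1,true),(0,false)]⟩,⟨1,[(1,false),(0,false),(4,false),(0,true)]⟩,⟨1,[(1,false),(0,false),(4,false),(0,true)]⟩,⟨1,[(1,false),(0,false),(4,false),(0,true)]⟩,⟨1,[(1,false),(0,false),(4,false),(0,true)]⟩,⟨0,[(2,true),(0,true),(4,false),(2,false),(0,false)]⟩,⟨2,[]⟩,⟨10,[(1,false)]⟩,⟨0,[]⟩,⟨8,[(3,true),(3,true)]⟩,⟨1,[(0,false)]⟩,⟨6,[(0,false),(1,false),(1,false),(0,false)]⟩],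
    [⟨6,[(4,true),(0,true)]⟩,⟨5,[(0,true),(4,false),(1,true),(0,false)]⟩,⟨3,[(0,false)]⟩,⟨3,[(4,false),(2,false)]⟩,⟨26,[(2,true),(1,true)]⟩,⟨0,[]⟩,⟨15,[(5,true),(0,true),(0,true)]⟩,⟨1,[]⟩,⟨21,[(4,true),(0,false)]⟩,⟨21,[(0,true),(1,false),(0,true)]⟩,⟨21,[(0,true),(1,false),(0,true)]⟩,⟨21,[(0,true),(1,false),(0,true)]⟩,⟨21,[(0,true),(1,false),(0,true)]⟩,⟨8,[(3,false),(2,false),(0,false)]⟩,⟨15,[]⟩,⟨2,[(2,true),(1,false),(0,false)]⟩,⟨14,[(2,true),(1,false),(0,false)]⟩,⟨10,[]⟩,⟨1,[(3,true),(0,false)]⟩,⟨1,[(0,false)]⟩],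
    [⟨10,[(0,true),(3,false),(0,false)]⟩,⟨2,[]⟩,⟨3,[]⟩,⟨11,[(1,false),(2,false)]⟩,⟨23,[(2,false),(2,false),(1,true)]⟩,⟨23,[(4,true),(1,false)]⟩,⟨23,[(4,true),(1,false)]⟩,⟨23,[(4,true),(1,false)]⟩,⟨16,[(1,false)]⟩,⟨29,[(0,false),(0,false)]⟩,⟨0,[(2,true),(0,true),(0,true),(3,false),(0,false),(0,false)]⟩,⟨17,[(0,true),(0,true)]⟩,⟨25,[]⟩,⟨23,[(4,false),(3,true)]⟩,⟨3,[]⟩,⟨13,[(5,false),(1,true),(0,true),(0,true)]⟩,⟨5,[]⟩,⟨6,[(1,false)]⟩,⟨1,[]⟩,⟨0,[]⟩],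
    [⟨10,[(0,false),(1,false),(2,false)]⟩,⟨2,[]⟩,⟨3,[]⟩,⟨8,[(3,false),(1,true),(2,true)]⟩,⟨8,[(0,false),(4,false)]⟩,⟨13,[(2,false),(2,false),(1,false)]⟩,⟨9,[(2,false),(1,false)]⟩,⟨8,[(2,true),(1,false),(2,true)]⟩,⟨15,[(1,true),(2,false),(1,false)]⟩,⟨1,[]⟩,⟨8,[(2,false),(1,true)]⟩,⟨26,[(0,true),(2,false),(0,false)]⟩,⟨0,[]⟩,⟨9,[(1,false),(0,true),(0,true)]⟩,⟨9,[(5,false),(0,false),(4,false)]⟩,⟨8,[(4,true),(3,false)]⟩,⟨13,[(2,false),(2,false),(1,false)]⟩,⟨9,[(2,false),(1,false)]⟩,⟨1,[]⟩,⟨0,[]⟩],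
    [⟨5,[(0,true),(0,true)]⟩,⟨3,[(0,false)]⟩,⟨1,[(0,false),(0,false),(0,false)]⟩,⟨11,[(3,false),(4,false)]⟩,⟨17,[(3,false)]⟩,⟨25,[]⟩,⟨16,[(0,false),(0,false)]⟩,⟨29,[(0,false),(0,false)]⟩,⟨1,[(0,false),(1,true),(0,false)]⟩,⟨1,[(1,false),(0,false),(4,false),(0,true)]⟩,⟨1,[(1,false),(0,false),(4,false),(0,true)]⟩,⟨1,[(1,false),(0,false),(4,false),(0,true)]⟩,⟨1,[(1,false),(0,false),(4,false),(0,true)]⟩,⟨0,[(2,true),(0,true),(4,false),(2,false),(0,false)]⟩,⟨2,[(1,false)]⟩,⟨10,[(1,false)]⟩,⟨0,[]⟩,⟨8,[(3,true),(3,true)]⟩,⟨1,[(0,false)]⟩,⟨6,[(0,false),(1,false),(1,false),(0,false)]⟩]]⟩)]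

/-- commutators -/
def commData : List (Bool × Wit) :=
  [(false, ⟨[],
    [[],
    [],
    [],
    [],
    [],
    []]⟩),(false, ⟨[],
    [[],
    [],
    [],
    [],
    [],
    []]⟩),(false, ⟨[],
    [[],
    [],
    [],
    [],
    [],
    []]⟩),(false, ⟨[],
    [[],
    [],
    [],
    [],
    [],
    []]⟩),(false, ⟨[],
    [[],
    [],
    [],
    [],
    [],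
    []]⟩),(false, ⟨[],
    [[],
    [],
    [],
    [],
    [],
    []]⟩),(true, ⟨[⟨0,[(2,true),(4,false),(5,true),(2,true),(4,false)]⟩,⟨2,[]⟩,⟨3,[]⟩,⟨7,[(4,true),(0,true)]⟩,⟨3,[(6,true),(4,true)]⟩,⟨15,[]⟩,⟨2,[(2,true),(1,false),(0,false)]⟩,⟨14,[(2,true),(1,false),(0,false)]⟩,⟨16,[(0,true)]⟩,⟨29,[(0,false),(0,false)]⟩,⟨0,[(2,false),(0,true),(0,true),(3,false),(0,false),(0,false)]⟩,⟨17,[(0,true),(0,true)]⟩,⟨25,[]⟩,⟨10,[(0,false)]⟩,⟨0,[(3,true),(0,false)]⟩,⟨4,[(4,true),(0,true)]⟩,⟨2,[]⟩,⟨0,[(0,false)]⟩,⟨1,[]⟩,⟨0,[]⟩],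
    [[⟨9,[(1,true),(0,true),(1,true)]⟩,⟨4,[(5,true)]⟩,⟨3,[(0,false)]⟩,⟨10,[(3,false)]⟩,⟨29,[(0,false),(0,false)]⟩,⟨0,[(2,true),(0,true),(0,true),(3,false),(0,false),(0,false)]⟩,⟨17,[(0,true),(0,true)]⟩,⟨25,[]⟩,⟨16,[(3,false),(0,true)]⟩,⟨29,[(0,false),(0,false)]⟩,⟨1,[(1,false),(0,true),(0,true),(0,true)]⟩,⟨1,[(1,false),(0,false),(4,false),(0,true)]⟩,⟨1,[(1,false),(0,false),(4,false),(0,true)]⟩,⟨0,[(1,true),(0,false),(1,true),(0,false)]⟩,⟨10,[(0,false)]⟩,⟨3,[(0,false),(0,false),(0,false)]⟩,⟨15,[]⟩,⟨2,[(2,true),(1,false),(0,false)]⟩,⟨1,[(1,false)]⟩,⟨9,[(5,false)]⟩],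
    [⟨5,[(1,true),(0,true)]⟩,⟨3,[(0,false)]⟩,⟨1,[(0,false),(0,false),(0,false)]⟩,⟨11,[(4,true),(3,false)]⟩,⟨17,[(1,false)]⟩,⟨25,[]⟩,⟨16,[(0,false),(0,false)]⟩,⟨29,[(0,false),(0,false)]⟩,⟨1,[(0,false),(1,true),(0,false)]⟩,⟨1,[(1,false),(0,false),(4,false),(0,true)]⟩,⟨0,[(2,true),(0,true),(2,false)]⟩,⟨17,[(0,true),(0,true)]⟩,⟨25,[]⟩,⟨16,[(0,true)]⟩,⟨15,[(0,false)]⟩,⟨2,[(2,true),(1,false),(0,false)]⟩,⟨14,[(2,true),(1,false),(0,false)]⟩,⟨10,[]⟩,⟨1,[(3,true),(0,false)]⟩,⟨1,[(0,false)]⟩],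
    [⟨6,[(4,true),(0,true)]⟩,⟨5,[(0,true),(4,false),(1,true),(0,false)]⟩,⟨3,[(0,false)]⟩,⟨3,[(4,false),(2,false)]⟩,⟨26,[(2,true),(1,true)]⟩,⟨0,[]⟩,⟨15,[(5,true),(0,true),(0,true)]⟩,⟨1,[]⟩,⟨21,[(4,true),(0,false)]⟩,⟨21,[(0,true),(1,false),(0,true)]⟩,⟨13,[(3,true),(1,false),(0,true)]⟩,⟨15,[(2,false),(1,false),(2,true),(1,false)]⟩,⟨3,[(1,false),(1,false),(2,true),(1,false)]⟩,⟨14,[(1,true),(3,false),(1,true),(1,true),(0,false)]⟩,⟨2,[]⟩,⟨10,[(1,false)]⟩,⟨0,[]⟩,⟨8,[(3,true),(3,true)]⟩,⟨1,[(0,false)]⟩,⟨6,[(0,false),(1,false),(1,false),(0,false)]⟩],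
    [⟨10,[(0,true),(3,false),(0,false)]⟩,⟨2,[]⟩,⟨3,[]⟩,⟨11,[(1,false),(2,false)]⟩,⟨23,[(2,false),(2,false),(1,true)]⟩,⟨23,[(4,true),(1,false)]⟩,⟨23,[(4,true),(1,false)]⟩,⟨23,[(4,true),(1,false)]⟩,⟨16,[(1,false)]⟩,⟨29,[(0,false),(0,false)]⟩,⟨0,[(0,false),(1,false),(0,false),(1,true)]⟩,⟨17,[(0,true),(0,true)]⟩,⟨25,[]⟩,⟨24,[(2,true),(4,true)]⟩,⟨3,[(1,true)]⟩,⟨13,[(5,false),(1,true),(0,true),(0,true)]⟩,⟨5,[]⟩,⟨6,[(1,false)]⟩,⟨1,[]⟩,⟨0,[]⟩],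
    [⟨10,[(0,false),(1,false),(2,false)]⟩,⟨2,[]⟩,⟨3,[]⟩,⟨8,[(3,false),(1,true),(2,true)]⟩,⟨8,[(0,false),(4,false)]⟩,⟨13,[(2,false),(2,false),(1,false)]⟩,⟨9,[(2,false),(1,false)]⟩,⟨8,[(2,true),(1,false),(2,true)]⟩,⟨15,[(1,true),(2,false),(1,false)]⟩,⟨1,[]⟩,⟨18,[(2,false),(1,false),(0,true)]⟩,⟨13,[]⟩,⟨15,[(2,false),(1,false),(2,true),(1,false)]⟩,⟨0,[(1,true),(2,true),(1,false)]⟩,⟨9,[(1,true),(2,true)]⟩,⟨8,[(4,true),(3,false)]⟩,⟨13,[(2,false),(2,false),(1,false)]⟩,⟨9,[(2,false),(1,false)]⟩,⟨1,[]⟩,⟨0,[]⟩],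
    [⟨5,[(0,true),(0,true)]⟩,⟨3,[(0,false)]⟩,⟨1,[(0,false),(0,false),(0,false)]⟩,⟨11,[(3,false),(4,false)]⟩,⟨17,[(3,false)]⟩,⟨25,[]⟩,⟨16,[(0,false),(0,false)]⟩,⟨29,[(0,false),(0,false)]⟩,⟨1,[(0,false),(1,true),(0,false)]⟩,⟨1,[(1,false),(0,false),(4,false),(0,true)]⟩,⟨0,[(2,true),(0,true),(2,false)]⟩,⟨17,[(0,true),(0,true)]⟩,⟨25,[]⟩,⟨16,[(0,true)]⟩,⟨15,[(0,false)]⟩,⟨2,[(2,true),(1,false),(0,false)]⟩,⟨14,[(2,true),(1,false),(0,false)]⟩,⟨10,[]⟩,⟨1,[]⟩,⟨1,[(0,false)]⟩]]⟩),(false, ⟨[],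
    [[],
    [],
    [],
    [],
    [],
    []]⟩),(true, ⟨[],
    [[],
    [],
    [],
    [],
    [],
    []]⟩),(true, ⟨[],
    [[],
    [],
    [],
    [],
    [],
    []]⟩),(false, ⟨[],
    [[],
    [],
    [],
    [],
    [],
    []]⟩),(true, ⟨[],
    [[],
    [],
    [],
    [],
    [],
    []]⟩),(true, ⟨[⟨0,[(2,true),(4,false),(5,true),(2,true),(4,false)]⟩,⟨2,[]⟩,⟨3,[]⟩,⟨7,[(4,true),(0,true)]⟩,⟨3,[(6,true),(4,true)]⟩,⟨15,[]⟩,⟨2,[(2,true),(1,false),(0,false)]⟩,⟨14,[(2,true),(1,false),(0,false)]⟩,⟨16,[(0,true)]⟩,⟨29,[(0,false),(0,false)]⟩,⟨0,[(1,false),(1,false),(0,false),(1,true)]⟩,⟨17,[(0,true),(0,true)]⟩,⟨25,[]⟩,⟨10,[(0,false)]⟩,⟨0,[(3,true),(0,false)]⟩,⟨4,[(4,true),(0,true)]⟩,⟨2,[]⟩,⟨0,[(0,false)]⟩,⟨1,[]⟩,⟨0,[]⟩],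
    [[⟨9,[(1,true),(0,true),(1,true)]⟩,⟨4,[(5,true)]⟩,⟨3,[(0,false)]⟩,⟨10,[(3,false)]⟩,⟨29,[(0,false),(0,false)]⟩,⟨0,[(2,true),(0,true),(0,true),(3,false),(0,false),(0,false)]⟩,⟨17,[(0,true),(0,true)]⟩,⟨25,[]⟩,⟨16,[(3,false),(0,true)]⟩,⟨29,[(0,false),(0,false)]⟩,⟨0,[(5,false),(0,true),(4,false),(1,false)]⟩,⟨17,[(0,true),(0,true)]⟩,⟨25,[]⟩,⟨23,[(2,true),(4,false)]⟩,⟨3,[]⟩,⟨13,[(5,false),(1,true),(0,true),(0,true)]⟩,⟨5,[]⟩,⟨6,[(1,false)]⟩,⟨1,[]⟩,⟨0,[]⟩],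
    [⟨5,[(1,true),(0,true)]⟩,⟨3,[(0,false)]⟩,⟨1,[(0,false),(0,false),(0,false)]⟩,⟨11,[(4,true),(3,false)]⟩,⟨17,[(1,false)]⟩,⟨25,[]⟩,⟨16,[(0,false),(0,false)]⟩,⟨29,[(0,false),(0,false)]⟩,⟨1,[(0,false),(1,true),(0,false)]⟩,⟨1,[(1,false),(0,false),(4,false),(0,true)]⟩,⟨0,[(3,false),(0,true),(1,false),(1,false),(0,true)]⟩,⟨17,[(0,true),(0,true)]⟩,⟨25,[]⟩,⟨23,[(1,true),(4,false)]⟩,⟨5,[(4,true)]⟩,⟨6,[(1,false)]⟩,⟨11,[(2,true),(1,false)]⟩,⟨3,[]⟩,⟨5,[]⟩,⟨0,[(0,false)]⟩],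
    [⟨6,[(4,true),(0,true)]⟩,⟨5,[(0,true),(4,false),(1,true),(0,false)]⟩,⟨3,[(0,false)]⟩,⟨3,[(4,false),(2,false)]⟩,⟨26,[(2,true),(1,true)]⟩,⟨0,[]⟩,⟨15,[(5,true),(0,true),(0,true)]⟩,⟨1,[]⟩,⟨21,[(4,true),(0,false)]⟩,⟨21,[(0,true),(1,false),(0,true)]⟩,⟨27,[(1,false),(3,false),(0,false)]⟩,⟨5,[(2,false),(1,false)]⟩,⟨2,[]⟩,⟨23,[(4,false),(3,true),(0,false)]⟩,⟨5,[(4,true)]⟩,⟨6,[(1,false)]⟩,⟨11,[(2,true),(1,false)]⟩,⟨3,[]⟩,⟨5,[]⟩,⟨0,[(0,false)]⟩],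
    [⟨10,[(0,true),(3,false),(0,false)]⟩,⟨2,[]⟩,⟨3,[]⟩,⟨11,[(1,false),(2,false)]⟩,⟨23,[(2,false),(2,false),(1,true)]⟩,⟨23,[(4,true),(1,false)]⟩,⟨23,[(4,true),(1,false)]⟩,⟨23,[(4,true),(1,false)]⟩,⟨16,[(1,false)]⟩,⟨29,[(0,false),(0,false)]⟩,⟨0,[(0,true),(1,false),(4,false),(0,false),(0,false)]⟩,⟨17,[(0,true),(0,true)]⟩,⟨25,[]⟩,⟨23,[(4,false),(3,true)]⟩,⟨5,[(4,true)]⟩,⟨6,[(1,false)]⟩,⟨11,[(2,true),(1,false)]⟩,⟨3,[]⟩,⟨5,[]⟩,⟨0,[(0,false)]⟩],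
    [⟨10,[(0,false),(1,false),(2,false)]⟩,⟨2,[]⟩,⟨3,[]⟩,⟨8,[(3,false),(1,true),(2,true)]⟩,⟨8,[(0,false),(4,false)]⟩,⟨13,[(2,false),(2,false),(1,false)]⟩,⟨9,[(2,false),(1,false)]⟩,⟨8,[(2,true),(1,false),(2,true)]⟩,⟨15,[(1,true),(2,false),(1,false)]⟩,⟨1,[]⟩,⟨24,[(2,true),(4,false),(0,false)]⟩,⟨24,[(1,true),(4,false)]⟩,⟨24,[(1,true),(4,false)]⟩,⟨11,[(1,true),(0,false)]⟩,⟨8,[(0,false),(1,false),(3,false)]⟩,⟨13,[(2,false),(2,false),(1,false)]⟩,⟨9,[(2,false),(1,false)]⟩,⟨8,[(2,true),(1,false),(2,true)]⟩,⟨1,[(0,false)]⟩,⟨9,[(5,false)]⟩],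
    [⟨5,[(0,true),(0,true)]⟩,⟨3,[(0,false)]⟩,⟨1,[(0,false),(0,false),(0,false)]⟩,⟨11,[(3,false),(4,false)]⟩,⟨17,[(3,false)]⟩,⟨25,[]⟩,⟨16,[(0,false),(0,false)]⟩,⟨29,[(0,false),(0,false)]⟩,⟨1,[(0,false),(1,true),(0,false)]⟩,⟨1,[(1,false),(0,false),(4,false),(0,true)]⟩,⟨0,[(0,false),(1,false),(4,false),(2,false),(0,false)]⟩,⟨17,[(0,true),(0,true)]⟩,⟨25,[]⟩,⟨24,[(4,false),(3,false),(1,false)]⟩,⟨5,[(2,true),(1,false)]⟩,⟨6,[(1,false)]⟩,⟨11,[(2,true),(1,false)]⟩,⟨3,[]⟩,⟨5,[]⟩,⟨0,[(0,false)]⟩]]⟩),(false, ⟨[],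
    [[],
    [],
    [],
    [],
    [],
    []]⟩),(false, ⟨[],
    [[],
    [],
    [],
    [],
    [],
    []]⟩),(true, ⟨[],
    [[],
    [],
    [],
    [],
    [],
    []]⟩),(true, ⟨[],
    [[],
    [],
    [],
    [],
    [],
    []]⟩),(true, ⟨[⟨0,[(2,true),(4,false),(5,true),(2,true),(4,false)]⟩,⟨2,[]⟩,⟨3,[]⟩,⟨7,[(4,true),(0,true)]⟩,⟨3,[(6,true),(4,true)]⟩,⟨15,[]⟩,⟨2,[(2,true),(1,false),(0,false)]⟩,⟨14,[(2,true),(1,false),(0,false)]⟩,⟨16,[(0,true)]⟩,⟨29,[(0,false),(0,false)]⟩,⟨0,[(0,true),(1,false),(0,false),(0,false)]⟩,⟨17,[(0,true),(0,true)]⟩,⟨25,[]⟩,⟨10,[(0,false)]⟩,⟨0,[(3,true),(0,false)]⟩,⟨4,[(4,true),(0,true)]⟩,⟨2,[]⟩,⟨0,[(0,false)]⟩,⟨1,[]⟩,⟨0,[]⟩],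
    [[⟨9,[(1,true),(0,true),(1,true)]⟩,⟨4,[(5,true)]⟩,⟨3,[(0,false)]⟩,⟨10,[(3,false)]⟩,⟨29,[(0,false),(0,false)]⟩,⟨0,[(2,true),(0,true),(0,true),(3,false),(0,false),(0,false)]⟩,⟨17,[(0,true),(0,true)]⟩,⟨25,[]⟩,⟨16,[(3,false),(0,true)]⟩,⟨29,[(0,false),(0,false)]⟩,⟨1,[(1,false),(0,false),(4,false),(0,true)]⟩,⟨1,[(1,false),(0,false),(4,false),(0,true)]⟩,⟨1,[(1,false),(0,false),(4,false),(0,true)]⟩,⟨0,[(3,false)]⟩,⟨2,[]⟩,⟨10,[(1,false)]⟩,⟨0,[]⟩,⟨8,[(3,true),(3,true)]⟩,⟨1,[(0,false)]⟩,⟨6,[(0,false),(1,false),(1,false),(0,false)]⟩],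
    [⟨5,[(1,true),(0,true)]⟩,⟨3,[(0,false)]⟩,⟨1,[(0,false),(0,false),(0,false)]⟩,⟨11,[(4,true),(3,false)]⟩,⟨17,[(1,false)]⟩,⟨25,[]⟩,⟨16,[(0,false),(0,false)]⟩,⟨29,[(0,false),(0,false)]⟩,⟨1,[(0,false),(1,true),(0,false)]⟩,⟨1,[(1,false),(0,false),(4,false),(0,true)]⟩,⟨0,[(2,true),(0,false),(3,false),(0,false),(1,true)]⟩,⟨17,[(0,true),(0,true)]⟩,⟨25,[]⟩,⟨16,[(0,true)]⟩,⟨0,[]⟩,⟨8,[(3,true),(3,true)]⟩,⟨11,[(4,false),(2,true)]⟩,⟨2,[]⟩,⟨1,[(1,false),(0,false)]⟩,⟨9,[(5,false)]⟩],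
    [⟨6,[(4,true),(0,true)]⟩,⟨5,[(0,true),(4,false),(1,true),(0,false)]⟩,⟨3,[(0,false)]⟩,⟨3,[(4,false),(2,false)]⟩,⟨26,[(2,true),(1,true)]⟩,⟨0,[]⟩,⟨15,[(5,true),(0,true),(0,true)]⟩,⟨1,[]⟩,⟨21,[(4,true),(0,false)]⟩,⟨21,[(0,true),(1,false),(0,true)]⟩,⟨13,[(0,false),(2,true),(0,true)]⟩,⟨15,[(2,false),(1,false),(2,true),(1,false)]⟩,⟨3,[(1,false),(1,false),(2,true),(1,false)]⟩,⟨14,[(1,true),(3,false),(1,true),(1,true),(0,false)]⟩,⟨5,[(4,false),(1,false),(0,false)]⟩,⟨6,[(1,false)]⟩,⟨11,[(2,true),(1,false)]⟩,⟨3,[]⟩,⟨5,[]⟩,⟨0,[(0,false)]⟩],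
    [⟨10,[(0,true),(3,false),(0,false)]⟩,⟨2,[]⟩,⟨3,[]⟩,⟨11,[(1,false),(2,false)]⟩,⟨23,[(2,false),(2,false),(1,true)]⟩,⟨23,[(4,true),(1,false)]⟩,⟨23,[(4,true),(1,false)]⟩,⟨23,[(4,true),(1,false)]⟩,⟨16,[(1,false)]⟩,⟨29,[(0,false),(0,false)]⟩,⟨0,[(0,false),(3,false),(1,true)]⟩,⟨17,[(0,true),(0,true)]⟩,⟨25,[]⟩,⟨24,[(1,true),(4,false)]⟩,⟨5,[(2,true),(1,false)]⟩,⟨6,[(1,false)]⟩,⟨11,[(2,true),(1,false)]⟩,⟨3,[]⟩,⟨5,[]⟩,⟨0,[(0,false)]⟩],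
    [⟨10,[(0,false),(1,false),(2,false)]⟩,⟨2,[]⟩,⟨3,[]⟩,⟨8,[(3,false),(1,true),(2,true)]⟩,⟨8,[(0,false),(4,false)]⟩,⟨13,[(2,false),(2,false),(1,false)]⟩,⟨9,[(2,false),(1,false)]⟩,⟨8,[(2,true),(1,false),(2,true)]⟩,⟨15,[(1,true),(2,false),(1,false)]⟩,⟨1,[]⟩,⟨18,[(2,false),(4,false)]⟩,⟨13,[]⟩,⟨15,[(2,false),(1,false),(2,true),(1,false)]⟩,⟨0,[(1,true),(2,true),(1,false)]⟩,⟨6,[(1,true)]⟩,⟨12,[(4,false),(2,true)]⟩,⟨22,[]⟩,⟨1,[]⟩,⟨5,[(1,true),(0,false)]⟩,⟨0,[(0,false)]⟩],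
    [⟨5,[(0,true),(0,true)]⟩,⟨3,[(0,false)]⟩,⟨1,[(0,false),(0,false),(0,false)]⟩,⟨11,[(3,false),(4,false)]⟩,⟨17,[(3,false)]⟩,⟨25,[]⟩,⟨16,[(0,false),(0,false)]⟩,⟨29,[(0,false),(0,false)]⟩,⟨1,[(0,false),(1,true),(0,false)]⟩,⟨1,[(1,false),(0,false),(4,false),(0,true)]⟩,⟨0,[(2,true),(0,false),(3,false),(0,false),(1,true)]⟩,⟨17,[(0,true),(0,true)]⟩,⟨25,[]⟩,⟨16,[(0,true)]⟩,⟨0,[(1,false)]⟩,⟨8,[(3,true),(3,true)]⟩,⟨11,[(4,false),(2,true)]⟩,⟨2,[]⟩,⟨1,[(1,false),(0,false)]⟩,⟨9,[(5,false)]⟩]]⟩),(false, ⟨[],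
    [[],
    [],
    [],
    [],
    [],
    []]⟩),(true, ⟨[],
    [[],
    [],
    [],
    [],
    [],
    []]⟩),(false, ⟨[],
    [[],
    [],
    [],
    [],
    [],
    []]⟩),(true, ⟨[⟨0,[(2,true),(4,false),(5,true),(2,true),(4,false)]⟩,⟨2,[]⟩,⟨3,[]⟩,⟨7,[(4,true),(0,true)]⟩,⟨3,[(6,true),(4,true)]⟩,⟨15,[]⟩,⟨2,[(2,true),(1,false),(0,false)]⟩,⟨14,[(2,true),(1,false),(0,false)]⟩,⟨16,[(0,true)]⟩,⟨29,[(0,false),(0,false)]⟩,⟨0,[(1,true),(5,false),(1,true),(0,true)]⟩,⟨17,[(0,true),(0,true)]⟩,⟨25,[]⟩,⟨10,[(0,false)]⟩,⟨0,[]⟩,⟨4,[(4,true),(0,true)]⟩,⟨2,[]⟩,⟨0,[(0,false)]⟩,⟨1,[]⟩,⟨0,[]⟩],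
    [[⟨9,[(1,true),(0,true),(1,true)]⟩,⟨4,[(5,true)]⟩,⟨3,[(0,false)]⟩,⟨10,[(3,false)]⟩,⟨29,[(0,false),(0,false)]⟩,⟨0,[(2,true),(0,true),(0,true),(3,false),(0,false),(0,false)]⟩,⟨17,[(0,true),(0,true)]⟩,⟨25,[]⟩,⟨16,[(3,false),(0,true)]⟩,⟨29,[(0,false),(0,false)]⟩,⟨0,[(0,true),(5,false),(0,false),(1,false),(0,false)]⟩,⟨17,[(0,true),(0,true)]⟩,⟨25,[]⟩,⟨23,[(1,false),(4,true)]⟩,⟨3,[]⟩,⟨13,[(5,false),(1,true),(0,true),(0,true)]⟩,⟨5,[]⟩,⟨6,[(1,false)]⟩,⟨1,[]⟩,⟨0,[]⟩],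
    [⟨5,[(1,true),(0,true)]⟩,⟨3,[(0,false)]⟩,⟨1,[(0,false),(0,false),(0,false)]⟩,⟨11,[(4,true),(3,false)]⟩,⟨17,[(1,false)]⟩,⟨25,[]⟩,⟨16,[(0,false),(0,false)]⟩,⟨29,[(0,false),(0,false)]⟩,⟨1,[(0,false),(1,true),(0,false)]⟩,⟨1,[(1,false),(0,false),(4,false),(0,true)]⟩,⟨0,[(1,true),(4,false),(0,false),(2,false),(0,false)]⟩,⟨17,[(0,true),(0,true)]⟩,⟨25,[]⟩,⟨24,[(3,false),(4,false)]⟩,⟨5,[(2,true),(1,false)]⟩,⟨6,[(1,false)]⟩,⟨11,[(2,true),(1,false)]⟩,⟨3,[]⟩,⟨5,[]⟩,⟨0,[(0,false)]⟩],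
    [⟨6,[(4,true),(0,true)]⟩,⟨5,[(0,true),(4,false),(1,true),(0,false)]⟩,⟨3,[(0,false)]⟩,⟨3,[(4,false),(2,false)]⟩,⟨26,[(2,true),(1,true)]⟩,⟨0,[]⟩,⟨15,[(5,true),(0,true),(0,true)]⟩,⟨1,[]⟩,⟨21,[(4,true),(0,false)]⟩,⟨21,[(0,true),(1,false),(0,true)]⟩,⟨21,[(2,false),(1,false),(0,false)]⟩,⟨21,[(0,true),(1,false),(0,true)]⟩,⟨21,[(0,true),(1,false),(0,true)]⟩,⟨8,[(2,true),(0,true)]⟩,⟨5,[(2,true),(1,false)]⟩,⟨6,[(1,false)]⟩,⟨11,[(2,true),(1,false)]⟩,⟨3,[]⟩,⟨5,[]⟩,⟨0,[(0,false)]⟩],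
    [⟨10,[(0,true),(3,false),(0,false)]⟩,⟨2,[]⟩,⟨3,[]⟩,⟨11,[(1,false),(2,false)]⟩,⟨23,[(2,false),(2,false),(1,true)]⟩,⟨23,[(4,true),(1,false)]⟩,⟨23,[(4,true),(1,false)]⟩,⟨23,[(4,true),(1,false)]⟩,⟨16,[(1,false)]⟩,⟨29,[(0,false),(0,false)]⟩,⟨0,[(3,false),(1,true),(0,true)]⟩,⟨17,[(0,true),(0,true)]⟩,⟨25,[]⟩,⟨23,[(1,false)]⟩,⟨5,[(3,true),(1,false)]⟩,⟨6,[(1,false)]⟩,⟨11,[(2,true),(1,false)]⟩,⟨3,[]⟩,⟨5,[]⟩,⟨0,[(0,false)]⟩],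
    [⟨10,[(0,false),(1,false),(2,false)]⟩,⟨2,[]⟩,⟨3,[]⟩,⟨8,[(3,false),(1,true),(2,true)]⟩,⟨8,[(0,false),(4,false)]⟩,⟨13,[(2,false),(2,false),(1,false)]⟩,⟨9,[(2,false),(1,false)]⟩,⟨8,[(2,true),(1,false),(2,true)]⟩,⟨15,[(1,true),(2,false),(1,false)]⟩,⟨1,[]⟩,⟨13,[(2,false),(3,true)]⟩,⟨15,[(2,false),(1,false),(2,true),(1,false)]⟩,⟨3,[(1,false),(1,false),(2,true),(1,false)]⟩,⟨8,[(1,true),(1,true)]⟩,⟨8,[(4,true),(0,true)]⟩,⟨13,[(2,false),(2,false),(1,false)]⟩,⟨9,[(2,false),(1,false)]⟩,⟨8,[(2,true),(1,false),(2,true)]⟩,⟨1,[(0,false)]⟩,⟨9,[(5,false)]⟩],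
    [⟨5,[(0,true),(0,true)]⟩,⟨3,[(0,false)]⟩,⟨1,[(0,false),(0,false),(0,false)]⟩,⟨11,[(3,false),(4,false)]⟩,⟨17,[(3,false)]⟩,⟨25,[]⟩,⟨16,[(0,false),(0,false)]⟩,⟨29,[(0,false),(0,false)]⟩,⟨1,[(0,false),(1,true),(0,false)]⟩,⟨1,[(1,false),(0,false),(4,false),(0,true)]⟩,⟨0,[(4,false),(0,false),(1,true),(1,true),(0,false)]⟩,⟨17,[(0,true),(0,true)]⟩,⟨25,[]⟩,⟨24,[(1,false)]⟩,⟨5,[(2,true),(1,false)]⟩,⟨6,[(1,false)]⟩,⟨11,[(2,true),(1,false)]⟩,⟨3,[]⟩,⟨5,[]⟩,⟨0,[(0,false)]⟩]]⟩),(false, ⟨[],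
    [[],
    [],
    [],
    [],
    [],
    []]⟩),(false, ⟨[],
    [[],
    [],
    [],
    [],
    [],
    []]⟩),(true, ⟨[⟨0,[(2,true),(4,false),(5,true),(2,true),(4,false)]⟩,⟨2,[]⟩,⟨3,[]⟩,⟨7,[(4,true),(0,true)]⟩,⟨3,[(6,true),(4,true)]⟩,⟨15,[]⟩,⟨2,[(2,true),(1,false),(0,false)]⟩,⟨14,[(2,true),(1,false),(0,false)]⟩,⟨16,[(0,true)]⟩,⟨29,[(0,false),(0,false)]⟩,⟨0,[(0,true),(1,false),(4,false),(0,false),(0,false)]⟩,⟨17,[(0,true),(0,true)]⟩,⟨25,[]⟩,⟨10,[(0,false)]⟩,⟨0,[]⟩,⟨4,[(4,true),(0,true)]⟩,⟨2,[]⟩,⟨0,[(0,false)]⟩,⟨1,[]⟩,⟨0,[]⟩],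
    [[⟨9,[(1,true),(0,true),(1,true)]⟩,⟨4,[(5,true)]⟩,⟨3,[(0,false)]⟩,⟨10,[(3,false)]⟩,⟨29,[(0,false),(0,false)]⟩,⟨0,[(2,true),(0,true),(0,true),(3,false),(0,false),(0,false)]⟩,⟨17,[(0,true),(0,true)]⟩,⟨25,[]⟩,⟨16,[(3,false),(0,true)]⟩,⟨29,[(0,false),(0,false)]⟩,⟨0,[(0,true),(4,false),(2,false),(1,true)]⟩,⟨17,[(0,true),(0,true)]⟩,⟨25,[]⟩,⟨24,[(3,false),(4,false)]⟩,⟨3,[(1,true)]⟩,⟨13,[(5,false),(1,true),(0,true),(0,true)]⟩,⟨5,[]⟩,⟨6,[(1,false)]⟩,⟨1,[]⟩,⟨0,[]⟩],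
    [⟨5,[(1,true),(0,true)]⟩,⟨3,[(0,false)]⟩,⟨1,[(0,false),(0,false),(0,false)]⟩,⟨11,[(4,true),(3,false)]⟩,⟨17,[(1,false)]⟩,⟨25,[]⟩,⟨16,[(0,false),(0,false)]⟩,⟨29,[(0,false),(0,false)]⟩,⟨1,[(0,false),(1,true),(0,false)]⟩,⟨1,[(1,false),(0,false),(4,false),(0,true)]⟩,⟨0,[(0,false),(1,false),(0,false)]⟩,⟨17,[(0,true),(0,true)]⟩,⟨25,[]⟩,⟨24,[(4,false),(3,false),(1,false)]⟩,⟨5,[(2,true),(1,false)]⟩,⟨6,[(1,false)]⟩,⟨11,[(2,true),(1,false)]⟩,⟨3,[]⟩,⟨5,[]⟩,⟨0,[(0,false)]⟩],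
    [⟨6,[(4,true),(0,true)]⟩,⟨5,[(0,true),(4,false),(1,true),(0,false)]⟩,⟨3,[(0,false)]⟩,⟨3,[(4,false),(2,false)]⟩,⟨26,[(2,true),(1,true)]⟩,⟨0,[]⟩,⟨15,[(5,true),(0,true),(0,true)]⟩,⟨1,[]⟩,⟨21,[(4,true),(0,false)]⟩,⟨21,[(0,true),(1,false),(0,true)]⟩,⟨6,[(0,true),(1,false),(0,true)]⟩,⟨7,[(2,true),(0,false),(1,false),(0,false)]⟩,⟨12,[(1,false),(2,false)]⟩,⟨24,[(1,false),(1,false)]⟩,⟨5,[(2,false)]⟩,⟨6,[(1,false)]⟩,⟨11,[(2,true),(1,false)]⟩,⟨3,[]⟩,⟨5,[]⟩,⟨0,[(0,false)]⟩],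
    [⟨10,[(0,true),(3,false),(0,false)]⟩,⟨2,[]⟩,⟨3,[]⟩,⟨11,[(1,false),(2,false)]⟩,⟨23,[(2,false),(2,false),(1,true)]⟩,⟨23,[(4,true),(1,false)]⟩,⟨23,[(4,true),(1,false)]⟩,⟨23,[(4,true),(1,false)]⟩,⟨16,[(1,false)]⟩,⟨29,[(0,false),(0,false)]⟩,⟨1,[(1,false),(0,true),(1,false),(0,false)]⟩,⟨1,[(1,false),(0,false),(4,false),(0,true)]⟩,⟨1,[(1,false),(0,false),(4,false),(0,true)]⟩,⟨0,[(1,true),(0,false),(0,false),(3,false),(1,true)]⟩,⟨10,[(0,false)]⟩,⟨3,[(0,false),(0,false),(0,false)]⟩,⟨15,[]⟩,⟨2,[(2,true),(1,false),(0,false)]⟩,⟨1,[(1,false)]⟩,⟨9,[(5,false)]⟩],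
    [⟨10,[(0,false),(1,false),(2,false)]⟩,⟨2,[]⟩,⟨3,[]⟩,⟨8,[(3,false),(1,true),(2,true)]⟩,⟨8,[(0,false),(4,false)]⟩,⟨13,[(2,false),(2,false),(1,false)]⟩,⟨9,[(2,false),(1,false)]⟩,⟨8,[(2,true),(1,false),(2,true)]⟩,⟨15,[(1,true),(2,false),(1,false)]⟩,⟨1,[]⟩,⟨28,[(0,false),(1,true),(0,false)]⟩,⟨4,[(1,false),(1,false),(2,true),(1,false)]⟩,⟨6,[(2,true),(4,false)]⟩,⟨4,[(2,false),(2,false),(1,false)]⟩,⟨8,[(1,true),(2,false),(0,false)]⟩,⟨13,[(2,false),(2,false),(1,false)]⟩,⟨9,[(2,false),(1,false)]⟩,⟨8,[(2,true),(1,false),(2,true)]⟩,⟨1,[(0,false)]⟩,⟨9,[(5,false)]⟩],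
    [⟨5,[(0,true),(0,true)]⟩,⟨3,[(0,false)]⟩,⟨1,[(0,false),(0,false),(0,false)]⟩,⟨11,[(3,false),(4,false)]⟩,⟨17,[(3,false)]⟩,⟨25,[]⟩,⟨16,[(0,false),(0,false)]⟩,⟨29,[(0,false),(0,false)]⟩,⟨1,[(0,false),(1,true),(0,false)]⟩,⟨1,[(1,false),(0,false),(4,false),(0,true)]⟩,⟨0,[(3,false),(0,true),(1,false),(1,false),(0,true)]⟩,⟨17,[(0,true),(0,true)]⟩,⟨25,[]⟩,⟨23,[(1,true),(4,false)]⟩,⟨5,[(3,true),(1,false)]⟩,⟨6,[(1,false)]⟩,⟨11,[(2,true),(1,false)]⟩,⟨3,[]⟩,⟨5,[]⟩,⟨0,[(0,false)]⟩]]⟩),(false, ⟨[],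
    [[],
    [],
    [],
    [],
    [],
    []]⟩),(true, ⟨[⟨0,[(2,true),(4,false),(5,true),(2,true),(4,false)]⟩,⟨2,[]⟩,⟨3,[]⟩,⟨7,[(4,true),(0,true)]⟩,⟨3,[(6,true),(4,true)]⟩,⟨15,[]⟩,⟨2,[(2,true),(1,false),(0,false)]⟩,⟨14,[(2,true),(1,false),(0,false)]⟩,⟨16,[(0,true)]⟩,⟨29,[(0,false),(0,false)]⟩,⟨0,[(0,false),(0,false),(4,false),(1,true),(0,false)]⟩,⟨17,[(0,true),(0,true)]⟩,⟨25,[]⟩,⟨10,[(0,false)]⟩,⟨0,[]⟩,⟨4,[(4,true),(0,true)]⟩,⟨2,[]⟩,⟨0,[(0,false)]⟩,⟨1,[]⟩,⟨0,[]⟩],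
    [[⟨9,[(1,true),(0,true),(1,true)]⟩,⟨4,[(5,true)]⟩,⟨3,[(0,false)]⟩,⟨10,[(3,false)]⟩,⟨29,[(0,false),(0,false)]⟩,⟨0,[(2,true),(0,true),(0,true),(3,false),(0,false),(0,false)]⟩,⟨17,[(0,true),(0,true)]⟩,⟨25,[]⟩,⟨16,[(3,false),(0,true)]⟩,⟨29,[(0,false),(0,false)]⟩,⟨0,[(1,false),(0,true),(4,false),(3,false),(0,false),(0,false)]⟩,⟨17,[(0,true),(0,true)]⟩,⟨25,[]⟩,⟨2,[(1,false)]⟩,⟨6,[(4,true),(1,false),(0,false)]⟩,⟨12,[(4,false),(2,true)]⟩,⟨22,[]⟩,⟨1,[]⟩,⟨2,[]⟩,⟨0,[(0,false)]⟩],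
    [⟨5,[(1,true),(0,true)]⟩,⟨3,[(0,false)]⟩,⟨1,[(0,false),(0,false),(0,false)]⟩,⟨11,[(4,true),(3,false)]⟩,⟨17,[(1,false)]⟩,⟨25,[]⟩,⟨16,[(0,false),(0,false)]⟩,⟨29,[(0,false),(0,false)]⟩,⟨1,[(0,false),(1,true),(0,false)]⟩,⟨1,[(1,false),(0,false),(4,false),(0,true)]⟩,⟨0,[(1,true),(3,false),(0,true),(1,false),(0,false)]⟩,⟨17,[(0,true),(0,true)]⟩,⟨25,[]⟩,⟨2,[]⟩,⟨0,[]⟩,⟨8,[(2,false),(0,true),(2,false)]⟩,⟨5,[(0,false)]⟩,⟨6,[]⟩,⟨5,[(3,true),(1,false)]⟩,⟨0,[(0,false)]⟩],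
    [⟨6,[(4,true),(0,true)]⟩,⟨5,[(0,true),(4,false),(1,true),(0,false)]⟩,⟨3,[(0,false)]⟩,⟨3,[(4,false),(2,false)]⟩,⟨26,[(2,true),(1,true)]⟩,⟨0,[]⟩,⟨15,[(5,true),(0,true),(0,true)]⟩,⟨1,[]⟩,⟨21,[(4,true),(0,false)]⟩,⟨21,[(0,true),(1,false),(0,true)]⟩,⟨28,[(1,false),(4,false)]⟩,⟨4,[(1,false),(1,false),(2,true),(1,false)]⟩,⟨6,[(2,true),(4,false)]⟩,⟨12,[(1,false),(2,true),(0,false)]⟩,⟨5,[(0,false)]⟩,⟨6,[(1,false)]⟩,⟨11,[(2,true),(1,false)]⟩,⟨3,[]⟩,⟨5,[]⟩,⟨0,[(0,false)]⟩],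
    [⟨10,[(0,true),(3,false),(0,false)]⟩,⟨2,[]⟩,⟨3,[]⟩,⟨11,[(1,false),(2,false)]⟩,⟨23,[(2,false),(2,false),(1,true)]⟩,⟨23,[(4,true),(1,false)]⟩,⟨23,[(4,true),(1,false)]⟩,⟨23,[(4,true),(1,false)]⟩,⟨16,[(1,false)]⟩,⟨29,[(0,false),(0,false)]⟩,⟨0,[(4,false),(3,false),(2,false),(1,false),(0,true)]⟩,⟨17,[(0,true),(0,true)]⟩,⟨25,[]⟩,⟨7,[(2,false),(2,false)]⟩,⟨8,[(2,false),(1,false)]⟩,⟨13,[(2,false),(2,false),(1,false)]⟩,⟨9,[(2,false),(1,false)]⟩,⟨8,[(2,true),(1,false),(2,true)]⟩,⟨1,[(0,false)]⟩,⟨9,[(5,false)]⟩],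
    [⟨10,[(0,false),(1,false),(2,false)]⟩,⟨2,[]⟩,⟨3,[]⟩,⟨8,[(3,false),(1,true),(2,true)]⟩,⟨8,[(0,false),(4,false)]⟩,⟨13,[(2,false),(2,false),(1,false)]⟩,⟨9,[(2,false),(1,false)]⟩,⟨8,[(2,true),(1,false),(2,true)]⟩,⟨15,[(1,true),(2,false),(1,false)]⟩,⟨1,[]⟩,⟨23,[(4,false),(3,true),(0,true)]⟩,⟨23,[(4,true),(1,false)]⟩,⟨23,[(4,true),(1,false)]⟩,⟨7,[(3,false),(0,false)]⟩,⟨8,[(1,true),(2,false)]⟩,⟨13,[(2,false),(2,false),(1,false)]⟩,⟨9,[(2,false),(1,false)]⟩,⟨8,[(2,true),(1,false),(2,true)]⟩,⟨1,[(0,false)]⟩,⟨9,[(5,false)]⟩],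
    [⟨5,[(0,true),(0,true)]⟩,⟨3,[(0,false)]⟩,⟨1,[(0,false),(0,false),(0,false)]⟩,⟨11,[(3,false),(4,false)]⟩,⟨17,[(3,false)]⟩,⟨25,[]⟩,⟨16,[(0,false),(0,false)]⟩,⟨29,[(0,false),(0,false)]⟩,⟨1,[(0,false),(1,true),(0,false)]⟩,⟨1,[(1,false),(0,false),(4,false),(0,true)]⟩,⟨0,[(1,true),(3,false),(0,true),(1,false),(0,false)]⟩,⟨17,[(0,true),(0,true)]⟩,⟨25,[]⟩,⟨2,[(1,false)]⟩,⟨0,[]⟩,⟨8,[(2,false),(0,true),(2,false)]⟩,⟨5,[(0,false)]⟩,⟨6,[]⟩,⟨5,[(1,false),(1,false)]⟩,⟨0,[(0,false)]⟩]]⟩),(true, ⟨[⟨0,[(2,true),(4,false),(5,true),(2,true),(4,false)]⟩,⟨2,[]⟩,⟨3,[]⟩,⟨7,[(4,true),(0,true)]⟩,⟨3,[(6,true),(4,true)]⟩,⟨15,[]⟩,⟨2,[(2,true),(1,false),(0,false)]⟩,⟨14,[(2,true),(1,false),(0,false)]⟩,⟨16,[(0,true)]⟩,⟨29,[(0,false),(0,false)]⟩,⟨0,[(1,false),(0,true),(5,false),(0,false),(0,false)]⟩,⟨17,[(0,true),(0,true)]⟩,⟨25,[]⟩,⟨10,[(0,false)]⟩,⟨0,[]⟩,⟨4,[(4,true),(0,true)]⟩,⟨2,[]⟩,⟨0,[(0,false)]⟩,⟨1,[]⟩,⟨0,[]⟩],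
    [[⟨9,[(1,true),(0,true),(1,true)]⟩,⟨4,[(5,true)]⟩,⟨3,[(0,false)]⟩,⟨10,[(3,false)]⟩,⟨29,[(0,false),(0,false)]⟩,⟨0,[(2,true),(0,true),(0,true),(3,false),(0,false),(0,false)]⟩,⟨17,[(0,true),(0,true)]⟩,⟨25,[]⟩,⟨16,[(3,false),(0,true)]⟩,⟨29,[(0,false),(0,false)]⟩,⟨0,[(1,false),(0,true),(5,false),(0,false),(0,false)]⟩,⟨17,[(0,true),(0,true)]⟩,⟨25,[]⟩,⟨2,[(1,false)]⟩,⟨5,[(1,false),(0,false)]⟩,⟨6,[]⟩,⟨5,[(1,false),(0,false)]⟩,⟨0,[(0,false)]⟩,⟨7,[(5,false),(2,true)]⟩,⟨0,[(0,false),(0,false),(0,false)]⟩],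
    [⟨5,[(1,true),(0,true)]⟩,⟨3,[(0,false)]⟩,⟨1,[(0,false),(0,false),(0,false)]⟩,⟨11,[(4,true),(3,false)]⟩,⟨17,[(1,false)]⟩,⟨25,[]⟩,⟨16,[(0,false),(0,false)]⟩,⟨29,[(0,false),(0,false)]⟩,⟨1,[(0,false),(1,true),(0,false)]⟩,⟨1,[(1,false),(0,false),(4,false),(0,true)]⟩,⟨0,[(1,false),(0,false),(4,false),(2,false),(0,false)]⟩,⟨17,[(0,true),(0,true)]⟩,⟨25,[]⟩,⟨2,[(1,false)]⟩,⟨6,[(1,true),(0,false)]⟩,⟨12,[(4,false),(2,true)]⟩,⟨22,[]⟩,⟨1,[]⟩,⟨5,[(1,true),(0,false)]⟩,⟨0,[(0,false)]⟩],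
    [⟨6,[(4,true),(0,true)]⟩,⟨5,[(0,true),(4,false),(1,true),(0,false)]⟩,⟨3,[(0,false)]⟩,⟨3,[(4,false),(2,false)]⟩,⟨26,[(2,true),(1,true)]⟩,⟨0,[]⟩,⟨15,[(5,true),(0,true),(0,true)]⟩,⟨1,[]⟩,⟨21,[(4,true),(0,false)]⟩,⟨21,[(0,true),(1,false),(0,true)]⟩,⟨27,[(4,false),(0,false)]⟩,⟨5,[(2,false),(1,false)]⟩,⟨2,[]⟩,⟨23,[(4,true),(0,true)]⟩,⟨5,[(3,true),(1,false)]⟩,⟨6,[(1,false)]⟩,⟨11,[(2,true),(1,false)]⟩,⟨3,[]⟩,⟨5,[]⟩,⟨0,[(0,false)]⟩],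
    [⟨10,[(0,true),(3,false),(0,false)]⟩,⟨2,[]⟩,⟨3,[]⟩,⟨11,[(1,false),(2,false)]⟩,⟨23,[(2,false),(2,false),(1,true)]⟩,⟨23,[(4,true),(1,false)]⟩,⟨23,[(4,true),(1,false)]⟩,⟨23,[(4,true),(1,false)]⟩,⟨16,[(1,false)]⟩,⟨29,[(0,false),(0,false)]⟩,⟨0,[(0,false),(2,false),(3,false),(0,false),(0,false)]⟩,⟨17,[(0,true),(0,true)]⟩,⟨25,[]⟩,⟨7,[(2,false),(0,false),(0,false)]⟩,⟨8,[(5,false),(4,true),(2,false)]⟩,⟨13,[(2,false),(2,false),(1,false)]⟩,⟨9,[(2,false),(1,false)]⟩,⟨8,[(2,true),(1,false),(2,true)]⟩,⟨1,[(0,false)]⟩,⟨9,[(5,false)]⟩],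
    [⟨10,[(0,false),(1,false),(2,false)]⟩,⟨2,[]⟩,⟨3,[]⟩,⟨8,[(3,false),(1,true),(2,true)]⟩,⟨8,[(0,false),(4,false)]⟩,⟨13,[(2,false),(2,false),(1,false)]⟩,⟨9,[(2,false),(1,false)]⟩,⟨8,[(2,true),(1,false),(2,true)]⟩,⟨15,[(1,true),(2,false),(1,false)]⟩,⟨1,[]⟩,⟨28,[(1,false)]⟩,⟨4,[(1,false),(1,false),(2,true),(1,false)]⟩,⟨6,[(2,true),(4,false)]⟩,⟨4,[(2,false),(2,false),(1,false)]⟩,⟨8,[(1,true),(2,false),(0,false)]⟩,⟨13,[(2,false),(2,false),(1,false)]⟩,⟨9,[(2,false),(1,false)]⟩,⟨8,[(2,true),(1,false),(2,true)]⟩,⟨1,[(0,false)]⟩,⟨9,[(5,false)]⟩],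
    [⟨5,[(0,true),(0,true)]⟩,⟨3,[(0,false)]⟩,⟨1,[(0,false),(0,false),(0,false)]⟩,⟨11,[(3,false),(4,false)]⟩,⟨17,[(3,false)]⟩,⟨25,[]⟩,⟨16,[(0,false),(0,false)]⟩,⟨29,[(0,false),(0,false)]⟩,⟨1,[(0,false),(1,true),(0,false)]⟩,⟨1,[(1,false),(0,false),(4,false),(0,true)]⟩,⟨0,[(1,false),(1,false),(0,false),(1,true),(0,false)]⟩,⟨17,[(0,true),(0,true)]⟩,⟨25,[]⟩,⟨2,[(1,false)]⟩,⟨6,[(0,false),(1,true)]⟩,⟨12,[(4,false),(2,true)]⟩,⟨22,[]⟩,⟨1,[]⟩,⟨5,[(1,true),(0,false)]⟩,⟨0,[(0,false)]⟩]]⟩)]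

/-- conjugates -/
def actData : List (Bool × Wit) :=
  [(false, ⟨[],
    [[],
    [],
    [],
    [],
    [],
    []]⟩),(true, ⟨[],
    [[],
    [],
    [],
    [],
    [],
    []]⟩),(false, ⟨[],
    [[],
    [],
    [],
    [],
    [],
    []]⟩),(false, ⟨[],
    [[],
    [],
    [],
    [],
    [],
    []]⟩),(false, ⟨[],
    [[],
    [],
    [],
    [],
    [],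
    []]⟩),(true, ⟨[],
    [[],
    [],
    [],
    [],
    [],
    []]⟩),(false, ⟨[],
    [[],
    [],
    [],
    [],
    [],
    []]⟩),(false, ⟨[⟨0,[(5,false),(4,false),(2,true),(5,true),(4,false),(0,false)]⟩,⟨2,[]⟩,⟨3,[]⟩,⟨7,[(0,true),(4,true)]⟩,⟨3,[(2,false),(6,false)]⟩,⟨15,[]⟩,⟨2,[(2,true),(1,false),(0,false)]⟩,⟨14,[(2,true),(1,false),(0,false)]⟩,⟨16,[(3,false),(0,true)]⟩,⟨29,[(0,false),(0,false)]⟩,⟨0,[(0,false),(5,false),(2,false),(3,false),(0,false)]⟩,⟨17,[(0,true),(0,true)]⟩,⟨25,[]⟩,⟨10,[(0,false)]⟩,⟨0,[]⟩,⟨4,[(4,true),(0,true)]⟩,⟨2,[]⟩,⟨0,[(0,false)]⟩,⟨1,[]⟩,⟨0,[]⟩],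
    [[⟨9,[(1,false),(3,false),(0,true)]⟩,⟨4,[(5,true)]⟩,⟨3,[(0,false)]⟩,⟨10,[(5,false),(3,false)]⟩,⟨29,[(0,false),(0,false)]⟩,⟨0,[(2,true),(0,true),(0,true),(3,false),(0,false),(0,false)]⟩,⟨17,[(0,true),(0,true)]⟩,⟨25,[]⟩,⟨16,[(3,false),(0,true)]⟩,⟨29,[(0,false),(0,false)]⟩,⟨0,[(1,true),(0,true),(1,true),(5,false),(0,false)]⟩,⟨17,[(0,true),(0,true)]⟩,⟨25,[]⟩,⟨24,[(2,true),(4,true)]⟩,⟨5,[(2,true),(1,false)]⟩,⟨6,[(1,false)]⟩,⟨11,[(2,true),(1,false)]⟩,⟨3,[]⟩,⟨5,[]⟩,⟨0,[(0,false)]⟩],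
    [⟨10,[(1,false),(1,false)]⟩,⟨2,[]⟩,⟨3,[]⟩,⟨8,[(2,false),(1,false),(1,false)]⟩,⟨11,[(2,true),(1,false)]⟩,⟨27,[(1,false)]⟩,⟨5,[(2,false),(1,false)]⟩,⟨2,[]⟩,⟨16,[]⟩,⟨29,[(0,false),(0,false)]⟩,⟨0,[(1,true),(5,false),(1,true),(0,false),(0,false)]⟩,⟨17,[(0,true),(0,true)]⟩,⟨25,[]⟩,⟨24,[(4,false),(3,false),(1,false)]⟩,⟨3,[(1,true)]⟩,⟨13,[(5,false),(1,true),(0,true),(0,true)]⟩,⟨5,[]⟩,⟨6,[(1,false)]⟩,⟨1,[]⟩,⟨0,[]⟩],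
    [⟨10,[(1,false),(5,true),(2,true)]⟩,⟨2,[]⟩,⟨3,[]⟩,⟨8,[(2,false),(1,false),(1,false)]⟩,⟨11,[(5,false),(0,false),(0,false)]⟩,⟨27,[(1,false)]⟩,⟨5,[(2,false),(1,false)]⟩,⟨2,[]⟩,⟨23,[(2,true),(0,true)]⟩,⟨23,[(4,true),(1,false)]⟩,⟨28,[(4,false),(0,false)]⟩,⟨4,[(1,false),(1,false),(2,true),(1,false)]⟩,⟨6,[(2,true),(4,false)]⟩,⟨12,[(1,false),(2,true),(0,false)]⟩,⟨3,[(0,true),(2,false)]⟩,⟨13,[(5,false),(1,true),(0,true),(0,true)]⟩,⟨5,[]⟩,⟨6,[(1,false)]⟩,⟨1,[]⟩,⟨0,[]⟩],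
    [⟨10,[(0,true),(3,true),(1,true)]⟩,⟨2,[]⟩,⟨3,[]⟩,⟨11,[(1,true),(2,false),(2,false)]⟩,⟨24,[(4,true),(3,false),(1,true)]⟩,⟨24,[(1,true),(4,false)]⟩,⟨24,[(1,true),(4,false)]⟩,⟨24,[(1,true),(4,false)]⟩,⟨16,[(0,false),(0,false)]⟩,⟨29,[(0,false),(0,false)]⟩,⟨0,[(0,true),(1,true),(3,false),(0,true)]⟩,⟨17,[(0,true),(0,true)]⟩,⟨25,[]⟩,⟨24,[(1,true),(4,false)]⟩,⟨3,[]⟩,⟨13,[(5,false),(1,true),(0,true),(0,true)]⟩,⟨5,[]⟩,⟨6,[(1,false)]⟩,⟨1,[]⟩,⟨0,[]⟩],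
    [⟨10,[(3,true),(0,false),(1,false)]⟩,⟨2,[]⟩,⟨3,[]⟩,⟨11,[(1,true),(2,true)]⟩,⟨23,[(4,true)]⟩,⟨23,[(4,true),(1,false)]⟩,⟨23,[(4,true),(1,false)]⟩,⟨23,[(4,true),(1,false)]⟩,⟨7,[(1,false),(0,true)]⟩,⟨11,[(4,false),(0,false),(5,false),(0,false)]⟩,⟨6,[(4,false),(0,true)]⟩,⟨7,[(2,true),(0,false),(1,false),(0,false)]⟩,⟨12,[(1,false),(2,false)]⟩,⟨7,[(2,true),(2,true)]⟩,⟨9,[(1,true),(2,false)]⟩,⟨8,[(4,true),(3,false)]⟩,⟨13,[(2,false),(2,false),(1,false)]⟩,⟨9,[(2,false),(1,false)]⟩,⟨1,[]⟩,⟨0,[]⟩],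
    [⟨10,[(0,true),(1,false),(4,false)]⟩,⟨2,[]⟩,⟨3,[]⟩,⟨11,[(1,true),(2,true)]⟩,⟨24,[(4,false)]⟩,⟨24,[(1,true),(4,false)]⟩,⟨24,[(1,true),(4,false)]⟩,⟨24,[(1,true),(4,false)]⟩,⟨16,[(0,false),(0,false)]⟩,⟨29,[(0,false),(0,false)]⟩,⟨0,[(0,false),(2,true),(1,false),(0,true)]⟩,⟨17,[(0,true),(0,true)]⟩,⟨25,[]⟩,⟨23,[(1,true)]⟩,⟨3,[]⟩,⟨13,[(5,false),(1,true),(0,true),(0,true)]⟩,⟨5,[]⟩,⟨6,[(1,false)]⟩,⟨1,[]⟩,⟨0,[]⟩]]⟩),(false, ⟨[],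
    [[],
    [],
    [],
    [],
    [],
    []]⟩),(false, ⟨[],
    [[],
    [],
    [],
    [],
    [],
    []]⟩),(false, ⟨[],
    [[],
    [],
    [],
    [],
    [],
    []]⟩),(false, ⟨[],
    [[],
    [],
    [],
    [],
    [],
    []]⟩),(true, ⟨[],
    [[],
    [],
    [],
    [],
    [],
    []]⟩),(true, ⟨[],
    [[],
    [],
    [],
    [],
    [],
    []]⟩),(false, ⟨[],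
    [[],
    [],
    [],
    [],
    [],
    []]⟩),(false, ⟨[⟨0,[(2,true),(4,false),(5,true),(2,true),(4,false)]⟩,⟨2,[]⟩,⟨3,[]⟩,⟨7,[(4,true),(0,true)]⟩,⟨3,[(4,false)]⟩,⟨15,[]⟩,⟨2,[(2,true),(1,false),(0,false)]⟩,⟨14,[(2,true),(1,false),(0,false)]⟩,⟨16,[(3,false),(0,true)]⟩,⟨29,[(0,false),(0,false)]⟩,⟨0,[(2,true),(0,true),(0,true),(3,false),(0,false),(0,false)]⟩,⟨17,[(0,true),(0,true)]⟩,⟨25,[]⟩,⟨10,[(0,false)]⟩,⟨0,[]⟩,⟨4,[(4,true),(0,true)]⟩,⟨2,[]⟩,⟨0,[(0,false)]⟩,⟨1,[]⟩,⟨0,[]⟩],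
    [[⟨9,[(1,true),(0,true),(1,true)]⟩,⟨4,[(5,true)]⟩,⟨3,[(0,false)]⟩,⟨10,[(3,false)]⟩,⟨29,[(1,false)]⟩,⟨0,[(2,true),(0,true),(0,true),(3,false),(0,false),(0,false)]⟩,⟨17,[(0,true),(0,true)]⟩,⟨25,[]⟩,⟨16,[(1,false),(0,false)]⟩,⟨29,[(0,false),(0,false)]⟩,⟨0,[(2,true),(0,true),(0,true),(3,false),(0,false),(0,false)]⟩,⟨17,[(0,true),(0,true)]⟩,⟨25,[]⟩,⟨16,[(3,false),(0,true)]⟩,⟨15,[(0,false)]⟩,⟨2,[(2,true),(1,false),(0,false)]⟩,⟨14,[(2,true),(1,false),(0,false)]⟩,⟨10,[]⟩,⟨1,[]⟩,⟨1,[(0,false)]⟩],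
    [⟨5,[(1,true),(0,true)]⟩,⟨3,[(0,false)]⟩,⟨1,[(0,false),(0,false),(0,false)]⟩,⟨11,[(4,true),(3,false)]⟩,⟨17,[(2,true)]⟩,⟨25,[]⟩,⟨16,[(0,false),(0,false)]⟩,⟨29,[(0,false),(0,false)]⟩,⟨1,[(2,false),(0,false),(1,true),(0,false)]⟩,⟨1,[(1,false),(0,false),(4,false),(0,true)]⟩,⟨1,[(1,false),(0,false),(4,false),(0,true)]⟩,⟨1,[(1,false),(0,false),(4,false),(0,true)]⟩,⟨1,[(1,false),(0,false),(4,false),(0,true)]⟩,⟨0,[(0,true),(1,false),(0,true),(1,false)]⟩,⟨10,[(0,false)]⟩,⟨3,[(0,false),(0,false),(0,false)]⟩,⟨15,[]⟩,⟨2,[(2,true),(1,false),(0,false)]⟩,⟨1,[(1,false)]⟩,⟨9,[(5,false)]⟩],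
    [⟨6,[(4,true),(0,true)]⟩,⟨5,[(0,true),(4,false),(1,true),(0,false)]⟩,⟨3,[(0,false)]⟩,⟨3,[(4,false),(2,false)]⟩,⟨26,[(3,false)]⟩,⟨0,[]⟩,⟨15,[(5,true),(0,true),(0,true)]⟩,⟨1,[]⟩,⟨21,[(0,true),(2,false)]⟩,⟨21,[(0,true),(1,false),(0,true)]⟩,⟨21,[(0,true),(1,false),(0,true)]⟩,⟨21,[(0,true),(1,false),(0,true)]⟩,⟨21,[(0,true),(1,false),(0,true)]⟩,⟨8,[(2,true),(0,true)]⟩,⟨5,[(2,true),(1,false)]⟩,⟨6,[(1,false)]⟩,⟨11,[(2,true),(1,false)]⟩,⟨3,[]⟩,⟨5,[]⟩,⟨0,[(0,false)]⟩],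
    [⟨10,[(0,true),(3,false),(0,false)]⟩,⟨2,[]⟩,⟨3,[]⟩,⟨11,[(1,false),(2,false)]⟩,⟨23,[(2,false),(4,true),(2,false)]⟩,⟨23,[(4,true),(1,false)]⟩,⟨23,[(4,true),(1,false)]⟩,⟨23,[(4,true),(1,false)]⟩,⟨16,[(1,false)]⟩,⟨29,[(0,false),(0,false)]⟩,⟨0,[(2,true),(0,true),(0,true),(3,false),(0,false),(0,false)]⟩,⟨17,[(0,true),(0,true)]⟩,⟨25,[]⟩,⟨23,[(4,false),(3,true)]⟩,⟨5,[(3,true),(1,false)]⟩,⟨6,[(1,false)]⟩,⟨11,[(2,true),(1,false)]⟩,⟨3,[]⟩,⟨5,[]⟩,⟨0,[(0,false)]⟩],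
    [⟨10,[(0,false),(1,false),(2,false)]⟩,⟨2,[]⟩,⟨3,[]⟩,⟨8,[(3,false),(1,true),(2,true)]⟩,⟨8,[(4,true),(0,true)]⟩,⟨13,[(2,false),(2,false),(1,false)]⟩,⟨9,[(2,false),(1,false)]⟩,⟨8,[(2,true),(1,false),(2,true)]⟩,⟨15,[(1,false),(2,false),(1,false)]⟩,⟨1,[]⟩,⟨8,[(2,false),(1,true)]⟩,⟨26,[(0,true),(2,false),(0,false)]⟩,⟨0,[]⟩,⟨9,[(1,false),(0,true),(0,true)]⟩,⟨0,[]⟩,⟨8,[(2,false),(0,true),(2,false)]⟩,⟨5,[(0,false)]⟩,⟨6,[]⟩,⟨5,[(1,false),(1,false)]⟩,⟨0,[(0,false)]⟩],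
    [⟨5,[(0,true),(0,true)]⟩,⟨3,[(0,false)]⟩,⟨1,[(0,false),(0,false),(0,false)]⟩,⟨11,[(3,false),(4,false)]⟩,⟨17,[(1,false)]⟩,⟨25,[]⟩,⟨16,[(0,false),(0,false)]⟩,⟨29,[(0,false),(0,false)]⟩,⟨1,[(2,false),(0,false),(1,true),(0,false)]⟩,⟨1,[(1,false),(0,false),(4,false),(0,true)]⟩,⟨1,[(1,false),(0,false),(4,false),(0,true)]⟩,⟨1,[(1,false),(0,false),(4,false),(0,true)]⟩,⟨1,[(1,false),(0,false),(4,false),(0,true)]⟩,⟨0,[(0,true),(1,false),(0,true),(1,false)]⟩,⟨10,[(0,false)]⟩,⟨3,[(0,false),(0,false),(0,false)]⟩,⟨15,[]⟩,⟨2,[(2,true),(1,false),(0,false)]⟩,⟨1,[]⟩,⟨9,[(5,false)]⟩]]⟩),(false, ⟨[],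
    [[],
    [],
    [],
    [],
    [],
    []]⟩),(false, ⟨[],
    [[],
    [],
    [],
    [],
    [],
    []]⟩),(true, ⟨[],
    [[],
    [],
    [],
    [],
    [],
    []]⟩),(false, ⟨[],
    [[],
    [],
    [],
    [],
    [],
    []]⟩),(false, ⟨[],
    [[],
    [],
    [],
    [],
    [],
    []]⟩),(false, ⟨[],
    [[],
    [],
    [],
    [],
    [],
    []]⟩),(true, ⟨[],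
    [[],
    [],
    [],
    [],
    [],
    []]⟩),(false, ⟨[⟨0,[(4,false),(5,true),(4,false),(0,false),(2,false),(4,false),(0,false)]⟩,⟨2,[]⟩,⟨3,[]⟩,⟨7,[(3,false),(1,true)]⟩,⟨3,[(5,false),(3,true)]⟩,⟨15,[]⟩,⟨2,[(2,true),(1,false),(0,false)]⟩,⟨14,[(2,true),(1,false),(0,false)]⟩,⟨16,[(0,false)]⟩,⟨29,[(0,false),(0,false)]⟩,⟨0,[(2,true),(3,false),(0,true)]⟩,⟨17,[(0,true),(0,true)]⟩,⟨25,[]⟩,⟨10,[(0,false)]⟩,⟨0,[(3,true),(0,false)]⟩,⟨4,[(4,true),(0,true)]⟩,⟨2,[]⟩,⟨0,[(0,false)]⟩,⟨1,[]⟩,⟨0,[]⟩],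
    [[⟨10,[(1,true),(4,true),(2,false)]⟩,⟨2,[]⟩,⟨3,[]⟩,⟨8,[(1,false)]⟩,⟨11,[(2,true),(5,false),(2,true)]⟩,⟨27,[(1,false)]⟩,⟨5,[(2,false),(1,false)]⟩,⟨2,[]⟩,⟨16,[]⟩,⟨29,[(0,false),(0,false)]⟩,⟨0,[(2,false),(3,false),(0,true),(2,false)]⟩,⟨17,[(0,true),(0,true)]⟩,⟨25,[]⟩,⟨2,[]⟩,⟨6,[(5,false),(1,false),(0,false)]⟩,⟨12,[(4,false),(2,true)]⟩,⟨22,[]⟩,⟨1,[]⟩,⟨2,[]⟩,⟨0,[(0,false)]⟩],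
    [⟨9,[(2,true),(1,false),(0,false)]⟩,⟨4,[(5,true)]⟩,⟨3,[(0,false)]⟩,⟨9,[(0,true),(0,true),(2,false)]⟩,⟨11,[(5,false),(3,false),(1,false)]⟩,⟨27,[(1,false)]⟩,⟨5,[(2,false),(1,false)]⟩,⟨2,[]⟩,⟨16,[]⟩,⟨29,[(0,false),(0,false)]⟩,⟨0,[(0,false),(3,false),(2,true),(1,false)]⟩,⟨17,[(0,true),(0,true)]⟩,⟨25,[]⟩,⟨2,[(1,false)]⟩,⟨0,[]⟩,⟨8,[(2,false),(0,true),(2,false)]⟩,⟨5,[(0,false)]⟩,⟨6,[]⟩,⟨5,[(1,true)]⟩,⟨0,[(0,false)]⟩],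
    [⟨9,[(5,false),(1,true),(0,false)]⟩,⟨4,[(5,true)]⟩,⟨3,[(0,false)]⟩,⟨9,[(5,false)]⟩,⟨11,[(5,false),(3,false),(1,false)]⟩,⟨27,[(1,false)]⟩,⟨5,[(2,false),(1,false)]⟩,⟨2,[]⟩,⟨28,[(3,false),(1,false),(1,false)]⟩,⟨4,[(1,false),(1,false),(2,true),(1,false)]⟩,⟨6,[(0,true),(2,false),(2,false)]⟩,⟨7,[(2,true),(0,false),(1,false),(0,false)]⟩,⟨12,[(1,false),(2,false)]⟩,⟨24,[(0,true),(1,false),(0,false)]⟩,⟨5,[(2,true),(1,false)]⟩,⟨6,[(1,false)]⟩,⟨11,[(2,true),(1,false)]⟩,⟨3,[]⟩,⟨5,[]⟩,⟨0,[(0,false)]⟩],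
    [⟨9,[(1,false),(0,false),(0,false)]⟩,⟨4,[(5,true)]⟩,⟨3,[(0,false)]⟩,⟨9,[(5,false),(2,true)]⟩,⟨11,[(4,false),(3,false),(4,false)]⟩,⟨27,[(1,false)]⟩,⟨5,[(2,false),(1,false)]⟩,⟨2,[]⟩,⟨16,[]⟩,⟨29,[(0,false),(0,false)]⟩,⟨0,[(1,false),(0,false),(4,false),(1,true)]⟩,⟨17,[(0,true),(0,true)]⟩,⟨25,[]⟩,⟨7,[(0,true),(0,true)]⟩,⟨8,[(2,true),(1,false)]⟩,⟨13,[(2,false),(2,false),(1,false)]⟩,⟨9,[(2,false),(1,false)]⟩,⟨8,[(2,true),(1,false),(2,true)]⟩,⟨1,[(0,false)]⟩,⟨9,[(5,false)]⟩],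
    [⟨9,[(0,false),(4,false),(3,true)]⟩,⟨4,[(5,true)]⟩,⟨3,[(0,false)]⟩,⟨5,[]⟩,⟨10,[(1,false),(3,false),(2,false),(1,false)]⟩,⟨10,[(1,false),(2,true),(1,false)]⟩,⟨14,[(2,true)]⟩,⟨4,[]⟩,⟨7,[(0,false),(1,false),(2,true),(1,true),(0,false)]⟩,⟨12,[(1,false),(2,false)]⟩,⟨24,[(4,false),(3,true)]⟩,⟨24,[(1,true),(4,false)]⟩,⟨24,[(1,true),(4,false)]⟩,⟨11,[(1,true),(0,false)]⟩,⟨8,[(0,false),(1,false),(3,false)]⟩,⟨13,[(2,false),(2,false),(1,false)]⟩,⟨9,[(2,false),(1,false)]⟩,⟨8,[(2,true),(1,false),(2,true)]⟩,⟨1,[(0,false)]⟩,⟨9,[(5,false)]⟩],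
    [⟨9,[(5,true),(0,false),(3,false)]⟩,⟨4,[(5,true)]⟩,⟨3,[(0,false)]⟩,⟨9,[(2,false),(4,false)]⟩,⟨11,[(0,true),(1,true),(2,true),(0,false)]⟩,⟨27,[(1,false)]⟩,⟨5,[(2,false),(1,false)]⟩,⟨2,[]⟩,⟨16,[]⟩,⟨29,[(0,false),(0,false)]⟩,⟨0,[(0,false),(5,false),(0,false),(3,false),(0,false)]⟩,⟨17,[(0,true),(0,true)]⟩,⟨25,[]⟩,⟨2,[]⟩,⟨0,[]⟩,⟨8,[(2,false),(0,true),(2,false)]⟩,⟨5,[(0,false)]⟩,⟨6,[]⟩,⟨5,[(5,true),(1,false)]⟩,⟨0,[(0,false)]⟩]]⟩),(true, ⟨[⟨0,[(2,true),(4,false),(5,true),(2,true),(4,false)]⟩,⟨2,[]⟩,⟨3,[]⟩,⟨7,[(4,true),(0,true)]⟩,⟨0,[]⟩,⟨4,[(4,true),(0,true)]⟩,⟨2,[]⟩,⟨0,[(0,false)]⟩,⟨1,[]⟩,⟨0,[]⟩],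
    [[⟨9,[(1,true),(0,true),(1,true)]⟩,⟨4,[(5,true)]⟩,⟨3,[(0,false)]⟩,⟨10,[(3,false)]⟩,⟨2,[]⟩,⟨10,[(1,false)]⟩,⟨0,[]⟩,⟨8,[(3,true),(3,true)]⟩,⟨1,[(0,false)]⟩,⟨6,[(0,false),(1,false),(1,false),(0,false)]⟩],
    [⟨5,[(1,true),(0,true)]⟩,⟨3,[(0,false)]⟩,⟨1,[(0,false),(0,false),(0,false)]⟩,⟨11,[(4,true),(3,false)]⟩,⟨0,[]⟩,⟨8,[(3,true),(3,true)]⟩,⟨11,[(4,false),(2,true)]⟩,⟨2,[]⟩,⟨1,[(1,false),(0,false)]⟩,⟨9,[(5,false)]⟩],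
    [⟨6,[(4,true),(0,true)]⟩,⟨5,[(0,true),(4,false),(1,true),(0,false)]⟩,⟨3,[(0,false)]⟩,⟨3,[(4,false),(2,false)]⟩,⟨10,[]⟩,⟨3,[(0,false),(0,false),(0,false)]⟩,⟨15,[]⟩,⟨2,[(2,true),(1,false),(0,false)]⟩,⟨1,[(1,false)]⟩,⟨9,[(5,false)]⟩],
    [⟨10,[(0,true),(3,false),(0,false)]⟩,⟨2,[]⟩,⟨3,[]⟩,⟨11,[(1,false),(2,false)]⟩,⟨5,[]⟩,⟨6,[(1,false)]⟩,⟨11,[(2,true),(1,false)]⟩,⟨3,[]⟩,⟨5,[]⟩,⟨0,[(0,false)]⟩],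
    [⟨10,[(0,false),(1,false),(2,false)]⟩,⟨2,[]⟩,⟨3,[]⟩,⟨8,[(3,false),(1,true),(2,true)]⟩,⟨8,[]⟩,⟨13,[(2,false),(2,false),(1,false)]⟩,⟨9,[(2,false),(1,false)]⟩,⟨8,[(2,true),(1,false),(2,true)]⟩,⟨1,[(0,false)]⟩,⟨9,[(5,false)]⟩],
    [⟨5,[(0,true),(0,true)]⟩,⟨3,[(0,false)]⟩,⟨1,[(0,false),(0,false),(0,false)]⟩,⟨11,[(3,false),(4,false)]⟩,⟨0,[]⟩,⟨8,[(3,true),(3,true)]⟩,⟨11,[(4,false),(2,true)]⟩,⟨2,[]⟩,⟨1,[(1,false),(0,false)]⟩,⟨9,[(5,false)]⟩]]⟩),(false, ⟨[⟨0,[(2,true),(4,false),(5,true),(2,true),(4,false)]⟩,⟨2,[]⟩,⟨3,[]⟩,⟨7,[(4,true),(0,true)]⟩,⟨0,[(1,true),(2,true),(0,false)]⟩,⟨4,[(4,true),(0,true)]⟩,⟨2,[]⟩,⟨0,[(0,false)]⟩,⟨1,[]⟩,⟨0,[]⟩],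
    [[⟨9,[(1,true),(0,true),(1,true)]⟩,⟨4,[(5,true)]⟩,⟨3,[(0,false)]⟩,⟨10,[(3,false)]⟩,⟨10,[]⟩,⟨3,[(0,false),(0,false),(0,false)]⟩,⟨15,[]⟩,⟨2,[(2,true),(1,false),(0,false)]⟩,⟨1,[]⟩,⟨9,[(5,false)]⟩],
    [⟨5,[(1,true),(0,true)]⟩,⟨3,[(0,false)]⟩,⟨1,[(0,false),(0,false),(0,false)]⟩,⟨11,[(4,true),(3,false)]⟩,⟨15,[]⟩,⟨2,[(2,true),(1,false),(0,false)]⟩,⟨14,[(2,true),(1,false),(0,false)]⟩,⟨10,[]⟩,⟨1,[(3,true),(0,false)]⟩,⟨1,[(0,false)]⟩],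
    [⟨6,[(4,true),(0,true)]⟩,⟨5,[(0,true),(4,false),(1,true),(0,false)]⟩,⟨3,[(0,false)]⟩,⟨3,[(4,false),(2,false)]⟩,⟨2,[(1,false)]⟩,⟨10,[(1,false)]⟩,⟨0,[]⟩,⟨8,[(3,true),(3,true)]⟩,⟨1,[(0,false)]⟩,⟨6,[(0,false),(1,false),(1,false),(0,false)]⟩],
    [⟨10,[(0,true),(3,false),(0,false)]⟩,⟨2,[]⟩,⟨3,[]⟩,⟨11,[(1,false),(2,false)]⟩,⟨3,[(1,true),(0,false)]⟩,⟨13,[(5,false),(1,true),(0,true),(0,true)]⟩,⟨5,[]⟩,⟨6,[(1,false)]⟩,⟨1,[]⟩,⟨0,[]⟩],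
    [⟨10,[(0,false),(1,false),(2,false)]⟩,⟨2,[]⟩,⟨3,[]⟩,⟨8,[(3,false),(1,true),(2,true)]⟩,⟨9,[(3,false),(0,false)]⟩,⟨8,[(4,true),(3,false)]⟩,⟨13,[(2,false),(2,false),(1,false)]⟩,⟨9,[(2,false),(1,false)]⟩,⟨1,[]⟩,⟨0,[]⟩],
    [⟨5,[(0,true),(0,true)]⟩,⟨3,[(0,false)]⟩,⟨1,[(0,false),(0,false),(0,false)]⟩,⟨11,[(3,false),(4,false)]⟩,⟨15,[]⟩,⟨2,[(2,true),(1,false),(0,false)]⟩,⟨14,[(2,true),(1,false),(0,false)]⟩,⟨10,[]⟩,⟨1,[(3,true),(0,false)]⟩,⟨1,[(0,false)]⟩]]⟩),(true, ⟨[⟨0,[(2,true),(4,false),(5,true),(2,true),(4,false)]⟩,⟨2,[]⟩,⟨3,[]⟩,⟨7,[(4,true),(0,true)]⟩,⟨0,[(2,true),(1,false)]⟩,⟨4,[(4,true),(0,true)]⟩,⟨2,[]⟩,⟨0,[(0,false)]⟩,⟨1,[]⟩,⟨0,[]⟩],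
    [[⟨9,[(1,true),(0,true),(1,true)]⟩,⟨4,[(5,true)]⟩,⟨3,[(0,false)]⟩,⟨10,[(3,false)]⟩,⟨3,[]⟩,⟨13,[(5,false),(1,true),(0,true),(0,true)]⟩,⟨5,[]⟩,⟨6,[(1,false)]⟩,⟨1,[]⟩,⟨0,[]⟩],
    [⟨5,[(1,true),(0,true)]⟩,⟨3,[(0,false)]⟩,⟨1,[(0,false),(0,false),(0,false)]⟩,⟨11,[(4,true),(3,false)]⟩,⟨5,[]⟩,⟨6,[(1,false)]⟩,⟨11,[(2,true),(1,false)]⟩,⟨3,[]⟩,⟨5,[]⟩,⟨0,[(0,false)]⟩],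
    [⟨6,[(4,true),(0,true)]⟩,⟨5,[(0,true),(4,false),(1,true),(0,false)]⟩,⟨3,[(0,false)]⟩,⟨3,[(4,false),(2,false)]⟩,⟨5,[(0,true),(2,false)]⟩,⟨6,[(1,false)]⟩,⟨11,[(2,true),(1,false)]⟩,⟨3,[]⟩,⟨5,[]⟩,⟨0,[(0,false)]⟩],
    [⟨10,[(0,true),(3,false),(0,false)]⟩,⟨2,[]⟩,⟨3,[]⟩,⟨11,[(1,false),(2,false)]⟩,⟨10,[(0,false)]⟩,⟨3,[(0,false),(0,false),(0,false)]⟩,⟨15,[]⟩,⟨2,[(2,true),(1,false),(0,false)]⟩,⟨1,[(1,false)]⟩,⟨9,[(5,false)]⟩],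
    [⟨10,[(0,false),(1,false),(2,false)]⟩,⟨2,[]⟩,⟨3,[]⟩,⟨8,[(3,false),(1,true),(2,true)]⟩,⟨8,[(5,true),(4,true),(0,true)]⟩,⟨13,[(2,false),(2,false),(1,false)]⟩,⟨9,[(2,false),(1,false)]⟩,⟨8,[(2,true),(1,false),(2,true)]⟩,⟨1,[(0,false)]⟩,⟨9,[(5,false)]⟩],
    [⟨5,[(0,true),(0,true)]⟩,⟨3,[(0,false)]⟩,⟨1,[(0,false),(0,false),(0,false)]⟩,⟨11,[(3,false),(4,false)]⟩,⟨5,[(3,false)]⟩,⟨6,[(1,false)]⟩,⟨11,[(2,true),(1,false)]⟩,⟨3,[]⟩,⟨5,[]⟩,⟨0,[(0,false)]⟩]]⟩),(false, ⟨[⟨0,[(2,true),(4,false),(5,true),(2,true),(4,false)]⟩,⟨2,[]⟩,⟨3,[]⟩,⟨7,[(4,true),(0,true)]⟩,⟨3,[(6,true),(1,true),(1,true)]⟩,⟨15,[]⟩,⟨2,[(2,true),(1,false),(0,false)]⟩,⟨14,[(2,true),(1,false),(0,false)]⟩,⟨16,[(0,false)]⟩,⟨29,[(0,false),(0,false)]⟩,⟨0,[(2,true),(0,true),(0,true),(3,false),(0,false),(0,false)]⟩,⟨17,[(0,true),(0,true)]⟩,⟨25,[]⟩,⟨10,[(0,false)]⟩,⟨0,[(3,true),(0,false)]⟩,⟨4,[(4,true),(0,true)]⟩,⟨2,[]⟩,⟨0,[(0,false)]⟩,⟨1,[]⟩,⟨0,[]⟩],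
    [[⟨9,[(1,true),(0,true),(1,true)]⟩,⟨4,[(5,true)]⟩,⟨3,[(0,false)]⟩,⟨10,[(3,false)]⟩,⟨17,[(3,false)]⟩,⟨25,[]⟩,⟨16,[(0,false),(0,false)]⟩,⟨29,[(0,false),(0,false)]⟩,⟨1,[]⟩,⟨1,[(1,false),(0,false),(4,false),(0,true)]⟩,⟨1,[(1,false),(0,false),(4,false),(0,true)]⟩,⟨1,[(1,false),(0,false),(4,false),(0,true)]⟩,⟨1,[(1,false),(0,false),(4,false),(0,true)]⟩,⟨0,[(2,false),(3,false),(0,false),(1,true),(0,false)]⟩,⟨10,[(0,false)]⟩,⟨3,[(0,false),(0,false),(0,false)]⟩,⟨15,[]⟩,⟨2,[(2,true),(1,false),(0,false)]⟩,⟨1,[]⟩,⟨9,[(5,false)]⟩],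
    [⟨5,[(1,true),(0,true)]⟩,⟨3,[(0,false)]⟩,⟨1,[(0,false),(0,false),(0,false)]⟩,⟨11,[(4,true),(3,false)]⟩,⟨29,[(1,true)]⟩,⟨0,[(2,true),(0,true),(0,true),(3,false),(0,false),(0,false)]⟩,⟨17,[(0,true),(0,true)]⟩,⟨25,[]⟩,⟨16,[(3,false),(0,true)]⟩,⟨29,[(0,false),(0,false)]⟩,⟨0,[(2,true),(0,true),(0,true),(3,false),(0,false),(0,false)]⟩,⟨17,[(0,true),(0,true)]⟩,⟨25,[]⟩,⟨16,[(1,false),(0,false)]⟩,⟨15,[(0,false)]⟩,⟨2,[(2,true),(1,false),(0,false)]⟩,⟨14,[(2,true),(1,false),(0,false)]⟩,⟨10,[]⟩,⟨1,[]⟩,⟨1,[(0,false)]⟩],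
    [⟨6,[(4,true),(0,true)]⟩,⟨5,[(0,true),(4,false),(1,true),(0,false)]⟩,⟨3,[(0,false)]⟩,⟨3,[(4,false),(2,false)]⟩,⟨8,[(1,false),(4,false)]⟩,⟨26,[(0,true),(2,false),(0,false)]⟩,⟨0,[]⟩,⟨15,[(5,true),(0,true),(0,true)]⟩,⟨3,[(2,true),(1,true),(2,true)]⟩,⟨14,[(3,false),(0,false),(1,false),(0,false)]⟩,⟨18,[(4,true),(2,false)]⟩,⟨13,[]⟩,⟨15,[(2,false),(1,false),(2,true),(1,false)]⟩,⟨1,[(1,true),(1,true),(1,true)]⟩,⟨3,[(2,true),(1,false)]⟩,⟨13,[(5,false),(1,true),(0,true),(0,true)]⟩,⟨5,[]⟩,⟨6,[(1,false)]⟩,⟨1,[]⟩,⟨0,[]⟩],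
    [⟨10,[(0,true),(3,false),(0,false)]⟩,⟨2,[]⟩,⟨3,[]⟩,⟨11,[(1,false),(2,false)]⟩,⟨24,[(4,false),(3,false),(2,false)]⟩,⟨24,[(1,true),(4,false)]⟩,⟨24,[(1,true),(4,false)]⟩,⟨24,[(1,true),(4,false)]⟩,⟨16,[(0,false),(0,false)]⟩,⟨29,[(0,false),(0,false)]⟩,⟨0,[(2,true),(0,true),(0,true),(3,false),(0,false),(0,false)]⟩,⟨17,[(0,true),(0,true)]⟩,⟨25,[]⟩,⟨24,[(4,false),(3,true)]⟩,⟨3,[]⟩,⟨13,[(5,false),(1,true),(0,true),(0,true)]⟩,⟨5,[]⟩,⟨6,[(1,false)]⟩,⟨1,[]⟩,⟨0,[]⟩],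
    [⟨10,[(0,false),(1,false),(2,false)]⟩,⟨2,[]⟩,⟨3,[]⟩,⟨8,[(3,false),(1,true),(2,true)]⟩,⟨9,[(5,true),(4,false),(0,false)]⟩,⟨8,[(4,true),(3,false)]⟩,⟨13,[(2,false),(2,false),(1,false)]⟩,⟨9,[(2,false),(1,false)]⟩,⟨14,[(2,true),(2,true),(1,false)]⟩,⟨18,[(4,true),(2,false)]⟩,⟨13,[]⟩,⟨15,[(2,false),(1,false),(2,true),(1,false)]⟩,⟨3,[(1,false),(1,false),(2,true),(1,false)]⟩,⟨8,[(1,true),(1,true)]⟩,⟨5,[(0,false)]⟩,⟨6,[]⟩,⟨5,[(1,false),(0,false)]⟩,⟨0,[(0,false)]⟩,⟨7,[(1,true),(0,false)]⟩,⟨0,[(0,false),(0,false),(0,false)]⟩],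
    [⟨5,[(0,true),(0,true)]⟩,⟨3,[(0,false)]⟩,⟨1,[(0,false),(0,false),(0,false)]⟩,⟨11,[(3,false),(4,false)]⟩,⟨29,[(2,true)]⟩,⟨0,[(2,true),(0,true),(0,true),(3,false),(0,false),(0,false)]⟩,⟨17,[(0,true),(0,true)]⟩,⟨25,[]⟩,⟨16,[(0,false)]⟩,⟨29,[(0,false),(0,false)]⟩,⟨0,[(2,true),(0,true),(0,true),(3,false),(0,false),(0,false)]⟩,⟨17,[(0,true),(0,true)]⟩,⟨25,[]⟩,⟨16,[(0,false)]⟩,⟨15,[(0,false)]⟩,⟨2,[(2,true),(1,false),(0,false)]⟩,⟨14,[(2,true),(1,false),(0,false)]⟩,⟨10,[]⟩,⟨1,[]⟩,⟨1,[(0,false)]⟩]]⟩),(false, ⟨[⟨0,[(2,true),(4,false),(5,true),(2,true),(4,false)]⟩,⟨2,[]⟩,⟨3,[]⟩,⟨7,[(4,true),(0,true)]⟩,⟨3,[(6,true),(4,true)]⟩,⟨15,[]⟩,⟨2,[(2,true),(1,false),(0,false)]⟩,⟨14,[(2,true),(1,false),(0,false)]⟩,⟨16,[(0,true)]⟩,⟨29,[(0,false),(0,false)]⟩,⟨0,[(2,true),(0,true),(0,true),(3,false),(0,false),(0,false)]⟩,⟨17,[(0,true),(0,true)]⟩,⟨25,[]⟩,⟨10,[(0,false)]⟩,⟨0,[(3,true),(0,false)]⟩,⟨4,[(4,true),(0,true)]⟩,⟨2,[]⟩,⟨0,[(0,false)]⟩,⟨1,[]⟩,⟨0,[]⟩],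
    [[⟨9,[(1,true),(0,true),(1,true)]⟩,⟨4,[(5,true)]⟩,⟨3,[(0,false)]⟩,⟨10,[(3,false)]⟩,⟨29,[(0,false),(0,false)]⟩,⟨0,[(2,true),(0,true),(0,true),(3,false),(0,false),(0,false)]⟩,⟨17,[(0,true),(0,true)]⟩,⟨25,[]⟩,⟨16,[(3,false),(0,true)]⟩,⟨29,[(0,false),(0,false)]⟩,⟨0,[(2,true),(0,true),(0,true),(3,false),(0,false),(0,false)]⟩,⟨17,[(0,true),(0,true)]⟩,⟨25,[]⟩,⟨16,[(1,false),(0,false)]⟩,⟨0,[(1,false)]⟩,⟨8,[(3,true),(3,true)]⟩,⟨11,[(4,false),(2,true)]⟩,⟨2,[]⟩,⟨1,[(1,false),(0,false)]⟩,⟨9,[(5,false)]⟩],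
    [⟨5,[(1,true),(0,true)]⟩,⟨3,[(0,false)]⟩,⟨1,[(0,false),(0,false),(0,false)]⟩,⟨11,[(4,true),(3,false)]⟩,⟨17,[(1,false)]⟩,⟨25,[]⟩,⟨16,[(0,false),(0,false)]⟩,⟨29,[(0,false),(0,false)]⟩,⟨1,[(0,false),(1,true),(0,false)]⟩,⟨1,[(1,false),(0,false),(4,false),(0,true)]⟩,⟨1,[(1,false),(0,false),(4,false),(0,true)]⟩,⟨1,[(1,false),(0,false),(4,false),(0,true)]⟩,⟨1,[(1,false),(0,false),(4,false),(0,true)]⟩,⟨0,[(2,true),(0,true),(4,false),(2,false),(0,false)]⟩,⟨2,[]⟩,⟨10,[(1,false)]⟩,⟨0,[]⟩,⟨8,[(3,true),(3,true)]⟩,⟨1,[(0,false)]⟩,⟨6,[(0,false),(1,false),(1,false),(0,false)]⟩],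
    [⟨6,[(4,true),(0,true)]⟩,⟨5,[(0,true),(4,false),(1,true),(0,false)]⟩,⟨3,[(0,false)]⟩,⟨3,[(4,false),(2,false)]⟩,⟨26,[(2,true),(1,true)]⟩,⟨0,[]⟩,⟨15,[(5,true),(0,true),(0,true)]⟩,⟨1,[]⟩,⟨21,[(4,true),(0,false)]⟩,⟨21,[(0,true),(1,false),(0,true)]⟩,⟨21,[(0,true),(1,false),(0,true)]⟩,⟨21,[(0,true),(1,false),(0,true)]⟩,⟨21,[(0,true),(1,false),(0,true)]⟩,⟨8,[(3,false),(2,false),(0,false)]⟩,⟨15,[]⟩,⟨2,[(2,true),(1,false),(0,false)]⟩,⟨14,[(2,true),(1,false),(0,false)]⟩,⟨10,[]⟩,⟨1,[(3,true),(0,false)]⟩,⟨1,[(0,false)]⟩],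
    [⟨10,[(0,true),(3,false),(0,false)]⟩,⟨2,[]⟩,⟨3,[]⟩,⟨11,[(1,false),(2,false)]⟩,⟨23,[(2,false),(2,false),(1,true)]⟩,⟨23,[(4,true),(1,false)]⟩,⟨23,[(4,true),(1,false)]⟩,⟨23,[(4,true),(1,false)]⟩,⟨16,[(1,false)]⟩,⟨29,[(0,false),(0,false)]⟩,⟨0,[(2,true),(0,true),(0,true),(3,false),(0,false),(0,false)]⟩,⟨17,[(0,true),(0,true)]⟩,⟨25,[]⟩,⟨23,[(4,false),(3,true)]⟩,⟨3,[]⟩,⟨13,[(5,false),(1,true),(0,true),(0,true)]⟩,⟨5,[]⟩,⟨6,[(1,false)]⟩,⟨1,[]⟩,⟨0,[]⟩],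
    [⟨10,[(0,false),(1,false),(2,false)]⟩,⟨2,[]⟩,⟨3,[]⟩,⟨8,[(3,false),(1,true),(2,true)]⟩,⟨8,[(0,false),(4,false)]⟩,⟨13,[(2,false),(2,false),(1,false)]⟩,⟨9,[(2,false),(1,false)]⟩,⟨8,[(2,true),(1,false),(2,true)]⟩,⟨15,[(1,true),(2,false),(1,false)]⟩,⟨1,[]⟩,⟨8,[(2,false),(1,true)]⟩,⟨26,[(0,true),(2,false),(0,false)]⟩,⟨0,[]⟩,⟨9,[(1,false),(0,true),(0,true)]⟩,⟨9,[(5,false),(0,false),(4,false)]⟩,⟨8,[(4,true),(3,false)]⟩,⟨13,[(2,false),(2,false),(1,false)]⟩,⟨9,[(2,false),(1,false)]⟩,⟨1,[]⟩,⟨0,[]⟩],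
    [⟨5,[(0,true),(0,true)]⟩,⟨3,[(0,false)]⟩,⟨1,[(0,false),(0,false),(0,false)]⟩,⟨11,[(3,false),(4,false)]⟩,⟨17,[(3,false)]⟩,⟨25,[]⟩,⟨16,[(0,false),(0,false)]⟩,⟨29,[(0,false),(0,false)]⟩,⟨1,[(0,false),(1,true),(0,false)]⟩,⟨1,[(1,false),(0,false),(4,false),(0,true)]⟩,⟨1,[(1,false),(0,false),(4,false),(0,true)]⟩,⟨1,[(1,false),(0,false),(4,false),(0,true)]⟩,⟨1,[(1,false),(0,false),(4,false),(0,true)]⟩,⟨0,[(2,true),(0,true),(4,false),(2,false),(0,false)]⟩,⟨2,[(1,false)]⟩,⟨10,[(1,false)]⟩,⟨0,[]⟩,⟨8,[(3,true),(3,true)]⟩,⟨1,[(0,false)]⟩,⟨6,[(0,false),(1,false),(1,false),(0,false)]⟩]]⟩),(true, ⟨[⟨0,[(2,true),(4,false),(5,true),(2,true),(4,false)]⟩,⟨2,[]⟩,⟨3,[]⟩,⟨7,[(4,true),(0,true)]⟩,⟨0,[(1,false),(0,false)]⟩,⟨4,[(4,true),(0,true)]⟩,⟨2,[]⟩,⟨0,[(0,false)]⟩,⟨1,[]⟩,⟨0,[]⟩],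
    [[⟨9,[(1,true),(0,true),(1,true)]⟩,⟨4,[(5,true)]⟩,⟨3,[(0,false)]⟩,⟨10,[(3,false)]⟩,⟨5,[(2,false)]⟩,⟨6,[(1,false)]⟩,⟨11,[(2,true),(1,false)]⟩,⟨3,[]⟩,⟨5,[]⟩,⟨0,[(0,false)]⟩],
    [⟨5,[(1,true),(0,true)]⟩,⟨3,[(0,false)]⟩,⟨1,[(0,false),(0,false),(0,false)]⟩,⟨11,[(4,true),(3,false)]⟩,⟨3,[(2,true)]⟩,⟨13,[(5,false),(1,true),(0,true),(0,true)]⟩,⟨5,[]⟩,⟨6,[(1,false)]⟩,⟨1,[]⟩,⟨0,[]⟩],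
    [⟨6,[(4,true),(0,true)]⟩,⟨5,[(0,true),(4,false),(1,true),(0,false)]⟩,⟨3,[(0,false)]⟩,⟨3,[(4,false),(2,false)]⟩,⟨3,[(4,false),(0,false)]⟩,⟨13,[(5,false),(1,true),(0,true),(0,true)]⟩,⟨5,[]⟩,⟨6,[(1,false)]⟩,⟨1,[]⟩,⟨0,[]⟩],
    [⟨10,[(0,true),(3,false),(0,false)]⟩,⟨2,[]⟩,⟨3,[]⟩,⟨11,[(1,false),(2,false)]⟩,⟨3,[(1,false),(0,true)]⟩,⟨13,[(5,false),(1,true),(0,true),(0,true)]⟩,⟨5,[]⟩,⟨6,[(1,false)]⟩,⟨1,[]⟩,⟨0,[]⟩],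
    [⟨10,[(0,false),(1,false),(2,false)]⟩,⟨2,[]⟩,⟨3,[]⟩,⟨8,[(3,false),(1,true),(2,true)]⟩,⟨9,[(2,true),(0,false)]⟩,⟨8,[(4,true),(3,false)]⟩,⟨13,[(2,false),(2,false),(1,false)]⟩,⟨9,[(2,false),(1,false)]⟩,⟨1,[]⟩,⟨0,[]⟩],
    [⟨5,[(0,true),(0,true)]⟩,⟨3,[(0,false)]⟩,⟨1,[(0,false),(0,false),(0,false)]⟩,⟨11,[(3,false),(4,false)]⟩,⟨3,[(4,true)]⟩,⟨13,[(5,false),(1,true),(0,true),(0,true)]⟩,⟨5,[]⟩,⟨6,[(1,false)]⟩,⟨1,[]⟩,⟨0,[]⟩]]⟩),(true, ⟨[⟨0,[(2,true),(4,false),(5,true),(2,true),(4,false)]⟩,⟨2,[]⟩,⟨3,[]⟩,⟨7,[(4,true),(0,true)]⟩,⟨3,[(6,true),(1,true),(1,true)]⟩,⟨15,[]⟩,⟨2,[(2,true),(1,false),(0,false)]⟩,⟨14,[(2,true),(1,false),(0,false)]⟩,⟨16,[(0,false)]⟩,⟨29,[(0,false),(0,false)]⟩,⟨0,[(3,false)]⟩,⟨17,[(0,true),(0,true)]⟩,⟨25,[]⟩,⟨10,[(0,false)]⟩,⟨0,[(3,true),(0,false)]⟩,⟨4,[(4,true),(0,true)]⟩,⟨2,[]⟩,⟨0,[(0,false)]⟩,⟨1,[]⟩,⟨0,[]⟩],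
    [[⟨9,[(1,true),(0,true),(1,true)]⟩,⟨4,[(5,true)]⟩,⟨3,[(0,false)]⟩,⟨10,[(3,false)]⟩,⟨17,[(3,false)]⟩,⟨25,[]⟩,⟨16,[(0,false),(0,false)]⟩,⟨29,[(0,false),(0,false)]⟩,⟨1,[]⟩,⟨1,[(1,false),(0,false),(4,false),(0,true)]⟩,⟨0,[(1,false),(5,false),(0,false)]⟩,⟨17,[(0,true),(0,true)]⟩,⟨25,[]⟩,⟨16,[(1,false),(0,false)]⟩,⟨0,[]⟩,⟨8,[(3,true),(3,true)]⟩,⟨11,[(4,false),(2,true)]⟩,⟨2,[]⟩,⟨1,[(1,false),(0,false)]⟩,⟨9,[(5,false)]⟩],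
    [⟨5,[(1,true),(0,true)]⟩,⟨3,[(0,false)]⟩,⟨1,[(0,false),(0,false),(0,false)]⟩,⟨11,[(4,true),(3,false)]⟩,⟨29,[(1,true)]⟩,⟨0,[(2,true),(0,true),(0,true),(3,false),(0,false),(0,false)]⟩,⟨17,[(0,true),(0,true)]⟩,⟨25,[]⟩,⟨16,[(3,false),(0,true)]⟩,⟨29,[(0,false),(0,false)]⟩,⟨1,[(3,false),(0,false),(0,false),(3,false),(0,false)]⟩,⟨1,[(1,false),(0,false),(4,false),(0,true)]⟩,⟨1,[(1,false),(0,false),(4,false),(0,true)]⟩,⟨0,[(3,false)]⟩,⟨2,[]⟩,⟨10,[(1,false)]⟩,⟨0,[]⟩,⟨8,[(3,true),(3,true)]⟩,⟨1,[(0,false)]⟩,⟨6,[(0,false),(1,false),(1,false),(0,false)]⟩],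
    [⟨6,[(4,true),(0,true)]⟩,⟨5,[(0,true),(4,false),(1,true),(0,false)]⟩,⟨3,[(0,false)]⟩,⟨3,[(4,false),(2,false)]⟩,⟨8,[(1,false),(4,false)]⟩,⟨26,[(0,true),(2,false),(0,false)]⟩,⟨0,[]⟩,⟨15,[(5,true),(0,true),(0,true)]⟩,⟨3,[(2,true),(1,true),(2,true)]⟩,⟨14,[(3,false),(0,false),(1,false),(0,false)]⟩,⟨21,[(3,false),(1,false),(0,false)]⟩,⟨21,[(0,true),(1,false),(0,true)]⟩,⟨21,[(0,true),(1,false),(0,true)]⟩,⟨8,[(2,true),(0,true)]⟩,⟨15,[]⟩,⟨2,[(2,true),(1,false),(0,false)]⟩,⟨14,[(2,true),(1,false),(0,false)]⟩,⟨10,[]⟩,⟨1,[]⟩,⟨1,[(0,false)]⟩],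
    [⟨10,[(0,true),(3,false),(0,false)]⟩,⟨2,[]⟩,⟨3,[]⟩,⟨11,[(1,false),(2,false)]⟩,⟨24,[(4,false),(3,false),(2,false)]⟩,⟨24,[(1,true),(4,false)]⟩,⟨24,[(1,true),(4,false)]⟩,⟨24,[(1,true),(4,false)]⟩,⟨16,[(0,false),(0,false)]⟩,⟨29,[(0,false),(0,false)]⟩,⟨0,[(1,true),(0,false),(0,false),(3,false),(1,true)]⟩,⟨17,[(0,true),(0,true)]⟩,⟨25,[]⟩,⟨23,[(3,false),(4,false)]⟩,⟨3,[]⟩,⟨13,[(5,false),(1,true),(0,true),(0,true)]⟩,⟨5,[]⟩,⟨6,[(1,false)]⟩,⟨1,[]⟩,⟨0,[]⟩],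
    [⟨10,[(0,false),(1,false),(2,false)]⟩,⟨2,[]⟩,⟨3,[]⟩,⟨8,[(3,false),(1,true),(2,true)]⟩,⟨9,[(5,true),(4,false),(0,false)]⟩,⟨8,[(4,true),(3,false)]⟩,⟨13,[(2,false),(2,false),(1,false)]⟩,⟨9,[(2,false),(1,false)]⟩,⟨14,[(2,true),(2,true),(1,false)]⟩,⟨18,[(4,true),(2,false)]⟩,⟨8,[(0,false)]⟩,⟨26,[(0,true),(2,false),(0,false)]⟩,⟨0,[]⟩,⟨9,[(1,false),(0,true),(0,true)]⟩,⟨9,[(5,false),(0,false),(4,false)]⟩,⟨8,[(4,true),(3,false)]⟩,⟨13,[(2,false),(2,false),(1,false)]⟩,⟨9,[(2,false),(1,false)]⟩,⟨1,[]⟩,⟨0,[]⟩],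
    [⟨5,[(0,true),(0,true)]⟩,⟨3,[(0,false)]⟩,⟨1,[(0,false),(0,false),(0,false)]⟩,⟨11,[(3,false),(4,false)]⟩,⟨29,[(2,true)]⟩,⟨0,[(2,true),(0,true),(0,true),(3,false),(0,false),(0,false)]⟩,⟨17,[(0,true),(0,true)]⟩,⟨25,[]⟩,⟨16,[(0,false)]⟩,⟨29,[(0,false),(0,false)]⟩,⟨1,[(0,true),(1,false),(3,false),(0,false),(0,false)]⟩,⟨1,[(1,false),(0,false),(4,false),(0,true)]⟩,⟨1,[(1,false),(0,false),(4,false),(0,true)]⟩,⟨0,[(0,true),(0,true),(0,true),(2,false),(0,false)]⟩,⟨2,[(1,false)]⟩,⟨10,[(1,false)]⟩,⟨0,[]⟩,⟨8,[(3,true),(3,true)]⟩,⟨1,[(0,false)]⟩,⟨6,[(0,false),(1,false),(1,false),(0,false)]⟩]]⟩),(true, ⟨[⟨0,[(2,true),(4,false),(5,true),(2,true),(4,false)]⟩,⟨2,[]⟩,⟨3,[]⟩,⟨7,[(4,true),(0,true)]⟩,⟨2,[(2,true),(0,false),(0,false)]⟩,⟨1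3,[]⟩,⟨19,[]⟩,⟨29,[(3,false),(0,true)]⟩,⟨0,[(2,true),(0,true),(4,false),(0,false),(0,false)]⟩,⟨17,[(0,true),(0,true)]⟩,⟨25,[]⟩,⟨16,[(0,false),(0,false)]⟩,⟨12,[(0,false)]⟩,⟨4,[]⟩,⟨3,[(6,false),(2,false),(1,true)]⟩,⟨15,[]⟩,⟨2,[(2,true),(1,false),(0,false)]⟩,⟨14,[(2,true),(1,false),(0,false)]⟩,⟨16,[(0,true)]⟩,⟨29,[(0,false),(0,false)]⟩,⟨0,[(3,false)]⟩,⟨17,[(0,true),(0,true)]⟩,⟨25,[]⟩,⟨10,[(0,false)]⟩,⟨0,[(3,true),(0,false)]⟩,⟨4,[(4,true),(0,true)]⟩,⟨2,[]⟩,⟨0,[(0,false)]⟩,⟨1,[]⟩,⟨0,[]⟩],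
    [[⟨9,[(1,true),(0,true),(1,true)]⟩,⟨4,[(5,true)]⟩,⟨3,[(0,false)]⟩,⟨10,[(3,false)]⟩,⟨4,[(4,false),(1,false)]⟩,⟨5,[(1,true),(2,false),(1,true)]⟩,⟨10,[(4,false),(2,true),(1,true)]⟩,⟨10,[(3,false),(0,false),(1,false)]⟩,⟨21,[(3,false),(2,false)]⟩,⟨21,[(0,true),(1,false),(0,true)]⟩,⟨21,[(0,true),(1,false),(0,true)]⟩,⟨21,[(0,true),(1,false),(0,true)]⟩,⟨26,[(4,true),(0,false)]⟩,⟨0,[]⟩,⟨10,[(5,true),(1,false)]⟩,⟨0,[]⟩,⟨8,[(3,true),(3,true)]⟩,⟨11,[(4,false),(2,true)]⟩,⟨16,[]⟩,⟨29,[(0,false),(0,false)]⟩,⟨0,[(2,false)]⟩,⟨17,[(0,true),(0,true)]⟩,⟨25,[]⟩,⟨2,[(1,false)]⟩,⟨6,[(1,true),(0,false)]⟩,⟨12,[(4,false),(2,true)]⟩,⟨22,[]⟩,⟨1,[]⟩,⟨5,[(1,true),(0,false)]⟩,⟨0,[(0,false)]⟩],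
    [⟨5,[(1,true),(0,true)]⟩,⟨3,[(0,false)]⟩,⟨1,[(0,false),(0,false),(0,false)]⟩,⟨11,[(4,true),(3,false)]⟩,⟨7,[(0,false),(3,false)]⟩,⟨11,[(4,false),(0,false),(5,false),(0,false)]⟩,⟨27,[(1,false)]⟩,⟨4,[(2,true),(1,true),(2,true)]⟩,⟨20,[(3,true),(1,false),(1,false)]⟩,⟨20,[(0,false),(1,true),(0,false)]⟩,⟨20,[(0,false),(1,true),(0,false)]⟩,⟨20,[(0,false),(1,true),(0,false)]⟩,⟨26,[(1,true),(0,false)]⟩,⟨0,[]⟩,⟨10,[(5,true)]⟩,⟨0,[]⟩,⟨8,[(3,true),(3,true)]⟩,⟨11,[(4,false),(2,true)]⟩,⟨16,[]⟩,⟨29,[(0,false),(0,false)]⟩,⟨0,[(2,false)]⟩,⟨17,[(0,true),(0,true)]⟩,⟨25,[]⟩,⟨2,[(1,false)]⟩,⟨5,[(1,false),(0,false)]⟩,⟨6,[]⟩,⟨5,[(1,false),(0,false)]⟩,⟨0,[(0,false)]⟩,⟨7,[(0,false),(4,false)]⟩,⟨0,[(0,false),(0,false),(0,false)]⟩],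
    [⟨6,[(4,true),(0,true)]⟩,⟨5,[(0,true),(4,false),(1,true),(0,false)]⟩,⟨3,[(0,false)]⟩,⟨3,[(4,false),(2,false)]⟩,⟨13,[(1,true),(4,true),(0,false)]⟩,⟨15,[(2,false),(1,false),(2,true),(1,false)]⟩,⟨3,[(1,false),(1,false),(2,true),(1,false)]⟩,⟨14,[(0,false),(1,false),(1,false),(3,false)]⟩,⟨20,[]⟩,⟨20,[(0,false),(1,true),(0,false)]⟩,⟨20,[(0,false),(1,true),(0,false)]⟩,⟨20,[(0,false),(1,true),(0,false)]⟩,⟨21,[(4,true),(0,false)]⟩,⟨21,[(0,true),(1,false),(0,true)]⟩,⟨24,[(3,true),(1,true),(0,true)]⟩,⟨24,[(1,true),(4,false)]⟩,⟨24,[(1,true),(4,false)]⟩,⟨24,[(1,true),(4,false)]⟩,⟨28,[(1,true)]⟩,⟨4,[(1,false),(1,false),(2,true),(1,false)]⟩,⟨7,[(0,false)]⟩,⟨11,[(4,false),(0,false),(5,false),(0,false)]⟩,⟨27,[(1,false)]⟩,⟨4,[(0,false),(1,true),(0,true)]⟩,⟨3,[(2,false),(0,false)]⟩,⟨13,[(5,false),(1,true),(0,true),(0,true)]⟩,⟨5,[]⟩,⟨6,[(1,false)]⟩,⟨1,[]⟩,⟨0,[]⟩],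
    [⟨10,[(0,true),(3,false),(0,false)]⟩,⟨2,[]⟩,⟨3,[]⟩,⟨11,[(1,false),(2,false)]⟩,⟨28,[(4,true),(1,true),(0,false)]⟩,⟨4,[(1,false),(1,false),(2,true),(1,false)]⟩,⟨6,[(2,true),(4,false)]⟩,⟨11,[(3,false)]⟩,⟨23,[(4,false),(1,true),(1,true)]⟩,⟨23,[(4,true),(1,false)]⟩,⟨23,[(4,true),(1,false)]⟩,⟨23,[(4,true),(1,false)]⟩,⟨26,[(3,true),(1,true),(0,false)]⟩,⟨0,[]⟩,⟨11,[(2,false),(0,true)]⟩,⟨27,[(1,false)]⟩,⟨5,[(2,false),(1,false)]⟩,⟨2,[]⟩,⟨16,[]⟩,⟨29,[(0,false),(0,false)]⟩,⟨0,[(0,true),(1,false),(0,false)]⟩,⟨17,[(0,true),(0,true)]⟩,⟨25,[]⟩,⟨7,[(4,false)]⟩,⟨9,[(5,true),(2,true),(1,false)]⟩,⟨8,[(4,true),(3,false)]⟩,⟨13,[(2,false),(2,false),(1,false)]⟩,⟨9,[(2,false),(1,false)]⟩,⟨1,[]⟩,⟨0,[]⟩],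
    [⟨10,[(0,false),(1,false),(2,false)]⟩,⟨2,[]⟩,⟨3,[]⟩,⟨8,[(3,false),(1,true),(2,true)]⟩,⟨7,[(4,false),(0,true)]⟩,⟨9,[]⟩,⟨4,[(2,false),(2,false),(1,false)]⟩,⟨11,[(2,false),(5,false),(2,false)]⟩,⟨27,[(0,true),(2,false)]⟩,⟨5,[(2,false),(1,false)]⟩,⟨2,[]⟩,⟨7,[(1,true)]⟩,⟨12,[(2,false),(4,false),(1,false)]⟩,⟨11,[(2,false),(1,false)]⟩,⟨7,[(2,true),(1,true),(0,true)]⟩,⟨9,[]⟩,⟨4,[(2,false),(2,false),(1,false)]⟩,⟨12,[(5,false),(2,true)]⟩,⟨24,[(2,true),(4,false),(0,false)]⟩,⟨24,[(1,true),(4,false)]⟩,⟨6,[(0,false),(3,false)]⟩,⟨7,[(2,true),(0,false),(1,false),(0,false)]⟩,⟨12,[(1,false),(2,false)]⟩,⟨7,[(2,true),(2,true)]⟩,⟨9,[(1,true),(2,false)]⟩,⟨8,[(4,true),(3,false)]⟩,⟨13,[(2,false),(2,false),(1,false)]⟩,⟨9,[(2,false),(1,false)]⟩,⟨1,[]⟩,⟨0,[]⟩],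
    [⟨5,[(0,true),(0,true)]⟩,⟨3,[(0,false)]⟩,⟨1,[(0,false),(0,false),(0,false)]⟩,⟨11,[(3,false),(4,false)]⟩,⟨14,[(3,true),(1,false)]⟩,⟨4,[]⟩,⟨5,[(1,true),(2,false),(1,true)]⟩,⟨13,[(1,false),(4,true),(1,true),(0,true)]⟩,⟨24,[(1,false)]⟩,⟨24,[(1,true),(4,false)]⟩,⟨24,[(1,true),(4,false)]⟩,⟨24,[(1,true),(4,false)]⟩,⟨26,[(3,true),(1,true),(0,false)]⟩,⟨0,[]⟩,⟨10,[(4,false),(1,false)]⟩,⟨0,[]⟩,⟨8,[(3,true),(3,true)]⟩,⟨11,[(4,false),(2,true)]⟩,⟨16,[(2,true)]⟩,⟨29,[(0,false),(0,false)]⟩,⟨0,[(2,false)]⟩,⟨17,[(0,true),(0,true)]⟩,⟨25,[]⟩,⟨2,[(1,false)]⟩,⟨5,[(1,false),(0,false)]⟩,⟨6,[]⟩,⟨5,[(1,false),(0,false)]⟩,⟨0,[(0,false)]⟩,⟨7,[(5,false),(2,true)]⟩,⟨0,[(0,false),(0,false),(0,false)]⟩]]⟩)]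

/-- the central element commutes -/
def zData : List Wit :=
  [⟨[],
    [[],
    [],
    [],
    [],
    [],
    []]⟩,⟨[],
    [[],
    [],
    [],
    [],
    [],
    []]⟩,⟨[],
    [[],
    [],
    [],
    [],
    [],
    []]⟩,⟨[⟨0,[(2,true),(4,false),(5,true),(2,true),(4,false)]⟩,⟨2,[]⟩,⟨3,[]⟩,⟨7,[(4,true),(0,true)]⟩,⟨0,[(5,true),(0,false)]⟩,⟨4,[(4,true),(0,true)]⟩,⟨2,[]⟩,⟨0,[(0,false)]⟩,⟨1,[]⟩,⟨0,[]⟩],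
    [[⟨9,[(1,true),(0,true),(1,true)]⟩,⟨4,[(5,true)]⟩,⟨3,[(0,false)]⟩,⟨10,[(3,false)]⟩,⟨10,[(0,false)]⟩,⟨3,[(0,false),(0,false),(0,false)]⟩,⟨15,[]⟩,⟨2,[(2,true),(1,false),(0,false)]⟩,⟨1,[(1,false)]⟩,⟨9,[(5,false)]⟩],
    [⟨5,[(1,true),(0,true)]⟩,⟨3,[(0,false)]⟩,⟨1,[(0,false),(0,false),(0,false)]⟩,⟨11,[(4,true),(3,false)]⟩,⟨15,[(0,false)]⟩,⟨2,[(2,true),(1,false),(0,false)]⟩,⟨14,[(2,true),(1,false),(0,false)]⟩,⟨10,[]⟩,⟨1,[]⟩,⟨1,[(0,false)]⟩],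
    [⟨6,[(4,true),(0,true)]⟩,⟨5,[(0,true),(4,false),(1,true),(0,false)]⟩,⟨3,[(0,false)]⟩,⟨3,[(4,false),(2,false)]⟩,⟨3,[(3,true),(1,false)]⟩,⟨13,[(5,false),(1,true),(0,true),(0,true)]⟩,⟨5,[]⟩,⟨6,[(1,false)]⟩,⟨1,[]⟩,⟨0,[]⟩],
    [⟨10,[(0,true),(3,false),(0,false)]⟩,⟨2,[]⟩,⟨3,[]⟩,⟨11,[(1,false),(2,false)]⟩,⟨3,[(2,false)]⟩,⟨13,[(5,false),(1,true),(0,true),(0,true)]⟩,⟨5,[]⟩,⟨6,[(1,false)]⟩,⟨1,[]⟩,⟨0,[]⟩],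
    [⟨10,[(0,false),(1,false),(2,false)]⟩,⟨2,[]⟩,⟨3,[]⟩,⟨8,[(3,false),(1,true),(2,true)]⟩,⟨5,[]⟩,⟨6,[]⟩,⟨5,[(1,false),(0,false)]⟩,⟨0,[(0,false)]⟩,⟨7,[(0,false),(4,false)]⟩,⟨0,[(0,false),(0,false),(0,false)]⟩],
    [⟨5,[(0,true),(0,true)]⟩,⟨3,[(0,false)]⟩,⟨1,[(0,false),(0,false),(0,false)]⟩,⟨11,[(3,false),(4,false)]⟩,⟨15,[(0,false)]⟩,⟨2,[(2,true),(1,false),(0,false)]⟩,⟨14,[(2,true),(1,false),(0,false)]⟩,⟨10,[]⟩,⟨1,[]⟩,⟨1,[(0,false)]⟩]]⟩,⟨[],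
    [[],
    [],
    [],
    [],
    [],
    []]⟩,⟨[],
    [[],
    [],
    [],
    [],
    [],
    []]⟩,⟨[],
    [[],
    [],
    [],
    [],
    [],
    []]⟩,⟨[],
    [[],
    [],
    [],
    [],
    [],
    []]⟩,⟨[],
    [[],
    [],
    [],
    [],
    [],
    []]⟩,⟨[],
    [[],
    [],
    [],
    [],
    [],
    []]⟩,⟨[],
    [[],
    [],
    [],
    [],
    [],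
    []]⟩,⟨[⟨0,[(2,true),(4,false),(5,true),(2,true),(4,false)]⟩,⟨2,[]⟩,⟨3,[]⟩,⟨7,[(4,true),(0,true)]⟩,⟨3,[(6,true),(4,true)]⟩,⟨15,[]⟩,⟨2,[(2,true),(1,false),(0,false)]⟩,⟨14,[(2,true),(1,false),(0,false)]⟩,⟨16,[(0,true)]⟩,⟨29,[(0,false),(0,false)]⟩,⟨0,[(3,false)]⟩,⟨17,[(0,true),(0,true)]⟩,⟨25,[]⟩,⟨10,[(0,false)]⟩,⟨0,[(3,true),(0,false)]⟩,⟨4,[(4,true),(0,true)]⟩,⟨2,[]⟩,⟨0,[(0,false)]⟩,⟨1,[]⟩,⟨0,[]⟩],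
    [[⟨9,[(1,true),(0,true),(1,true)]⟩,⟨4,[(5,true)]⟩,⟨3,[(0,false)]⟩,⟨10,[(3,false)]⟩,⟨29,[(0,false),(0,false)]⟩,⟨0,[(2,true),(0,true),(0,true),(3,false),(0,false),(0,false)]⟩,⟨17,[(0,true),(0,true)]⟩,⟨25,[]⟩,⟨16,[(3,false),(0,true)]⟩,⟨29,[(0,false),(0,false)]⟩,⟨1,[(3,false),(0,false),(0,false),(3,false),(0,false)]⟩,⟨1,[(1,false),(0,false),(4,false),(0,true)]⟩,⟨1,[(1,false),(0,false),(4,false),(0,true)]⟩,⟨0,[(3,false)]⟩,⟨10,[(0,false)]⟩,⟨3,[(0,false),(0,false),(0,false)]⟩,⟨15,[]⟩,⟨2,[(2,true),(1,false),(0,false)]⟩,⟨1,[]⟩,⟨9,[(5,false)]⟩],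
    [⟨5,[(1,true),(0,true)]⟩,⟨3,[(0,false)]⟩,⟨1,[(0,false),(0,false),(0,false)]⟩,⟨11,[(4,true),(3,false)]⟩,⟨17,[(1,false)]⟩,⟨25,[]⟩,⟨16,[(0,false),(0,false)]⟩,⟨29,[(0,false),(0,false)]⟩,⟨1,[(0,false),(1,true),(0,false)]⟩,⟨1,[(1,false),(0,false),(4,false),(0,true)]⟩,⟨0,[(1,false),(5,false),(1,false),(0,true)]⟩,⟨17,[(0,true),(0,true)]⟩,⟨25,[]⟩,⟨16,[(1,false),(0,false)]⟩,⟨15,[(0,false)]⟩,⟨2,[(2,true),(1,false),(0,false)]⟩,⟨14,[(2,true),(1,false),(0,false)]⟩,⟨10,[]⟩,⟨1,[(3,true),(0,false)]⟩,⟨1,[(0,false)]⟩],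
    [⟨6,[(4,true),(0,true)]⟩,⟨5,[(0,true),(4,false),(1,true),(0,false)]⟩,⟨3,[(0,false)]⟩,⟨3,[(4,false),(2,false)]⟩,⟨26,[(2,true),(1,true)]⟩,⟨0,[]⟩,⟨15,[(5,true),(0,true),(0,true)]⟩,⟨1,[]⟩,⟨21,[(4,true),(0,false)]⟩,⟨21,[(0,true),(1,false),(0,true)]⟩,⟨18,[(2,true),(0,true),(1,false)]⟩,⟨13,[]⟩,⟨15,[(2,false),(1,false),(2,true),(1,false)]⟩,⟨1,[(1,true),(1,true),(1,true)]⟩,⟨3,[(2,true),(1,false)]⟩,⟨13,[(5,false),(1,true),(0,true),(0,true)]⟩,⟨5,[]⟩,⟨6,[(1,false)]⟩,⟨1,[]⟩,⟨0,[]⟩],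
    [⟨10,[(0,true),(3,false),(0,false)]⟩,⟨2,[]⟩,⟨3,[]⟩,⟨11,[(1,false),(2,false)]⟩,⟨23,[(2,false),(2,false),(1,true)]⟩,⟨23,[(4,true),(1,false)]⟩,⟨23,[(4,true),(1,false)]⟩,⟨23,[(4,true),(1,false)]⟩,⟨16,[(1,false)]⟩,⟨29,[(0,false),(0,false)]⟩,⟨0,[(1,false),(1,false),(1,false)]⟩,⟨17,[(0,true),(0,true)]⟩,⟨25,[]⟩,⟨24,[(4,false),(3,true)]⟩,⟨3,[(1,true)]⟩,⟨13,[(5,false),(1,true),(0,true),(0,true)]⟩,⟨5,[]⟩,⟨6,[(1,false)]⟩,⟨1,[]⟩,⟨0,[]⟩],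
    [⟨10,[(0,false),(1,false),(2,false)]⟩,⟨2,[]⟩,⟨3,[]⟩,⟨8,[(3,false),(1,true),(2,true)]⟩,⟨8,[(0,false),(4,false)]⟩,⟨13,[(2,false),(2,false),(1,false)]⟩,⟨9,[(2,false),(1,false)]⟩,⟨8,[(2,true),(1,false),(2,true)]⟩,⟨15,[(1,true),(2,false),(1,false)]⟩,⟨1,[]⟩,⟨13,[(2,false),(1,true),(0,true)]⟩,⟨15,[(2,false),(1,false),(2,true),(1,false)]⟩,⟨3,[(1,false),(1,false),(2,true),(1,false)]⟩,⟨8,[(1,true),(1,true)]⟩,⟨5,[(0,false)]⟩,⟨6,[]⟩,⟨5,[(1,false),(0,false)]⟩,⟨0,[(0,false)]⟩,⟨7,[(1,true),(0,false)]⟩,⟨0,[(0,false),(0,false),(0,false)]⟩],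
    [⟨5,[(0,true),(0,true)]⟩,⟨3,[(0,false)]⟩,⟨1,[(0,false),(0,false),(0,false)]⟩,⟨11,[(3,false),(4,false)]⟩,⟨17,[(3,false)]⟩,⟨25,[]⟩,⟨16,[(0,false),(0,false)]⟩,⟨29,[(0,false),(0,false)]⟩,⟨1,[(0,false),(1,true),(0,false)]⟩,⟨1,[(1,false),(0,false),(4,false),(0,true)]⟩,⟨0,[(1,false),(5,false),(1,false),(0,true)]⟩,⟨17,[(0,true),(0,true)]⟩,⟨25,[]⟩,⟨16,[(1,false),(0,false)]⟩,⟨15,[(0,false)]⟩,⟨2,[(2,true),(1,false),(0,false)]⟩,⟨14,[(2,true),(1,false),(0,false)]⟩,⟨10,[]⟩,⟨1,[]⟩,⟨1,[(0,false)]⟩]]⟩]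

/-- witness -/
def zTWit : Wit :=
  ⟨[⟨0,[(4,false)]⟩,⟨2,[]⟩,⟨3,[]⟩,⟨7,[(0,false),(4,false)]⟩,⟨0,[]⟩,⟨4,[(4,true),(0,true)]⟩,⟨2,[]⟩,⟨0,[(0,false)]⟩,⟨1,[]⟩,⟨0,[]⟩],
    [[⟨6,[]⟩,⟨5,[(0,true),(4,false),(1,true),(0,false)]⟩,⟨3,[(0,false)]⟩,⟨1,[(1,true),(2,true),(0,false)]⟩,⟨3,[]⟩,⟨1,[(0,false),(0,false),(0,false)]⟩,⟨1,[(0,false)]⟩,⟨6,[(0,false),(1,false),(1,false),(0,false)]⟩,⟨0,[]⟩,⟨0,[(0,false),(0,false)]⟩],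
    [⟨2,[]⟩,⟨3,[]⟩,⟨1,[]⟩,⟨5,[(0,true),(4,false),(1,true),(0,false)]⟩,⟨1,[]⟩,⟨6,[(0,false),(1,false),(1,false),(0,false)]⟩,⟨5,[(0,true),(4,false),(1,true),(0,false)]⟩,⟨3,[(0,false)]⟩,⟨1,[(1,true),(2,true),(0,false)]⟩,⟨1,[(0,false)]⟩],
    [⟨9,[(4,false),(2,true)]⟩,⟨4,[(5,true)]⟩,⟨3,[(0,false)]⟩,⟨14,[]⟩,⟨15,[]⟩,⟨2,[(2,true),(1,false),(0,false)]⟩,⟨14,[(2,true),(1,false),(0,false)]⟩,⟨10,[]⟩,⟨1,[]⟩,⟨1,[(0,false)]⟩],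
    [⟨8,[(0,false),(1,false),(3,false),(0,false)]⟩,⟨5,[(0,false)]⟩,⟨6,[]⟩,⟨7,[(5,false),(1,true)]⟩,⟨6,[]⟩,⟨12,[(4,false),(2,true)]⟩,⟨22,[]⟩,⟨1,[]⟩,⟨2,[]⟩,⟨0,[(0,false)]⟩],
    [⟨8,[(5,false),(0,true),(2,false)]⟩,⟨5,[(0,false)]⟩,⟨6,[]⟩,⟨7,[(5,false)]⟩,⟨6,[]⟩,⟨12,[(4,false),(2,true)]⟩,⟨22,[]⟩,⟨1,[]⟩,⟨2,[]⟩,⟨0,[(0,false)]⟩],
    [⟨9,[(0,true),(1,true),(2,false),(0,false)]⟩,⟨4,[(5,true)]⟩,⟨3,[(0,false)]⟩,⟨5,[]⟩,⟨5,[]⟩,⟨0,[(0,false)]⟩,⟨8,[(2,false),(0,true),(2,false)]⟩,⟨5,[(0,false)]⟩,⟨2,[]⟩,⟨0,[(0,false)]⟩]]⟩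

/-- witness -/
def aTWit : Wit :=
  ⟨[⟨0,[(4,false),(0,true),(5,true),(4,false),(0,false)]⟩,⟨2,[]⟩,⟨3,[]⟩,⟨7,[(0,false)]⟩,⟨2,[(1,true),(0,true)]⟩,⟨13,[]⟩,⟨19,[]⟩,⟨29,[(0,false)]⟩,⟨0,[]⟩,⟨17,[(0,true),(0,true)]⟩,⟨25,[]⟩,⟨16,[(0,false),(0,false)]⟩,⟨12,[(0,false)]⟩,⟨4,[]⟩,⟨0,[(0,false),(1,false)]⟩,⟨4,[(4,true),(0,true)]⟩,⟨2,[]⟩,⟨0,[(0,false)]⟩,⟨1,[]⟩,⟨0,[]⟩],
    [[⟨9,[(0,true),(1,true),(5,true)]⟩,⟨4,[(5,true)]⟩,⟨3,[(0,false)]⟩,⟨10,[(5,false)]⟩,⟨16,[(0,false)]⟩,⟨29,[(0,false),(0,false)]⟩,⟨0,[(2,true),(0,true),(0,true),(3,false),(0,false),(0,false)]⟩,⟨29,[(3,false),(0,true)]⟩,⟨0,[]⟩,⟨17,[(0,true),(0,true)]⟩,⟨25,[]⟩,⟨16,[(0,false),(0,false)]⟩,⟨17,[(0,false)]⟩,⟨25,[]⟩,⟨0,[(1,false),(0,false)]⟩,⟨8,[(3,true),(3,true)]⟩,⟨11,[(4,false),(2,true)]⟩,⟨2,[]⟩,⟨1,[(1,false),(0,false)]⟩,⟨9,[(5,false)]⟩],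
    [⟨5,[(1,false),(4,true),(0,false)]⟩,⟨3,[(0,false)]⟩,⟨1,[(0,false),(0,false),(0,false)]⟩,⟨11,[(5,true),(1,true)]⟩,⟨25,[(0,false)]⟩,⟨16,[(0,false),(0,false)]⟩,⟨29,[(0,false),(0,false)]⟩,⟨1,[(0,false),(1,true),(0,false)]⟩,⟨1,[(1,true),(0,true),(0,true)]⟩,⟨1,[(1,false),(0,false),(4,false),(0,true)]⟩,⟨1,[(1,false),(0,false),(4,false),(0,true)]⟩,⟨1,[(1,false),(0,false),(4,false),(0,true)]⟩,⟨0,[(3,false),(0,true),(0,true),(2,false),(1,false)]⟩,⟨17,[(0,true),(0,true)]⟩,⟨2,[(0,false)]⟩,⟨10,[(1,false)]⟩,⟨0,[]⟩,⟨8,[(3,true),(3,true)]⟩,⟨1,[(0,false)]⟩,⟨6,[(0,false),(1,false),(1,false),(0,false)]⟩],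
    [⟨10,[(2,false)]⟩,⟨2,[]⟩,⟨3,[]⟩,⟨11,[(2,true),(1,false)]⟩,⟨27,[(1,false),(1,false),(0,false)]⟩,⟨5,[(2,false),(1,false)]⟩,⟨2,[]⟩,⟨24,[(1,true),(3,true),(0,false)]⟩,⟨23,[]⟩,⟨23,[(4,true),(1,false)]⟩,⟨23,[(4,true),(1,false)]⟩,⟨23,[(4,true),(1,false)]⟩,⟨28,[(4,false),(3,false)]⟩,⟨4,[(1,false),(1,false),(2,true),(1,false)]⟩,⟨15,[]⟩,⟨2,[(2,true),(1,false),(0,false)]⟩,⟨14,[(2,true),(1,false),(0,false)]⟩,⟨10,[]⟩,⟨1,[(3,true),(0,false)]⟩,⟨1,[(0,false)]⟩],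
    [⟨10,[(3,false),(2,true),(0,false)]⟩,⟨2,[]⟩,⟨3,[]⟩,⟨11,[(1,false),(2,false)]⟩,⟨20,[(3,true),(1,true),(0,false)]⟩,⟨20,[(0,false),(1,true),(0,false)]⟩,⟨20,[(0,false),(1,true),(0,false)]⟩,⟨29,[(1,false)]⟩,⟨0,[]⟩,⟨17,[(0,true),(0,true)]⟩,⟨25,[]⟩,⟨16,[(0,false),(0,false)]⟩,⟨20,[(0,true),(1,false),(0,false)]⟩,⟨20,[(0,false),(1,true),(0,false)]⟩,⟨3,[(0,true)]⟩,⟨13,[(5,false),(1,true),(0,true),(0,true)]⟩,⟨5,[]⟩,⟨6,[(1,false)]⟩,⟨1,[]⟩,⟨0,[]⟩],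
    [⟨7,[(1,true),(2,true)]⟩,⟨0,[(0,false),(0,false),(0,false)]⟩,⟨4,[(4,true),(0,true)]⟩,⟨7,[(1,true),(4,false)]⟩,⟨7,[(3,false),(5,false)]⟩,⟨9,[]⟩,⟨4,[(2,false),(2,false),(1,false)]⟩,⟨11,[(3,false),(0,false),(0,false)]⟩,⟨7,[]⟩,⟨11,[(4,false),(0,false),(5,false),(0,false)]⟩,⟨27,[(1,false)]⟩,⟨5,[(2,false),(1,false)]⟩,⟨2,[(0,false),(1,false),(0,true),(0,true)]⟩,⟨7,[(1,true)]⟩,⟨9,[(2,true),(1,false),(0,true)]⟩,⟨8,[(4,true),(3,false)]⟩,⟨13,[(2,false),(2,false),(1,false)]⟩,⟨9,[(2,false),(1,false)]⟩,⟨1,[]⟩,⟨0,[]⟩],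
    [⟨5,[(1,false)]⟩,⟨3,[(0,false)]⟩,⟨1,[(0,false),(0,false),(0,false)]⟩,⟨11,[(2,false),(1,false)]⟩,⟨25,[(3,false),(0,true)]⟩,⟨16,[(0,false),(0,false)]⟩,⟨29,[(0,false),(0,false)]⟩,⟨1,[]⟩,⟨1,[(1,true),(0,true),(0,true)]⟩,⟨1,[(1,false),(0,false),(4,false),(0,true)]⟩,⟨1,[(1,false),(0,false),(4,false),(0,true)]⟩,⟨1,[(1,false),(0,false),(4,false),(0,true)]⟩,⟨0,[(2,false)]⟩,⟨17,[(0,true),(0,true)]⟩,⟨2,[(1,false),(0,false)]⟩,⟨10,[(1,false)]⟩,⟨0,[]⟩,⟨8,[(3,true),(3,true)]⟩,⟨1,[(0,false)]⟩,⟨6,[(0,false),(1,false),(1,false),(0,false)]⟩]]⟩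

/-- witness -/
def bTWit : Wit :=
  ⟨[⟨0,[(4,false),(5,true),(4,false),(0,false)]⟩,⟨2,[]⟩,⟨3,[]⟩,⟨7,[(0,false)]⟩,⟨2,[(1,true),(0,true)]⟩,⟨13,[]⟩,⟨19,[]⟩,⟨29,[(0,false)]⟩,⟨0,[]⟩,⟨17,[(0,true),(0,true)]⟩,⟨25,[]⟩,⟨16,[(0,false),(0,false)]⟩,⟨12,[(0,false)]⟩,⟨4,[]⟩,⟨0,[(0,false),(1,false)]⟩,⟨4,[(4,true),(0,true)]⟩,⟨2,[]⟩,⟨0,[(0,false)]⟩,⟨1,[]⟩,⟨0,[]⟩],
    [[⟨8,[(0,false),(4,true),(1,false)]⟩,⟨5,[(0,false)]⟩,⟨6,[]⟩,⟨7,[(1,true),(4,false)]⟩,⟨6,[(0,true),(0,true)]⟩,⟨12,[(4,false),(2,true)]⟩,⟨22,[]⟩,⟨29,[(1,true)]⟩,⟨0,[]⟩,⟨17,[(0,true),(0,true)]⟩,⟨25,[]⟩,⟨16,[(0,false),(0,false)]⟩,⟨1,[(1,false)]⟩,⟨7,[(3,false),(2,true)]⟩,⟨6,[(0,true),(0,true)]⟩,⟨12,[(4,false),(2,true)]⟩,⟨22,[]⟩,⟨1,[]⟩,⟨5,[(1,true),(0,false)]⟩,⟨0,[(0,false)]⟩],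
    [⟨4,[(2,true),(1,false),(0,false)]⟩,⟨2,[]⟩,⟨0,[(0,false)]⟩,⟨8,[(0,false),(5,true),(3,false),(0,true)]⟩,⟨6,[(4,true),(1,false),(0,false)]⟩,⟨12,[(4,false),(2,true)]⟩,⟨22,[]⟩,⟨29,[(2,true)]⟩,⟨0,[]⟩,⟨17,[(0,true),(0,true)]⟩,⟨25,[]⟩,⟨16,[(0,false),(0,false)]⟩,⟨1,[]⟩,⟨7,[(3,false),(2,true)]⟩,⟨5,[]⟩,⟨6,[]⟩,⟨5,[(1,false),(0,false)]⟩,⟨0,[(0,false)]⟩,⟨7,[(5,false),(2,true)]⟩,⟨0,[(0,false),(0,false),(0,false)]⟩],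
    [⟨10,[(3,false),(2,true),(0,false)]⟩,⟨2,[]⟩,⟨3,[]⟩,⟨11,[(1,false),(2,false)]⟩,⟨20,[(3,true),(1,true),(0,false)]⟩,⟨20,[(0,false),(1,true),(0,false)]⟩,⟨20,[(0,false),(1,true),(0,false)]⟩,⟨29,[(1,false)]⟩,⟨0,[]⟩,⟨17,[(0,true),(0,true)]⟩,⟨25,[]⟩,⟨16,[(0,false),(0,false)]⟩,⟨20,[(0,true),(1,false),(0,false)]⟩,⟨20,[(0,false),(1,true),(0,false)]⟩,⟨3,[(0,true)]⟩,⟨13,[(5,false),(1,true),(0,true),(0,true)]⟩,⟨5,[]⟩,⟨6,[(1,false)]⟩,⟨1,[]⟩,⟨0,[]⟩],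
    [⟨10,[(0,false),(2,true)]⟩,⟨2,[]⟩,⟨3,[]⟩,⟨11,[(3,false)]⟩,⟨28,[(0,false),(3,false),(0,false)]⟩,⟨4,[(1,false),(1,false),(2,true),(1,false)]⟩,⟨6,[(2,true),(4,false)]⟩,⟨12,[(1,true),(0,false),(2,false),(2,false)]⟩,⟨6,[]⟩,⟨7,[(2,true),(0,false),(1,false),(0,false)]⟩,⟨12,[(1,false),(2,false)]⟩,⟨28,[(4,true),(2,false)]⟩,⟨5,[(1,true),(2,false),(1,true)]⟩,⟨2,[]⟩,⟨2,[]⟩,⟨10,[(1,false)]⟩,⟨0,[]⟩,⟨8,[(3,true),(3,true)]⟩,⟨1,[(0,false)]⟩,⟨6,[(0,false),(1,false),(1,false),(0,false)]⟩],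
    [⟨10,[(0,false),(3,false),(0,true)]⟩,⟨2,[]⟩,⟨3,[]⟩,⟨8,[(1,true)]⟩,⟨15,[(0,false),(5,true)]⟩,⟨1,[]⟩,⟨8,[(2,false),(1,true)]⟩,⟨29,[(1,false)]⟩,⟨0,[]⟩,⟨17,[(0,true),(0,true)]⟩,⟨25,[]⟩,⟨16,[(0,false),(0,false)]⟩,⟨26,[]⟩,⟨0,[]⟩,⟨9,[(2,true),(5,false),(0,false)]⟩,⟨8,[(4,true),(3,false)]⟩,⟨13,[(2,false),(2,false),(1,false)]⟩,⟨9,[(2,false),(1,false)]⟩,⟨1,[]⟩,⟨0,[]⟩],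
    [⟨4,[(0,false),(4,true),(0,false)]⟩,⟨2,[]⟩,⟨0,[(0,false)]⟩,⟨8,[(0,false),(1,true)]⟩,⟨6,[(1,true),(0,false)]⟩,⟨12,[(4,false),(2,true)]⟩,⟨22,[]⟩,⟨29,[]⟩,⟨0,[]⟩,⟨17,[(0,true),(0,true)]⟩,⟨25,[]⟩,⟨16,[(0,false),(0,false)]⟩,⟨1,[]⟩,⟨7,[(3,false),(2,true)]⟩,⟨5,[]⟩,⟨6,[]⟩,⟨5,[(1,false),(0,false)]⟩,⟨0,[(0,false)]⟩,⟨7,[(5,false),(0,true)]⟩,⟨0,[(0,false),(0,false),(0,false)]⟩]]⟩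

/-- witness -/
def bDWit : Wit :=
  ⟨[⟨0,[(8,false),(4,false),(2,false),(4,false),(0,true)]⟩,⟨2,[]⟩,⟨3,[]⟩,⟨7,[(1,true),(0,false)]⟩,⟨2,[(3,true),(3,true),(1,true),(0,true)]⟩,⟨13,[]⟩,⟨19,[]⟩,⟨29,[(0,false)]⟩,⟨0,[(0,false),(3,false),(0,false),(3,false),(0,false)]⟩,⟨17,[(0,true),(0,true)]⟩,⟨25,[]⟩,⟨16,[(0,false),(0,false)]⟩,⟨12,[(0,false)]⟩,⟨4,[]⟩,⟨0,[(0,false),(1,false)]⟩,⟨4,[(4,true),(0,true)]⟩,⟨2,[]⟩,⟨0,[(0,false)]⟩,⟨1,[]⟩,⟨0,[]⟩],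
    [[⟨8,[(4,true),(1,true)]⟩,⟨5,[(0,false)]⟩,⟨6,[]⟩,⟨5,[(3,false),(1,false)]⟩,⟨6,[(1,false),(1,false)]⟩,⟨12,[(4,false),(2,true)]⟩,⟨22,[]⟩,⟨29,[]⟩,⟨0,[(1,false),(0,true),(3,false),(0,true),(0,true)]⟩,⟨17,[(0,true),(0,true)]⟩,⟨25,[]⟩,⟨16,[(0,false),(0,false)]⟩,⟨1,[]⟩,⟨7,[(3,false),(2,true)]⟩,⟨6,[(0,true),(0,true)]⟩,⟨12,[(4,false),(2,true)]⟩,⟨22,[]⟩,⟨1,[]⟩,⟨5,[(1,true),(0,false)]⟩,⟨0,[(0,false)]⟩],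
    [⟨7,[(4,true),(1,true)]⟩,⟨0,[(0,false),(0,false),(0,false)]⟩,⟨4,[(4,true),(0,true)]⟩,⟨7,[(5,true),(3,false)]⟩,⟨6,[(4,false)]⟩,⟨12,[(4,false),(2,true)]⟩,⟨22,[]⟩,⟨29,[(0,false),(0,false)]⟩,⟨0,[(1,false),(0,true),(3,false),(0,true),(0,true)]⟩,⟨17,[(0,true),(0,true)]⟩,⟨25,[]⟩,⟨16,[(0,false),(0,false)]⟩,⟨1,[]⟩,⟨7,[(3,false),(2,true)]⟩,⟨5,[]⟩,⟨6,[]⟩,⟨5,[(1,false),(0,false)]⟩,⟨0,[(0,false)]⟩,⟨7,[(5,false),(2,true)]⟩,⟨0,[(0,false),(0,false),(0,false)]⟩],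
    [⟨10,[(2,false),(5,true),(0,true)]⟩,⟨2,[]⟩,⟨3,[]⟩,⟨11,[(1,false),(2,false)]⟩,⟨21,[(4,true),(3,false),(0,true)]⟩,⟨21,[(0,true),(1,false),(0,true)]⟩,⟨21,[(0,true),(1,false),(0,true)]⟩,⟨29,[(0,false),(0,false)]⟩,⟨0,[(0,true),(0,true),(1,true),(0,false),(1,false)]⟩,⟨17,[(0,true),(0,true)]⟩,⟨25,[]⟩,⟨16,[(0,false),(0,false)]⟩,⟨20,[(2,true),(0,false),(0,false)]⟩,⟨20,[(0,false),(1,true),(0,false)]⟩,⟨3,[(2,false),(1,false),(0,false)]⟩,⟨13,[(5,false),(1,true),(0,true),(0,true)]⟩,⟨5,[]⟩,⟨6,[(1,false)]⟩,⟨1,[]⟩,⟨0,[]⟩],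
    [⟨6,[(4,true),(0,true)]⟩,⟨5,[(0,true),(4,false),(1,true),(0,false)]⟩,⟨3,[(0,false)]⟩,⟨3,[(4,false),(2,false)]⟩,⟨6,[(2,false),(1,false)]⟩,⟨7,[(2,true),(0,false),(1,false),(0,false)]⟩,⟨12,[(1,false),(2,false)]⟩,⟨23,[(3,true),(4,true)]⟩,⟨6,[(1,false),(0,false),(0,false)]⟩,⟨7,[(2,true),(0,false),(1,false),(0,false)]⟩,⟨12,[(1,false),(2,false)]⟩,⟨28,[(4,true),(2,false)]⟩,⟨5,[(2,false),(2,false)]⟩,⟨2,[]⟩,⟨2,[]⟩,⟨10,[(1,false)]⟩,⟨0,[]⟩,⟨8,[(3,true),(3,true)]⟩,⟨1,[(0,false)]⟩,⟨6,[(0,false),(1,false),(1,false),(0,false)]⟩],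
    [⟨10,[(1,false),(0,false),(1,true)]⟩,⟨2,[]⟩,⟨3,[]⟩,⟨8,[(1,false)]⟩,⟨15,[(0,false)]⟩,⟨1,[]⟩,⟨8,[(2,false),(1,true)]⟩,⟨29,[(1,false)]⟩,⟨0,[(3,false),(2,false),(1,false),(0,false)]⟩,⟨17,[(0,true),(0,true)]⟩,⟨25,[]⟩,⟨16,[(0,false),(0,false)]⟩,⟨26,[(1,false),(1,false)]⟩,⟨0,[]⟩,⟨9,[(4,false),(1,true),(0,false)]⟩,⟨8,[(4,true),(3,false)]⟩,⟨13,[(2,false),(2,false),(1,false)]⟩,⟨9,[(2,false),(1,false)]⟩,⟨1,[]⟩,⟨0,[]⟩],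
    [⟨7,[(0,true),(2,false)]⟩,⟨0,[(0,false),(0,false),(0,false)]⟩,⟨4,[(4,true),(0,true)]⟩,⟨7,[(0,false),(1,true),(0,false)]⟩,⟨6,[(1,false),(1,false)]⟩,⟨12,[(4,false),(2,true)]⟩,⟨22,[]⟩,⟨29,[]⟩,⟨0,[(1,false),(0,true),(3,false),(0,true),(0,true)]⟩,⟨17,[(0,true),(0,true)]⟩,⟨25,[]⟩,⟨16,[(0,false),(0,false)]⟩,⟨1,[]⟩,⟨7,[(3,false),(2,true)]⟩,⟨5,[]⟩,⟨6,[]⟩,⟨5,[(1,false),(0,false)]⟩,⟨0,[(0,false)]⟩,⟨7,[(2,true),(0,false)]⟩,⟨0,[(0,false),(0,false),(0,false)]⟩]]⟩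

/-- witness -/
def dCWit : Wit :=
  ⟨[⟨0,[(0,true),(5,true),(4,false),(0,false)]⟩,⟨2,[]⟩,⟨3,[]⟩,⟨7,[(0,false)]⟩,⟨2,[(1,true),(0,true)]⟩,⟨13,[]⟩,⟨19,[]⟩,⟨29,[(0,false)]⟩,⟨0,[(3,false)]⟩,⟨17,[(0,true),(0,true)]⟩,⟨25,[]⟩,⟨16,[(0,false),(0,false)]⟩,⟨12,[(0,false)]⟩,⟨4,[]⟩,⟨0,[(0,false),(1,false)]⟩,⟨4,[(4,true),(0,true)]⟩,⟨2,[]⟩,⟨0,[(0,false)]⟩,⟨1,[]⟩,⟨0,[]⟩],
    [[⟨5,[(1,false),(4,true),(0,false)]⟩,⟨3,[(0,false)]⟩,⟨1,[(0,false),(0,false),(0,false)]⟩,⟨11,[(5,true),(1,true)]⟩,⟨25,[(0,false)]⟩,⟨16,[(0,false),(0,false)]⟩,⟨29,[(0,false),(0,false)]⟩,⟨1,[(0,false),(1,true),(0,false)]⟩,⟨0,[(5,false),(0,false),(3,false),(2,false),(1,false)]⟩,⟨17,[(0,true),(0,true)]⟩,⟨25,[]⟩,⟨16,[(0,false),(0,false)]⟩,⟨17,[(0,false)]⟩,⟨25,[]⟩,⟨0,[(1,false),(0,false)]⟩,⟨8,[(3,true),(3,true)]⟩,⟨11,[(4,false),(2,true)]⟩,⟨2,[]⟩,⟨1,[(1,false),(0,false)]⟩,⟨9,[(5,false)]⟩],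
    [⟨9,[(0,true),(1,true),(5,true)]⟩,⟨4,[(5,true)]⟩,⟨3,[(0,false)]⟩,⟨10,[(5,false)]⟩,⟨16,[(0,false)]⟩,⟨29,[(0,false),(0,false)]⟩,⟨0,[(2,true),(0,true),(0,true),(3,false),(0,false),(0,false)]⟩,⟨29,[(3,false),(0,true)]⟩,⟨1,[(0,true),(1,false),(3,false),(0,false),(0,false)]⟩,⟨1,[(1,false),(0,false),(4,false),(0,true)]⟩,⟨1,[(1,false),(0,false),(4,false),(0,true)]⟩,⟨1,[(1,false),(0,false),(4,false),(0,true)]⟩,⟨0,[(3,false),(0,false),(3,false),(2,false),(0,false)]⟩,⟨17,[(0,true),(0,true)]⟩,⟨2,[(0,false)]⟩,⟨10,[(1,false)]⟩,⟨0,[]⟩,⟨8,[(3,true),(3,true)]⟩,⟨1,[(0,false)]⟩,⟨6,[(0,false),(1,false),(1,false),(0,false)]⟩],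
    [⟨9,[(3,true),(0,true),(5,false),(0,false)]⟩,⟨4,[(5,true)]⟩,⟨3,[(0,false)]⟩,⟨14,[(1,true),(2,false)]⟩,⟨28,[(2,true),(2,true)]⟩,⟨4,[(1,false),(1,false),(2,true),(1,false)]⟩,⟨6,[(2,true),(4,false)]⟩,⟨12,[(0,false),(2,false),(1,true)]⟩,⟨23,[(3,true),(0,true)]⟩,⟨23,[(4,true),(1,false)]⟩,⟨23,[(4,true),(1,false)]⟩,⟨23,[(4,true),(1,false)]⟩,⟨28,[(0,true),(0,true),(1,false)]⟩,⟨4,[(1,false),(1,false),(2,true),(1,false)]⟩,⟨15,[]⟩,⟨2,[(2,true),(1,false),(0,false)]⟩,⟨14,[(2,true),(1,false),(0,false)]⟩,⟨10,[]⟩,⟨1,[(3,true),(0,false)]⟩,⟨1,[(0,false)]⟩],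
    [⟨8,[(2,false)]⟩,⟨5,[(0,false)]⟩,⟨6,[]⟩,⟨13,[(3,true),(0,true),(2,true)]⟩,⟨21,[(4,false),(1,true),(0,false)]⟩,⟨21,[(0,true),(1,false),(0,true)]⟩,⟨21,[(0,true),(1,false),(0,true)]⟩,⟨29,[(0,false),(0,false)]⟩,⟨0,[(1,true),(0,false),(4,false),(0,false)]⟩,⟨17,[(0,true),(0,true)]⟩,⟨25,[]⟩,⟨16,[(0,false),(0,false)]⟩,⟨20,[(4,true),(3,false)]⟩,⟨20,[(0,false),(1,true),(0,false)]⟩,⟨3,[(2,false),(1,false),(0,false)]⟩,⟨13,[(5,false),(1,true),(0,true),(0,true)]⟩,⟨5,[]⟩,⟨6,[(1,false)]⟩,⟨1,[]⟩,⟨0,[]⟩],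
    [⟨9,[(1,true),(0,false),(1,false)]⟩,⟨4,[(5,true)]⟩,⟨3,[(0,false)]⟩,⟨9,[(0,false),(0,false)]⟩,⟨11,[(2,false),(4,false),(0,true)]⟩,⟨27,[(1,false)]⟩,⟨5,[(2,false),(1,false)]⟩,⟨4,[(0,false),(2,false),(0,true)]⟩,⟨7,[(0,true),(1,false)]⟩,⟨11,[(4,false),(0,false),(5,false),(0,false)]⟩,⟨27,[(1,false)]⟩,⟨5,[(2,false),(1,false)]⟩,⟨2,[(2,true),(1,true),(0,true)]⟩,⟨7,[(1,true)]⟩,⟨9,[(2,true),(1,false),(0,true)]⟩,⟨8,[(4,true),(3,false)]⟩,⟨13,[(2,false),(2,false),(1,false)]⟩,⟨9,[(2,false),(1,false)]⟩,⟨1,[]⟩,⟨0,[]⟩],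
    [⟨9,[(2,false),(0,false),(1,false)]⟩,⟨4,[(5,true)]⟩,⟨3,[(0,false)]⟩,⟨10,[(4,false)]⟩,⟨16,[(0,false)]⟩,⟨29,[(0,false),(0,false)]⟩,⟨0,[(2,true),(0,true),(0,true),(3,false),(0,false),(0,false)]⟩,⟨29,[(0,false)]⟩,⟨1,[(0,false),(0,false),(3,false),(0,false)]⟩,⟨1,[(1,false),(0,false),(4,false),(0,true)]⟩,⟨1,[(1,false),(0,false),(4,false),(0,true)]⟩,⟨1,[(1,false),(0,false),(4,false),(0,true)]⟩,⟨0,[(3,false)]⟩,⟨17,[(0,true),(0,true)]⟩,⟨2,[(1,false),(0,false)]⟩,⟨10,[(1,false)]⟩,⟨0,[]⟩,⟨8,[(3,true),(3,true)]⟩,⟨1,[(0,false)]⟩,⟨6,[(0,false),(1,false),(1,false),(0,false)]⟩]]⟩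

/-- the word of the class of 30 -/
def w30 : List ℕ :=
  [0,3,3,1,2]

/-- its correction -/
def x30Code : ℕ :=
  12

/-- witness -/
def x30Wit : Wit :=
  ⟨[⟨0,[(5,false),(4,false),(2,true),(5,true),(4,false),(0,false)]⟩,⟨2,[]⟩,⟨3,[]⟩,⟨7,[(0,true),(4,true)]⟩,⟨2,[(0,false),(2,false),(6,false)]⟩,⟨13,[]⟩,⟨19,[]⟩,⟨29,[(1,false),(0,false)]⟩,⟨0,[(0,true),(2,false),(3,false),(0,true)]⟩,⟨17,[(0,true),(0,true)]⟩,⟨25,[]⟩,⟨10,[(0,false)]⟩,⟨1,[(3,false),(0,false)]⟩,⟨1,[(0,false)]⟩,⟨6,[(0,false),(1,false),(1,false),(0,false)]⟩,⟨0,[]⟩],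
    [[⟨9,[(1,false),(3,false),(0,true)]⟩,⟨4,[(5,true)]⟩,⟨3,[(0,false)]⟩,⟨10,[(5,false),(3,false)]⟩,⟨4,[(1,true)]⟩,⟨5,[(1,true),(2,false),(1,true)]⟩,⟨10,[(4,false),(2,true),(1,true)]⟩,⟨10,[(2,true),(1,false),(2,true),(0,false)]⟩,⟨13,[(2,true),(1,false)]⟩,⟨15,[(2,false),(1,false),(2,true),(1,false)]⟩,⟨3,[(1,false),(1,false),(2,true),(1,false)]⟩,⟨8,[(1,false),(2,true)]⟩,⟨10,[(4,true),(0,false)]⟩,⟨0,[]⟩,⟨8,[(3,true),(3,true)]⟩,⟨9,[]⟩],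
    [⟨10,[(1,false),(1,false)]⟩,⟨2,[]⟩,⟨3,[]⟩,⟨8,[(2,false),(1,false),(1,false)]⟩,⟨15,[(2,false),(5,false),(4,true)]⟩,⟨1,[]⟩,⟨8,[(2,false),(1,true)]⟩,⟨20,[(0,false)]⟩,⟨18,[(2,false),(1,true),(0,true)]⟩,⟨13,[]⟩,⟨15,[(2,false),(1,false),(2,true),(1,false)]⟩,⟨1,[(1,true),(1,true),(1,true)]⟩,⟨1,[(0,false)]⟩,⟨7,[(3,false),(2,true)]⟩,⟨6,[(4,false),(1,true)]⟩,⟨0,[]⟩],
    [⟨10,[(1,false),(5,true),(2,true)]⟩,⟨2,[]⟩,⟨3,[]⟩,⟨8,[(2,false),(1,false),(1,false)]⟩,⟨13,[(2,true),(0,false)]⟩,⟨19,[]⟩,⟨12,[]⟩,⟨11,[(5,false),(3,false)]⟩,⟨21,[(3,true),(1,true)]⟩,⟨21,[(0,true),(1,false),(0,true)]⟩,⟨21,[(0,true),(1,false),(0,true)]⟩,⟨23,[(3,true),(4,true),(0,false)]⟩,⟨4,[(2,true),(1,false)]⟩,⟨5,[(1,true),(2,false),(1,true)]⟩,⟨10,[(4,false),(2,true),(1,true)]⟩,⟨0,[]⟩],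
    [⟨10,[(0,true),(3,true),(1,true)]⟩,⟨2,[]⟩,⟨3,[]⟩,⟨11,[(1,true),(2,false),(2,false)]⟩,⟨20,[(3,false)]⟩,⟨20,[(0,false),(1,true),(0,false)]⟩,⟨20,[(0,false),(1,true),(0,false)]⟩,⟨8,[(2,true),(0,true)]⟩,⟨24,[(3,true),(4,true),(1,true)]⟩,⟨24,[(1,true),(4,false)]⟩,⟨24,[(1,true),(4,false)]⟩,⟨7,[(3,false),(0,false)]⟩,⟨12,[(0,false),(1,true),(0,false)]⟩,⟨11,[(2,false),(1,false)]⟩,⟨7,[(5,true),(2,false)]⟩,⟨0,[]⟩],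
    [⟨10,[(3,true),(0,false),(1,false)]⟩,⟨2,[]⟩,⟨3,[]⟩,⟨11,[(1,true),(2,true)]⟩,⟨20,[(1,false)]⟩,⟨20,[(0,false),(1,true),(0,false)]⟩,⟨20,[(0,false),(1,true),(0,false)]⟩,⟨24,[(1,false),(3,false),(0,false)]⟩,⟨26,[(2,true)]⟩,⟨0,[]⟩,⟨15,[(5,true),(0,true),(0,true)]⟩,⟨0,[(2,true),(1,false),(0,false),(1,false)]⟩,⟨12,[(0,true),(0,true),(1,false)]⟩,⟨11,[(2,false),(1,false)]⟩,⟨7,[(5,true),(2,false)]⟩,⟨0,[]⟩],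
    [⟨10,[(0,true),(1,false),(4,false)]⟩,⟨2,[]⟩,⟨3,[]⟩,⟨11,[(1,true),(2,true)]⟩,⟨4,[(0,true)]⟩,⟨5,[(1,true),(2,false),(1,true)]⟩,⟨10,[(4,false),(2,true),(1,true)]⟩,⟨10,[(1,true),(1,true),(0,false)]⟩,⟨20,[(3,true),(0,true)]⟩,⟨20,[(0,false),(1,true),(0,false)]⟩,⟨20,[(0,false),(1,true),(0,false)]⟩,⟨18,[(4,false),(3,false)]⟩,⟨19,[(0,false)]⟩,⟨12,[]⟩,⟨4,[]⟩,⟨0,[]⟩]]⟩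

/-- generators of the centraliser of `wD` and their expressions -/
def dGen : List (List ℕ × List ℕ × ℕ × Bool × Wit) :=
  [([2,1,2,0,2,1,2,0], [], 4, true, ⟨[⟨0,[(8,false),(4,false),(2,false),(4,false),(0,false)]⟩,⟨2,[]⟩,⟨3,[]⟩,⟨7,[(1,true),(0,false)]⟩,⟨2,[(1,true),(0,true)]⟩,⟨13,[]⟩,⟨19,[]⟩,⟨29,[(3,false),(0,true)]⟩,⟨0,[(2,false),(0,true),(0,true),(3,false),(0,false),(0,false)]⟩,⟨17,[(0,true),(0,true)]⟩,⟨25,[]⟩,⟨16,[(0,false),(0,false)]⟩,⟨12,[(0,false)]⟩,⟨4,[]⟩,⟨0,[(0,false),(1,false)]⟩,⟨4,[(4,true),(0,true)]⟩,⟨2,[]⟩,⟨0,[(0,false)]⟩,⟨1,[]⟩,⟨0,[]⟩],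
    [[⟨8,[(4,true),(0,false),(2,true),(0,false)]⟩,⟨5,[(0,false)]⟩,⟨6,[]⟩,⟨7,[(4,true),(2,true)]⟩,⟨6,[(4,false)]⟩,⟨12,[(4,false),(2,true)]⟩,⟨22,[]⟩,⟨29,[(0,false),(0,false)]⟩,⟨0,[(0,true),(0,true),(3,false),(0,false),(0,false)]⟩,⟨17,[(0,true),(0,true)]⟩,⟨25,[]⟩,⟨16,[(0,false),(0,false)]⟩,⟨1,[]⟩,⟨7,[(3,false),(2,true)]⟩,⟨6,[(5,false)]⟩,⟨12,[(4,false),(2,true)]⟩,⟨22,[]⟩,⟨1,[]⟩,⟨2,[]⟩,⟨0,[(0,false)]⟩],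
    [⟨4,[(2,true),(0,false),(0,false)]⟩,⟨2,[]⟩,⟨0,[(0,false)]⟩,⟨8,[(5,true),(0,true),(4,true)]⟩,⟨6,[(5,false),(1,false),(0,false)]⟩,⟨12,[(4,false),(2,true)]⟩,⟨22,[]⟩,⟨29,[]⟩,⟨0,[(0,true),(0,true),(3,false),(0,false),(0,false)]⟩,⟨17,[(0,true),(0,true)]⟩,⟨25,[]⟩,⟨16,[(0,false),(0,false)]⟩,⟨1,[]⟩,⟨7,[(3,false),(2,true)]⟩,⟨0,[(1,false),(0,false)]⟩,⟨8,[(2,false),(0,true),(2,false)]⟩,⟨5,[(0,false)]⟩,⟨6,[]⟩,⟨5,[(3,false),(1,false)]⟩,⟨0,[(0,false)]⟩],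
    [⟨10,[(0,true),(3,false),(0,false)]⟩,⟨2,[]⟩,⟨3,[]⟩,⟨11,[(1,false),(2,false)]⟩,⟨20,[(2,false),(2,false),(0,false)]⟩,⟨20,[(0,false),(1,true),(0,false)]⟩,⟨20,[(0,false),(1,true),(0,false)]⟩,⟨29,[(1,false)]⟩,⟨0,[(0,true),(1,false),(1,false),(0,false)]⟩,⟨17,[(0,true),(0,true)]⟩,⟨25,[]⟩,⟨16,[(0,false),(0,false)]⟩,⟨21,[(4,false),(3,true)]⟩,⟨21,[(0,true),(1,false),(0,true)]⟩,⟨5,[(4,false),(0,false)]⟩,⟨6,[(1,false)]⟩,⟨11,[(2,true),(1,false)]⟩,⟨3,[]⟩,⟨5,[]⟩,⟨0,[(0,false)]⟩],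
    [⟨5,[(2,false),(1,false),(0,false)]⟩,⟨3,[(0,false)]⟩,⟨1,[(0,false),(0,false),(0,false)]⟩,⟨11,[(1,false),(3,true)]⟩,⟨7,[(2,true)]⟩,⟨11,[(4,false),(0,false),(5,false),(0,false)]⟩,⟨27,[(1,false)]⟩,⟨4,[(2,false)]⟩,⟨23,[(0,true),(4,false)]⟩,⟨23,[(4,true),(1,false)]⟩,⟨23,[(4,true),(1,false)]⟩,⟨23,[(4,true),(1,false)]⟩,⟨28,[(0,true),(0,true),(1,false)]⟩,⟨4,[(1,false),(1,false),(2,true),(1,false)]⟩,⟨5,[(4,true)]⟩,⟨6,[(1,false)]⟩,⟨11,[(2,true),(1,false)]⟩,⟨3,[]⟩,⟨5,[]⟩,⟨0,[(0,false)]⟩],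
    [⟨10,[(3,false),(0,true),(4,true),(0,false)]⟩,⟨2,[]⟩,⟨3,[]⟩,⟨8,[(2,false),(1,false)]⟩,⟨15,[(4,true),(0,false),(1,false)]⟩,⟨1,[]⟩,⟨8,[(2,false),(1,true)]⟩,⟨29,[(1,false)]⟩,⟨0,[(3,false),(0,true),(3,false),(0,true)]⟩,⟨17,[(0,true),(0,true)]⟩,⟨25,[]⟩,⟨16,[(0,false),(0,false)]⟩,⟨26,[]⟩,⟨0,[]⟩,⟨8,[(2,false),(5,false),(1,false),(0,false)]⟩,⟨13,[(2,false),(2,false),(1,false)]⟩,⟨9,[(2,false),(1,false)]⟩,⟨8,[(2,true),(1,false),(2,true)]⟩,⟨1,[(0,false)]⟩,⟨9,[(5,false)]⟩],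
    [⟨4,[(2,true),(0,false),(3,false),(0,false)]⟩,⟨2,[]⟩,⟨0,[(0,false)]⟩,⟨8,[(0,false),(1,true),(5,true),(0,false)]⟩,⟨6,[(5,false),(1,false),(0,false)]⟩,⟨12,[(4,false),(2,true)]⟩,⟨22,[]⟩,⟨29,[(1,true)]⟩,⟨0,[(0,true),(2,false),(1,false),(1,false),(0,false)]⟩,⟨17,[(0,true),(0,true)]⟩,⟨25,[]⟩,⟨16,[(0,false),(0,false)]⟩,⟨1,[]⟩,⟨7,[(3,false),(2,true)]⟩,⟨0,[(1,false),(0,false)]⟩,⟨8,[(2,false),(0,true),(2,false)]⟩,⟨5,[(0,false)]⟩,⟨6,[]⟩,⟨5,[(5,true),(1,false)]⟩,⟨0,[(0,false)]⟩]]⟩),([1,2,0,2,1,3,0,3,2,1,2,0,2,2,1,3,0,2,1,2,0,2,1,2,0,1,2,0,2,1,3,0,3,2,1,2,0,2,2,1,3,0], [1,2,3,3,1,2,0,2], 147, true, ⟨[⟨0,[(8,false),(4,false),(2,false),(4,false),(0,false)]⟩,⟨2,[]⟩,⟨3,[]⟩,⟨7,[(1,true),(0,false)]⟩,⟨2,[(1,true),(0,true)]⟩,⟨13,[]⟩,⟨19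,[]⟩,⟨29,[(3,false),(0,true)]⟩,⟨0,[(2,true),(1,false),(0,true),(0,true)]⟩,⟨17,[(0,true),(0,true)]⟩,⟨25,[]⟩,⟨16,[(0,false),(0,false)]⟩,⟨12,[(0,false)]⟩,⟨4,[]⟩,⟨3,[(0,false),(4,true),(0,true)]⟩,⟨15,[]⟩,⟨2,[(2,true),(1,false),(0,false)]⟩,⟨14,[(2,true),(1,false),(0,false)]⟩,⟨16,[(0,true)]⟩,⟨29,[(0,false),(0,false)]⟩,⟨0,[(0,true),(5,false),(2,false),(3,false),(0,false)]⟩,⟨17,[(0,true),(0,true)]⟩,⟨25,[]⟩,⟨10,[(0,false)]⟩,⟨3,[(1,true),(0,true),(0,true)]⟩,⟨15,[]⟩,⟨2,[(2,true),(1,false),(0,false)]⟩,⟨14,[(2,true),(1,false),(0,false)]⟩,⟨16,[(1,false),(0,false)]⟩,⟨29,[(0,false),(0,false)]⟩,⟨0,[(1,false),(0,true),(4,false),(3,false),(0,false),(0,false)]⟩,⟨17,[(0,true),(0,true)]⟩,⟨25,[]⟩,⟨16,[(0,false),(0,false)]⟩,⟨12,[(0,false)]⟩,⟨4,[]⟩,⟨0,[(0,false),(0,false)]⟩,⟨4,[(4,true),(0,true)]⟩,⟨2,[]⟩,⟨0,[(0,false)]⟩,⟨1,[]⟩,⟨0,[]⟩],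
    [[⟨8,[(4,true),(0,false),(2,true),(0,false)]⟩,⟨5,[(0,false)]⟩,⟨6,[]⟩,⟨7,[(4,true),(2,true)]⟩,⟨6,[(4,false)]⟩,⟨12,[(4,false),(2,true)]⟩,⟨22,[]⟩,⟨29,[(0,false),(0,false)]⟩,⟨1,[(0,true),(3,false),(0,true),(0,true)]⟩,⟨1,[(1,false),(0,false),(4,false),(0,true)]⟩,⟨1,[(1,false),(0,false),(4,false),(0,true)]⟩,⟨1,[(1,false),(0,false),(4,false),(0,true)]⟩,⟨0,[(3,false)]⟩,⟨17,[(0,true),(0,true)]⟩,⟨24,[(0,false),(1,true)]⟩,⟨24,[(1,true),(4,false)]⟩,⟨24,[(1,true),(4,false)]⟩,⟨24,[(1,true),(4,false)]⟩,⟨24,[(0,false)]⟩,⟨24,[(1,true),(4,false)]⟩,⟨11,[(2,true)]⟩,⟨7,[(5,true),(2,false)]⟩,⟨9,[]⟩,⟨8,[(1,true),(1,true),(0,false)]⟩,⟨7,[(3,false),(2,false),(1,false),(0,false)]⟩,⟨9,[]⟩,⟨4,[(2,false),(2,false),(1,false)]⟩,⟨12,[(5,false),(2,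true)]⟩,⟨23,[(1,true),(0,false)]⟩,⟨23,[(4,true),(1,false)]⟩,⟨13,[(2,true),(2,true)]⟩,⟨15,[(2,false),(1,false),(2,true),(1,false)]⟩,⟨3,[(1,false),(1,false),(2,true),(1,false)]⟩,⟨14,[(3,false),(0,false),(1,false),(0,false)]⟩,⟨26,[(1,false),(1,false)]⟩,⟨0,[]⟩,⟨9,[(0,false),(1,false),(0,true)]⟩,⟨8,[(4,true),(3,false)]⟩,⟨13,[(2,false),(2,false),(1,false)]⟩,⟨9,[(2,false),(1,false)]⟩,⟨1,[]⟩,⟨0,[]⟩],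
    [⟨4,[(2,true),(0,false),(0,false)]⟩,⟨2,[]⟩,⟨0,[(0,false)]⟩,⟨8,[(5,true),(0,true),(4,true)]⟩,⟨6,[(5,false),(1,false),(0,false)]⟩,⟨12,[(4,false),(2,true)]⟩,⟨22,[]⟩,⟨29,[]⟩,⟨0,[(0,false),(1,false),(0,true),(1,true)]⟩,⟨17,[(0,true),(0,true)]⟩,⟨25,[]⟩,⟨16,[(0,false),(0,false)]⟩,⟨17,[(2,false),(0,false)]⟩,⟨25,[]⟩,⟨23,[(2,true),(0,true)]⟩,⟨23,[(4,true),(1,false)]⟩,⟨23,[(4,true),(1,false)]⟩,⟨23,[(4,true),(1,false)]⟩,⟨23,[(0,true)]⟩,⟨23,[(4,true),(1,false)]⟩,⟨11,[(4,false)]⟩,⟨7,[(5,true),(2,false)]⟩,⟨9,[]⟩,⟨8,[(0,false),(1,false),(1,false)]⟩,⟨11,[(2,true),(5,false),(2,true)]⟩,⟨27,[(1,false)]⟩,⟨5,[(2,false),(1,false)]⟩,⟨2,[]⟩,⟨28,[(3,true),(2,true)]⟩,⟨4,[(1,false),(1,false),(2,true),(1,false)]⟩,⟨21,[(3,true),(4,true)]⟩,⟨21,[(0,true),(1,false),(0,true)]⟩,⟨21,[(0,true),(1,false),(0,true)]⟩,⟨21,[(0,true),(1,false),(0,true)]⟩,⟨9,[(0,false)]⟩,⟨8,[(2,true),(1,false),(2,true)]⟩,⟨8,[(0,true),(1,false)]⟩,⟨13,[(2,false),(2,false),(1,false)]⟩,⟨9,[(2,false),(1,false)]⟩,⟨8,[(2,true),(1,false),(2,true)]⟩,⟨1,[(0,false)]⟩,⟨9,[(5,false)]⟩],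
    [⟨10,[(0,true),(3,false),(0,false)]⟩,⟨2,[]⟩,⟨3,[]⟩,⟨11,[(1,false),(2,false)]⟩,⟨20,[(2,false),(2,false),(0,false)]⟩,⟨20,[(0,false),(1,true),(0,false)]⟩,⟨20,[(0,false),(1,true),(0,false)]⟩,⟨29,[(1,false)]⟩,⟨0,[(0,false),(2,true),(0,true),(2,false)]⟩,⟨17,[(0,true),(0,true)]⟩,⟨25,[]⟩,⟨16,[(0,false),(0,false)]⟩,⟨26,[(2,true),(1,false)]⟩,⟨0,[]⟩,⟨8,[(0,true)]⟩,⟨13,[(2,false),(2,false),(1,false)]⟩,⟨9,[(2,false),(1,false)]⟩,⟨8,[(2,true),(1,false),(2,true)]⟩,⟨8,[(4,true),(0,true),(1,false)]⟩,⟨13,[(2,false),(2,false),(1,false)]⟩,⟨11,[(2,true)]⟩,⟨7,[(5,true),(2,false)]⟩,⟨9,[]⟩,⟨8,[(2,false),(1,true),(0,false)]⟩,⟨11,[(2,true),(0,false),(3,false),(0,true)]⟩,⟨27,[(1,false)]⟩,⟨5,[(2,false),(1,false)]⟩,⟨2,[]⟩,⟨16,[]⟩,⟨29,[(0,false),(0,false)]⟩,⟨0,[(1,true),(0,true),(4,false),(1,false)]⟩,⟨17,[(0,true),(0,true)]⟩,⟨25,[]⟩,⟨16,[(0,false),(0,false)]⟩,⟨26,[(1,false),(1,false)]⟩,⟨0,[]⟩,⟨8,[(3,false),(1,false)]⟩,⟨13,[(2,false),(2,false),(1,false)]⟩,⟨9,[(2,false),(1,false)]⟩,⟨8,[(2,true),(1,false),(2,true)]⟩,⟨1,[(0,false)]⟩,⟨9,[(5,false)]⟩],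
    [⟨5,[(2,false),(1,false),(0,false)]⟩,⟨3,[(0,false)]⟩,⟨1,[(0,false),(0,false),(0,false)]⟩,⟨11,[(1,false),(3,true)]⟩,⟨7,[(2,true)]⟩,⟨11,[(4,false),(0,false),(5,false),(0,false)]⟩,⟨27,[(1,false)]⟩,⟨4,[(2,false)]⟩,⟨6,[(1,false),(4,true)]⟩,⟨7,[(2,true),(0,false),(1,false),(0,false)]⟩,⟨12,[(1,false),(2,false)]⟩,⟨28,[(4,true),(2,false)]⟩,⟨2,[(0,false),(1,false),(0,true)]⟩,⟨7,[(1,true)]⟩,⟨11,[(0,false),(1,true),(0,false)]⟩,⟨27,[(1,false)]⟩,⟨5,[(2,false),(1,false)]⟩,⟨2,[]⟩,⟨24,[(4,false),(3,true),(0,true)]⟩,⟨24,[(1,true),(4,false)]⟩,⟨20,[(2,false),(4,false)]⟩,⟨20,[(0,false),(1,true),(0,false)]⟩,⟨20,[(0,false),(1,true),(0,false)]⟩,⟨7,[(4,false),(0,true)]⟩,⟨9,[(1,true),(2,false)]⟩,⟨8,[(4,true),(3,false)]⟩,⟨13,[(2,false),(2,false),(1,false)]⟩,⟨9,[(2,false),(1,false)]⟩,⟨14,[(2,true)]⟩,⟨18,[(4,true),(2,false)]⟩,⟨7,[]⟩,⟨11,[(4,false),(0,false),(5,false),(0,false)]⟩,⟨27,[(1,false)]⟩,⟨5,[(2,false),(1,false)]⟩,⟨2,[(0,false),(1,false),(2,false)]⟩,⟨7,[(1,true)]⟩,⟨0,[(1,false),(0,false)]⟩,⟨8,[(2,false),(0,true),(2,false)]⟩,⟨5,[(0,false)]⟩,⟨6,[]⟩,⟨5,[(5,true),(1,false)]⟩,⟨0,[(0,false)]⟩],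
    [⟨10,[(3,false),(0,true),(4,true),(0,false)]⟩,⟨2,[]⟩,⟨3,[]⟩,⟨8,[(2,false),(1,false)]⟩,⟨15,[(4,true),(0,false),(1,false)]⟩,⟨1,[]⟩,⟨8,[(2,false),(1,true)]⟩,⟨29,[(1,false)]⟩,⟨0,[(2,true),(1,true),(0,false),(0,false)]⟩,⟨17,[(0,true),(0,true)]⟩,⟨25,[]⟩,⟨16,[(0,false),(0,false)]⟩,⟨1,[]⟩,⟨7,[(3,false),(2,true)]⟩,⟨11,[(2,true),(1,true),(0,false)]⟩,⟨27,[(1,false)]⟩,⟨5,[(2,false),(1,false)]⟩,⟨2,[]⟩,⟨24,[(0,false),(3,false)]⟩,⟨24,[(1,true),(4,false)]⟩,⟨1,[]⟩,⟨7,[(3,false),(2,true)]⟩,⟨6,[(4,false),(1,true)]⟩,⟨8,[(4,true),(1,true),(0,false)]⟩,⟨13,[(1,false),(5,false),(2,false)]⟩,⟨5,[]⟩,⟨6,[(1,false)]⟩,⟨11,[(2,true),(1,false)]⟩,⟨28,[(1,false),(4,false),(0,false)]⟩,⟨4,[(1,false),(1,false),(2,true),(1,false)]⟩,⟨18,[(3,false),(1,false),(0,false)]⟩,⟨13,[]⟩,⟨15,[(2,false),(1,false),(2,true),(1,false)]⟩,⟨3,[(1,false),(1,false),(2,true),(1,false)]⟩,⟨11,[(1,true),(1,true)]⟩,⟨3,[]⟩,⟨6,[(1,true)]⟩,⟨5,[(1,false),(0,false)]⟩,⟨0,[(0,false)]⟩,⟨8,[(2,false),(0,true),(2,false)]⟩,⟨1,[]⟩,⟨9,[(5,false)]⟩],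
    [⟨4,[(2,true),(0,false),(3,false),(0,false)]⟩,⟨2,[]⟩,⟨0,[(0,false)]⟩,⟨8,[(0,false),(1,true),(5,true),(0,false)]⟩,⟨6,[(5,false),(1,false),(0,false)]⟩,⟨12,[(4,false),(2,true)]⟩,⟨22,[]⟩,⟨29,[(1,true)]⟩,⟨0,[(2,true),(1,false)]⟩,⟨17,[(0,true),(0,true)]⟩,⟨25,[]⟩,⟨16,[(0,false),(0,false)]⟩,⟨21,[(3,true),(4,true),(1,true)]⟩,⟨21,[(0,true),(1,false),(0,true)]⟩,⟨24,[(4,true),(3,false),(1,true)]⟩,⟨24,[(1,true),(4,false)]⟩,⟨24,[(1,true),(4,false)]⟩,⟨24,[(1,true),(4,false)]⟩,⟨20,[(2,true),(0,false)]⟩,⟨20,[(0,false),(1,true),(0,false)]⟩,⟨8,[(4,true),(3,false)]⟩,⟨26,[(0,true),(2,false),(0,false)]⟩,⟨0,[]⟩,⟨2,[(1,true),(0,false)]⟩,⟨11,[(3,false),(1,true),(0,true)]⟩,⟨27,[(1,false)]⟩,⟨5,[(2,false),(1,false)]⟩,⟨2,[]⟩,⟨28,[(4,true),(1,fa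lse)]⟩,⟨4,[(1,false),(1,false),(2,true),(1,false)]⟩,⟨21,[(4,true),(3,true)]⟩,⟨21,[(0,true),(1,false),(0,true)]⟩,⟨21,[(0,true),(1,false),(0,true)]⟩,⟨21,[(0,true),(1,false),(0,true)]⟩,⟨9,[(0,false)]⟩,⟨8,[(2,true),(1,false),(2,true)]⟩,⟨8,[(0,true),(1,false)]⟩,⟨13,[(2,false),(2,false),(1,false)]⟩,⟨9,[(2,false),(1,false)]⟩,⟨8,[(2,true),(1,false),(2,true)]⟩,⟨1,[(0,false)]⟩,⟨9,[(5,false)]⟩]]⟩),([1,2,0,2,1,3,0,3,2,1,2,0,2,1,2,0,1,2,0,2,1,3,0,3,2,1,2,0,2,2,1,3,0,2,1,2,0,2,2,1,3,0,2,1,2,0,2,2,1,3,0], [0,1,0,0,3,0,1,3], 227, false, ⟨[⟨0,[(8,false),(4,false),(2,false),(4,false),(0,false)]⟩,⟨2,[]⟩,⟨3,[]⟩,⟨7,[(1,true),(0,false)]⟩,⟨2,[(1,true),(0,true)]⟩,⟨13,[]⟩,⟨19,[]⟩,⟨29,[(3,false),(0,true)]⟩,⟨0,[(1,false),(1,false),(0,false),(5,fal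se),(0,false)]⟩,⟨17,[(0,true),(0,true)]⟩,⟨25,[]⟩,⟨16,[(0,false),(0,false)]⟩,⟨12,[(0,false)]⟩,⟨4,[]⟩,⟨3,[(2,true),(0,false),(0,false)]⟩,⟨15,[]⟩,⟨2,[(2,true),(1,false),(0,false)]⟩,⟨14,[(2,true),(1,false),(0,false)]⟩,⟨16,[(2,false),(0,false)]⟩,⟨29,[(0,false),(0,false)]⟩,⟨0,[(1,false),(5,false),(0,false),(1,true),(0,true)]⟩,⟨17,[(0,true),(0,true)]⟩,⟨25,[]⟩,⟨10,[(0,false)]⟩,⟨3,[(0,true),(1,true),(2,false)]⟩,⟨15,[]⟩,⟨2,[(2,true),(1,false),(0,false)]⟩,⟨14,[(2,true),(1,false),(0,false)]⟩,⟨16,[(0,false)]⟩,⟨29,[(0,false),(0,false)]⟩,⟨0,[(0,true),(3,false),(0,false),(2,false)]⟩,⟨17,[(0,true),(0,true)]⟩,⟨25,[]⟩,⟨16,[(0,false),(0,false)]⟩,⟨12,[(0,false)]⟩,⟨4,[]⟩,⟨0,[(1,false),(1,false)]⟩,⟨4,[(4,true),(0,true)]⟩,⟨2,[]⟩,⟨0,[(0,false)]⟩,⟨1,[]⟩,⟨0,[]⟩],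
    [[⟨8,[(4,true),(0,false),(2,true),(0,false)]⟩,⟨5,[(0,false)]⟩,⟨6,[]⟩,⟨7,[(4,true),(2,true)]⟩,⟨6,[(4,false)]⟩,⟨12,[(4,false),(2,true)]⟩,⟨22,[]⟩,⟨29,[(0,false),(0,false)]⟩,⟨0,[(1,false),(1,false),(1,false)]⟩,⟨17,[(0,true),(0,true)]⟩,⟨25,[]⟩,⟨16,[(0,false),(0,false)]⟩,⟨21,[(1,false)]⟩,⟨21,[(0,true),(1,false),(0,true)]⟩,⟨24,[(2,false),(4,false),(3,true)]⟩,⟨24,[(1,true),(4,false)]⟩,⟨24,[(1,true),(4,false)]⟩,⟨24,[(1,true),(4,false)]⟩,⟨20,[(2,true),(0,false)]⟩,⟨20,[(0,false),(1,true),(0,false)]⟩,⟨8,[(3,false)]⟩,⟨26,[(0,true),(2,false),(0,false)]⟩,⟨0,[]⟩,⟨2,[(1,true),(0,false)]⟩,⟨11,[(0,false),(3,false),(2,true)]⟩,⟨27,[(1,false)]⟩,⟨5,[(2,false),(1,false)]⟩,⟨2,[]⟩,⟨28,[(4,false),(0,true),(0,true)]⟩,⟨4,[(1,false),(1,false),(2,true),(1,false)]⟩,⟨18,[(1,true),(0,false),(0,false)]⟩,⟨13,[]⟩,⟨15,[(2,false),(1,false),(2,true),(1,false)]⟩,⟨3,[(1,false),(1,false),(2,true),(1,false)]⟩,⟨4,[(2,true),(2,true),(1,true)]⟩,⟨12,[(5,false),(2,true)]⟩,⟨0,[(0,false)]⟩,⟨8,[(3,true),(3,true)]⟩,⟨11,[(4,false),(2,true)]⟩,⟨2,[]⟩,⟨1,[(1,false),(0,false)]⟩,⟨9,[(5,false)]⟩],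
    [⟨4,[(2,true),(0,false),(0,false)]⟩,⟨2,[]⟩,⟨0,[(0,false)]⟩,⟨8,[(5,true),(0,true),(4,true)]⟩,⟨6,[(5,false),(1,false),(0,false)]⟩,⟨12,[(4,false),(2,true)]⟩,⟨22,[]⟩,⟨29,[]⟩,⟨0,[(0,true),(3,false),(0,false)]⟩,⟨17,[(0,true),(0,true)]⟩,⟨25,[]⟩,⟨16,[(0,false),(0,false)]⟩,⟨20,[(4,false),(1,true)]⟩,⟨20,[(0,false),(1,true),(0,false)]⟩,⟨23,[(1,false),(1,false)]⟩,⟨23,[(4,true),(1,false)]⟩,⟨23,[(4,true),(1,false)]⟩,⟨23,[(4,true),(1,false)]⟩,⟨21,[(3,true),(2,true),(0,false)]⟩,⟨21,[(0,true),(1,false),(0,true)]⟩,⟨26,[(2,false),(2,false)]⟩,⟨0,[]⟩,⟨15,[(5,true),(0,true),(0,true)]⟩,⟨0,[(2,true),(2,true),(0,true)]⟩,⟨7,[(3,false),(1,false)]⟩,⟨9,[]⟩,⟨4,[(2,false),(2,false),(1,false)]⟩,⟨12,[(5,false),(2,true)]⟩,⟨24,[(3,true),(4,true),(0,false)]⟩,⟨24,[(1,true),(4,false)]⟩,⟨9,[(2,true),(1,false)]⟩,⟨8,[(2,true),(1,false),(2,true)]⟩,⟨9,[(0,false),(5,false),(0,false)]⟩,⟨8,[(4,true),(3,false)]⟩,⟨9,[(0,false),(2,false)]⟩,⟨4,[(2,false),(2,false),(1,false)]⟩,⟨9,[(5,false),(0,true),(1,false)]⟩,⟨8,[(4,true),(3,false)]⟩,⟨13,[(2,false),(2,false),(1,false)]⟩,⟨9,[(2,false),(1,false)]⟩,⟨1,[]⟩,⟨0,[]⟩],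
    [⟨10,[(0,true),(3,false),(0,false)]⟩,⟨2,[]⟩,⟨3,[]⟩,⟨11,[(1,false),(2,false)]⟩,⟨20,[(2,false),(2,false),(0,false)]⟩,⟨20,[(0,false),(1,true),(0,false)]⟩,⟨20,[(0,false),(1,true),(0,false)]⟩,⟨29,[(1,false)]⟩,⟨0,[(2,true),(0,false),(3,false),(0,false)]⟩,⟨17,[(0,true),(0,true)]⟩,⟨25,[]⟩,⟨16,[(0,false),(0,false)]⟩,⟨21,[(3,true),(4,true),(1,true)]⟩,⟨21,[(0,true),(1,false),(0,true)]⟩,⟨24,[(2,true),(1,false)]⟩,⟨24,[(1,true),(4,false)]⟩,⟨24,[(1,true),(4,false)]⟩,⟨24,[(1,true),(4,false)]⟩,⟨7,[(1,true),(0,false)]⟩,⟨11,[(4,false),(0,false),(5,false),(0,false)]⟩,⟨4,[(4,false),(1,false),(0,false)]⟩,⟨5,[(1,true),(2,false),(1,true)]⟩,⟨10,[(4,false),(2,true),(1,true)]⟩,⟨0,[]⟩,⟨9,[(3,false),(0,true),(0,true)]⟩,⟨4,[(5,true)]⟩,⟨3,[(0,fal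se)]⟩,⟨1,[(0,false)]⟩,⟨10,[(1,true),(4,false),(2,true),(0,false)]⟩,⟨10,[(1,false),(2,true),(1,false)]⟩,⟨24,[(4,false),(1,true),(0,false)]⟩,⟨24,[(1,true),(4,false)]⟩,⟨24,[(1,true),(4,false)]⟩,⟨24,[(1,true),(4,false)]⟩,⟨7,[(1,true),(0,false)]⟩,⟨11,[(4,false),(0,false),(5,false),(0,false)]⟩,⟨15,[]⟩,⟨2,[(2,true),(1,false),(0,false)]⟩,⟨14,[(2,true),(1,false),(0,false)]⟩,⟨10,[]⟩,⟨1,[(3,true),(0,false)]⟩,⟨1,[(0,false)]⟩],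
    [⟨5,[(2,false),(1,false),(0,false)]⟩,⟨3,[(0,false)]⟩,⟨1,[(0,false),(0,false),(0,false)]⟩,⟨11,[(1,false),(3,true)]⟩,⟨7,[(2,true)]⟩,⟨11,[(4,false),(0,false),(5,false),(0,false)]⟩,⟨27,[(1,false)]⟩,⟨4,[(2,false)]⟩,⟨5,[(3,true),(1,false)]⟩,⟨6,[(1,false)]⟩,⟨11,[(2,true),(1,false)]⟩,⟨3,[]⟩,⟨5,[]⟩,⟨0,[(0,false)]⟩,⟨9,[(0,false),(3,false),(0,false)]⟩,⟨4,[(5,true)]⟩,⟨3,[(0,false)]⟩,⟨1,[(0,false)]⟩,⟨10,[(1,true),(2,true),(3,true),(0,false)]⟩,⟨10,[(1,false),(2,true),(1,false)]⟩,⟨21,[(4,false),(3,true),(0,true)]⟩,⟨21,[(0,true),(1,false),(0,true)]⟩,⟨21,[(0,true),(1,false),(0,true)]⟩,⟨18,[(2,true),(1,false)]⟩,⟨24,[]⟩,⟨24,[(1,true),(4,false)]⟩,⟨24,[(1,true),(4,false)]⟩,⟨24,[(1,true),(4,false)]⟩,⟨24,[(3,true),(4,true),(0,false)]⟩,⟨24,[(1,true),(4,false)]⟩,⟨26,[(2,true)]⟩,⟨0,[]⟩,⟨15,[(5,true),(0,true),(0,true)]⟩,⟨1,[]⟩,⟨21,[(3,true),(1,true),(0,true)]⟩,⟨21,[(0,true),(1,false),(0,true)]⟩,⟨3,[(2,false)]⟩,⟨13,[(5,false),(1,true),(0,true),(0,true)]⟩,⟨5,[]⟩,⟨6,[(1,false)]⟩,⟨1,[]⟩,⟨0,[]⟩],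
    [⟨10,[(3,false),(0,true),(4,true),(0,false)]⟩,⟨2,[]⟩,⟨3,[]⟩,⟨8,[(2,false),(1,false)]⟩,⟨15,[(4,true),(0,false),(1,false)]⟩,⟨1,[]⟩,⟨8,[(2,false),(1,true)]⟩,⟨29,[(1,false)]⟩,⟨0,[(2,true),(0,true),(2,false),(0,false)]⟩,⟨17,[(0,true),(0,true)]⟩,⟨25,[]⟩,⟨16,[(0,false),(0,false)]⟩,⟨21,[(4,false),(3,true)]⟩,⟨21,[(0,true),(1,false),(0,true)]⟩,⟨9,[(1,false)]⟩,⟨8,[(2,true),(1,false),(2,true)]⟩,⟨9,[(0,false),(5,false),(0,false)]⟩,⟨8,[(4,true),(3,false)]⟩,⟨7,[(2,true),(1,false)]⟩,⟨12,[(1,false),(2,false)]⟩,⟨18,[(3,true),(1,false),(1,false)]⟩,⟨13,[]⟩,⟨15,[(2,false),(1,false),(2,true),(1,false)]⟩,⟨1,[(0,true),(0,true),(2,true)]⟩,⟨24,[(4,false),(3,false),(0,false)]⟩,⟨24,[(1,true),(4,false)]⟩,⟨24,[(1,true),(4,false)]⟩,⟨24,[(1,true),(4,false)]⟩,⟨16,[(0,false),(0,false)]⟩,⟨29,[(0,false),(0,false)]⟩,⟨0,[(1,false),(5,false),(3,false),(0,false),(0,false)]⟩,⟨17,[(0,true),(0,true)]⟩,⟨25,[]⟩,⟨16,[(0,false),(0,false)]⟩,⟨20,[(0,true),(2,false),(0,false)]⟩,⟨20,[(0,false),(1,true),(0,false)]⟩,⟨3,[]⟩,⟨13,[(5,false),(1,true),(0,true),(0,true)]⟩,⟨5,[]⟩,⟨6,[(1,false)]⟩,⟨1,[]⟩,⟨0,[]⟩],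
    [⟨4,[(2,true),(0,false),(3,false),(0,false)]⟩,⟨2,[]⟩,⟨0,[(0,false)]⟩,⟨8,[(0,false),(1,true),(5,true),(0,false)]⟩,⟨6,[(5,false),(1,false),(0,false)]⟩,⟨12,[(4,false),(2,true)]⟩,⟨22,[]⟩,⟨29,[(1,true)]⟩,⟨0,[(2,true),(1,true)]⟩,⟨17,[(0,true),(0,true)]⟩,⟨25,[]⟩,⟨16,[(0,false),(0,false)]⟩,⟨17,[(2,false),(0,false)]⟩,⟨25,[]⟩,⟨24,[(4,true),(1,false),(0,true)]⟩,⟨24,[(1,true),(4,false)]⟩,⟨24,[(1,true),(4,false)]⟩,⟨24,[(1,true),(4,false)]⟩,⟨24,[(3,true),(4,true),(0,false)]⟩,⟨24,[(1,true),(4,false)]⟩,⟨11,[(1,true)]⟩,⟨7,[(5,true),(2,false)]⟩,⟨9,[]⟩,⟨8,[(0,false),(1,false),(2,true)]⟩,⟨7,[(2,true),(1,false),(0,true)]⟩,⟨9,[]⟩,⟨4,[(2,false),(2,false),(1,false)]⟩,⟨12,[(5,false),(2,true)]⟩,⟨24,[(1,false),(1,false),(0,false)]⟩,⟨24,[(1,true),(4,false)]⟩,⟨23,[(3,false),(1,true)]⟩,⟨23,[(4,true),(1,false)]⟩,⟨23,[(4,true),(1,false)]⟩,⟨23,[(4,true),(1,false)]⟩,⟨21,[(1,true),(0,true)]⟩,⟨21,[(0,true),(1,false),(0,true)]⟩,⟨3,[(2,false)]⟩,⟨13,[(5,false),(1,true),(0,true),(0,true)]⟩,⟨5,[]⟩,⟨6,[(1,false)]⟩,⟨1,[]⟩,⟨0,[]⟩]]⟩),([2,4,2,0,2,2,0,4,2,2,4,2,4,2,4,0,4,3,1,3,3,3,4,3,4,3,1,3,3,4,3,1],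 [1,3,0,2,2], 87, false, ⟨[⟨0,[(8,false),(4,false),(2,false),(4,false),(0,false)]⟩,⟨2,[]⟩,⟨3,[]⟩,⟨7,[(1,true),(0,false)]⟩,⟨2,[(1,true),(0,true)]⟩,⟨13,[]⟩,⟨19,[]⟩,⟨29,[(3,false),(0,true)]⟩,⟨0,[(1,false),(1,false),(1,false),(0,true),(1,true)]⟩,⟨17,[(0,true),(0,true)]⟩,⟨25,[]⟩,⟨16,[(0,false),(0,false)]⟩,⟨16,[(2,false),(0,false)]⟩,⟨29,[(0,false),(0,false)]⟩,⟨0,[(0,false),(1,false),(0,true)]⟩,⟨17,[(0,true),(0,true)]⟩,⟨25,[]⟩,⟨16,[(0,false),(0,false)]⟩,⟨12,[(0,false)]⟩,⟨4,[]⟩,⟨0,[(4,false),(0,false),(0,false)]⟩,⟨4,[(4,true),(0,true)]⟩,⟨2,[]⟩,⟨0,[(0,false)]⟩,⟨1,[]⟩,⟨0,[]⟩],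
    [[⟨8,[(4,true),(0,false),(2,true),(0,false)]⟩,⟨5,[(0,false)]⟩,⟨6,[]⟩,⟨7,[(4,true),(2,true)]⟩,⟨6,[(4,false)]⟩,⟨12,[(4,false),(2,true)]⟩,⟨22,[]⟩,⟨29,[(0,false),(0,false)]⟩,⟨0,[(3,false),(1,false),(0,false)]⟩,⟨17,[(0,true),(0,true)]⟩,⟨25,[]⟩,⟨16,[(0,false),(0,false)]⟩,⟨21,[(1,false),(4,true)]⟩,⟨21,[(0,true),(1,false),(0,true)]⟩,⟨8,[(1,false)]⟩,⟨26,[(0,true),(2,false),(0,false)]⟩,⟨0,[]⟩,⟨15,[(5,true),(0,true),(0,true)]⟩,⟨3,[(0,false),(2,true),(2,true),(0,true)]⟩,⟨14,[(3,false),(0,false),(1,false),(0,false)]⟩,⟨0,[(1,false)]⟩,⟨8,[(3,true),(3,true)]⟩,⟨11,[(4,false),(2,true)]⟩,⟨2,[]⟩,⟨1,[(1,false),(0,false)]⟩,⟨9,[(5,false)]⟩],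
    [⟨4,[(2,true),(0,false),(0,false)]⟩,⟨2,[]⟩,⟨0,[(0,false)]⟩,⟨8,[(5,true),(0,true),(4,true)]⟩,⟨6,[(5,false),(1,false),(0,false)]⟩,⟨12,[(4,false),(2,true)]⟩,⟨22,[]⟩,⟨29,[]⟩,⟨0,[(3,false),(2,false),(0,true)]⟩,⟨17,[(0,true),(0,true)]⟩,⟨25,[]⟩,⟨16,[(0,false),(0,false)]⟩,⟨21,[(0,false),(2,true),(0,true)]⟩,⟨21,[(0,true),(1,false),(0,true)]⟩,⟨26,[(3,false)]⟩,⟨0,[]⟩,⟨15,[(5,true),(0,true),(0,true)]⟩,⟨1,[]⟩,⟨20,[(3,true),(0,true)]⟩,⟨20,[(0,false),(1,true),(0,false)]⟩,⟨2,[(1,false),(0,false)]⟩,⟨10,[(1,false)]⟩,⟨0,[]⟩,⟨8,[(3,true),(3,true)]⟩,⟨1,[(0,false)]⟩,⟨6,[(0,false),(1,false),(1,false),(0,false)]⟩],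
    [⟨10,[(0,true),(3,false),(0,false)]⟩,⟨2,[]⟩,⟨3,[]⟩,⟨11,[(1,false),(2,false)]⟩,⟨20,[(2,false),(2,false),(0,false)]⟩,⟨20,[(0,false),(1,true),(0,false)]⟩,⟨20,[(0,false),(1,true),(0,false)]⟩,⟨29,[(1,false)]⟩,⟨0,[(3,false),(0,true),(0,true),(2,false),(0,false)]⟩,⟨17,[(0,true),(0,true)]⟩,⟨25,[]⟩,⟨16,[(0,false),(0,false)]⟩,⟨20,[(4,false),(0,true),(0,true)]⟩,⟨20,[(0,false),(1,true),(0,false)]⟩,⟨26,[(0,true),(0,true)]⟩,⟨0,[]⟩,⟨15,[(5,true),(0,true),(0,true)]⟩,⟨1,[]⟩,⟨21,[(0,true),(2,false)]⟩,⟨21,[(0,true),(1,false),(0,true)]⟩,⟨15,[]⟩,⟨2,[(2,true),(1,false),(0,false)]⟩,⟨14,[(2,true),(1,false),(0,false)]⟩,⟨10,[]⟩,⟨1,[(3,true),(0,false)]⟩,⟨1,[(0,false)]⟩],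
    [⟨5,[(2,false),(1,false),(0,false)]⟩,⟨3,[(0,false)]⟩,⟨1,[(0,false),(0,false),(0,false)]⟩,⟨11,[(1,false),(3,true)]⟩,⟨7,[(2,true)]⟩,⟨11,[(4,false),(0,false),(5,false),(0,false)]⟩,⟨27,[(1,false)]⟩,⟨4,[(2,false)]⟩,⟨11,[(3,true)]⟩,⟨7,[(5,true),(2,false)]⟩,⟨9,[]⟩,⟨4,[(2,false),(2,false),(1,false)]⟩,⟨8,[(2,false),(4,false),(0,false)]⟩,⟨13,[(2,false),(2,false),(1,false)]⟩,⟨29,[(2,false),(0,false)]⟩,⟨0,[(2,true),(0,true),(0,true),(3,false),(0,false),(0,false)]⟩,⟨17,[(0,true),(0,true)]⟩,⟨25,[]⟩,⟨2,[(1,false)]⟩,⟨10,[(1,false)]⟩,⟨3,[(4,false),(1,false)]⟩,⟨13,[(5,false),(1,true),(0,true),(0,true)]⟩,⟨5,[]⟩,⟨6,[(1,false)]⟩,⟨1,[]⟩,⟨0,[]⟩],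
    [⟨10,[(3,false),(0,true),(4,true),(0,false)]⟩,⟨2,[]⟩,⟨3,[]⟩,⟨8,[(2,false),(1,false)]⟩,⟨15,[(4,true),(0,false),(1,false)]⟩,⟨1,[]⟩,⟨8,[(2,false),(1,true)]⟩,⟨29,[(1,false)]⟩,⟨0,[(1,false),(0,false)]⟩,⟨17,[(0,true),(0,true)]⟩,⟨25,[]⟩,⟨16,[(0,false),(0,false)]⟩,⟨16,[(2,false),(0,false)]⟩,⟨29,[(0,false),(0,false)]⟩,⟨0,[(5,false),(0,false),(1,false),(0,false)]⟩,⟨17,[(0,true),(0,true)]⟩,⟨25,[]⟩,⟨16,[(0,false),(0,false)]⟩,⟨26,[(1,false),(1,false)]⟩,⟨0,[]⟩,⟨9,[(4,false),(1,true)]⟩,⟨8,[(4,true),(3,false)]⟩,⟨13,[(2,false),(2,false),(1,false)]⟩,⟨9,[(2,false),(1,false)]⟩,⟨1,[]⟩,⟨0,[]⟩],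
    [⟨4,[(2,true),(0,false),(3,false),(0,false)]⟩,⟨2,[]⟩,⟨0,[(0,false)]⟩,⟨8,[(0,false),(1,true),(5,true),(0,false)]⟩,⟨6,[(5,false),(1,false),(0,false)]⟩,⟨12,[(4,false),(2,true)]⟩,⟨22,[]⟩,⟨29,[(1,true)]⟩,⟨0,[(3,false),(0,false),(2,true)]⟩,⟨17,[(0,true),(0,true)]⟩,⟨25,[]⟩,⟨16,[(0,false),(0,false)]⟩,⟨21,[(1,false),(4,true)]⟩,⟨21,[(0,true),(1,false),(0,true)]⟩,⟨18,[(3,false),(0,true)]⟩,⟨13,[]⟩,⟨15,[(2,false),(1,false),(2,true),(1,false)]⟩,⟨3,[(1,false),(1,false),(2,true),(1,false)]⟩,⟨14,[(3,false),(2,false),(2,false),(0,false)]⟩,⟨18,[(4,true),(2,false)]⟩,⟨2,[(1,false)]⟩,⟨10,[(1,false)]⟩,⟨0,[]⟩,⟨8,[(3,true),(3,true)]⟩,⟨1,[(0,false)]⟩,⟨6,[(0,false),(1,false),(1,false),(0,false)]⟩]]⟩)]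


end CfsgLib.HNType.TwoB
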