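import Cfsg.Agent.Lib.HNType.TwoB.Ids

/-!
The identities of conjugation hold.
-/

set_option autoImplicit false
set_option maxRecDepth 100000
set_option maxHeartbeats 4000000

namespace CfsgLib.HNType.TwoB

theorem act_ok : (List.range 32).all actOK = true := by decide +kernel
theorem x30_ok : x30OK = true := by decide +kernel
theorem dGen_ok : (List.range 4).all dGenOK = true := by decide +kernel

end CfsgLib.HNType.TwoB
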