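import Cfsg.Agent.Lib.HNType.TwoB.IdChk0
import Cfsg.Agent.Lib.HNType.TwoB.IdChk1
import Cfsg.Agent.Lib.HNType.TwoB.GammaChk
import Cfsg.Agent.Lib.HN.CentU
import Cfsg.Agent.Lib.HNType.TwoB.Cent

/-!
The elements used inside the centraliser of a 2B involution of the presented group HN.
-/

set_option autoImplicit false
set_option maxRecDepth 100000

namespace CfsgLib.HNType.TwoB

open CfsgLib.CosetEnum CfsgLib.DCoset CfsgLib.DCoset.Space CfsgLib.HN

/-- the presented group -/
abbrev HNG : Type := CfsgLib.HN.G

theorem hn_of_same {u v : List ℕ} (h : sameOK u v = true) : prodW gen u = prodW gen v := by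
  have h' := h
  simp only [sameOK, Bool.and_eq_true, List.all_eq_true, Nat.blt_eq] at h'
  have e : toP (subW u h'.1.1) = toP (subW v h'.1.2) := by
    rw [toP_subW, toP_subW, wordP_of_sameOK h]
  exact congrArg Subtype.val (toP_injective e)

theorem hn_ne_of_same {u v : List ℕ} (hu : wlt u = true) (hv : wlt v = true)
    (h : sameOK u v = false) : prodW gen u ≠ prodW gen v := by
  intro e
  have hu' : ∀ g ∈ u, g < 5 := by simpa [wlt, List.all_eq_true] using hu
  have hv' : ∀ g ∈ v, g < 5 := by simpa [wlt, List.all_eq_true] using hv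
  have e' : wordP u = wordP v := by
    rw [← toP_subW hu', ← toP_subW hv', show subW u hu' = subW v hv' from Subtype.ext e]
  have : sameOK u v = true := by
    simp only [sameOK, Bool.and_eq_true, List.all_eq_true, List.mem_range, Nat.blt_eq]
    refine ⟨⟨hu', hv'⟩, fun b hb => ?_⟩
    rw [← bp_val hb, ← img_word hu', ← img_word hv', e']
    exact Nat.beq_refl _
  rw [this] at h
  exact Bool.noConfusion h

/-- the central involution of the centraliser -/
noncomputable def za : HNG := val [some w0]

theorem za_word : za = prodW gen w0 := val_word (by decide +kernel)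

theorem gi_word : gi = prodW gen [0, 0] := by simp [gi, gen]

/-- the centraliser -/
noncomputable def cL : Subgroup HNG := Subgroup.centralizer {za}

instance : Finite HNG := finite_G

theorem mem_cL {x : HNG} : x ∈ cL ↔ x * za = za * x := Subgroup.mem_centralizer_singleton_iff

theorem gen_mem_cL (n : ℕ) (hn : n < 12) :
    val (if n < 4 then genS n else ebAt (n - 4)) ∈ cL := by
  have h := val_eq_of_idOK (List.all_eq_true.mp z_ok n (List.mem_range.mpr hn))
  rw [val_append, val_append] at h
  exact mem_cL.mpr h

theorem genS_mem {i : ℕ} (hi : i < 4) : val (genS i) ∈ cL := by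
  have h := gen_mem_cL i (by omega)
  rwa [if_pos hi] at h

theorem ebAt_mem (k : ℕ) : val (ebAt k) ∈ cL := by
  by_cases hk : k < 8
  · have h := gen_mem_cL (k + 4) (by omega)
    rwa [if_neg (by omega), Nat.add_sub_cancel] at h
  · rw [ebAt, List.getD_eq_default _ _ (by
      have : ebS.length = 8 := by decide +kernel
      omega), val_nil]
    exact one_mem _

/-- generator `i` -/
noncomputable def gL (i : ℕ) : ↥cL := if h : i < 4 then ⟨val (genS i), genS_mem h⟩ else 1

/-- generator `k` of the normal subgroup -/
noncomputable def qL (k : ℕ) : ↥cL := ⟨val (ebAt k), ebAt_mem k⟩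

/-- the central involution -/
noncomputable def zL : ↥cL := ⟨za, mem_cL.mpr rfl⟩

/-- the list of generators of the normal subgroup -/
noncomputable def qs : List ↥cL := (List.range 8).map qL

/-- the element of a code -/
noncomputable def qc (v : ℕ) : ↥cL := code qs v

theorem gL_val {i : ℕ} (hi : i < 4) : (gL i : HNG) = val (genS i) := by rw [gL, dif_pos hi]

theorem val_zS (e : Bool) : val (zS e) = (bif e then za else 1) := by cases e <;> rfl

theorem zL_central (g : ↥cL) : g * zL = zL * g := Subtype.ext (mem_cL.mp g.2)

theorem w0_sq : sameOK (w0 ++ w0) [] = true := by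
  have h := repFacts_ok
  simp only [repFactsOK, Bool.and_eq_true] at h
  exact h.1.1.1.1.1.1.1.1.1.2

theorem zL_sq : zL * zL = 1 := Subtype.ext (by
  show za * za = 1
  rw [za_word, ← prodW_append, hn_of_same w0_sq, prodW_nil])

theorem modEq_of_val {x y : ↥cL} (e : Bool) (h : (x : HNG) = y * (bif e then za else 1)) :
    ModEq zL x y := by
  cases e
  · exact Or.inl (Subtype.ext (by simpa using h))
  · exact Or.inr (Subtype.ext h)

theorem qs_sq : ∀ g ∈ qs, ModEq zL (g * g) 1 := by
  intro g hg
  obtain ⟨k, hk, rfl⟩ := List.mem_map.mp hg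
  have h := val_eq_of_idOK (List.all_eq_true.mp sq_ok k hk)
  rw [val_append, val_zS] at h
  refine modEq_of_val (sqData.getD k (false, ⟨[], []⟩)).1 ?_
  rw [OneMemClass.coe_one, one_mul, Subgroup.coe_mul]
  exact h

theorem pairsChk : ((List.range 8).all fun l => (List.range 8).all fun q =>
    !Nat.blt l q || (List.range 28).any fun n => pairs.getD n (0, 0) == (l, q)) = true := by
  decide +kernel

theorem qs_comm : qs.Pairwise fun g x => ModEq zL (x * g) (g * x) := by
  rw [qs, List.pairwise_map]
  refine List.pairwise_lt_range.imp_of_mem fun {l q} hl hq hlq => ?_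
  rw [List.mem_range] at hl hq
  have h1 := List.all_eq_true.mp (List.all_eq_true.mp pairsChk l (List.mem_range.mpr hl)) q
    (List.mem_range.mpr hq)
  simp only [Bool.or_eq_true, Bool.not_eq_true', List.any_eq_true, beq_iff_eq] at h1
  obtain ⟨n, hn, hp⟩ := h1.resolve_left (by simp [hlq])
  have h := val_eq_of_idOK (List.all_eq_true.mp comm_ok n hn)
  simp only [val_append, val_zS, hp] at h
  refine modEq_of_val (commData.getD n (false, ⟨[], []⟩)).1 ?_
  rw [Subgroup.coe_mul, Subgroup.coe_mul]
  exact h

theorem qs_length : qs.length = 8 := by simp [qs]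

theorem qc_two_pow {k : ℕ} (hk : k < 8) : qc (2 ^ k) = qL k := by
  rw [qc, code, qs_length]
  interval_cases k <;> simp [qs, bits, bitProd, List.range_succ, Nat.testBit, Nat.shiftRight_eq_div_pow]

theorem qc_zero : qc 0 = 1 := code_zero

theorem qc_xor (u v : ℕ) : ModEq zL (qc u * qc v) (qc (u ^^^ v)) :=
  code_xor zL_central zL_sq qs_comm qs_sq u v

theorem val_codeSegs : ∀ (ks : List ℕ) (bs : List Bool),
    val (codeSegs (ks.map ebAt) bs) = ((bitProd (ks.map qL) bs : ↥cL) : HNG)
  | [], _ => by simp [codeSegs, bitProd, val_nil]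
  | _ :: _, [] => by simp [codeSegs, bitProd, val_nil]
  | k :: ks, b :: bs => by
    simp only [List.map_cons, codeSegs, bitProd, val_append, Subgroup.coe_mul, val_codeSegs ks bs]
    cases b <;> simp [val_nil, qL]

theorem ebS_eq : ebS = (List.range 8).map ebAt := by decide +kernel

theorem val_codeS (v : ℕ) : val (codeS v) = (qc v : HNG) := by
  rw [codeS, ebS_eq, val_codeSegs, qc, code, qs_length]
  rfl

theorem act_gen {i : ℕ} (hi : i < 4) : Act qs zL (gL i) (matAt i) := by
  refine act_of_cols zL_central zL_sq qs_comm qs_sq fun k hk => ?_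
  have e : code qs (2 ^ k) = qL k := qc_two_pow hk
  rw [e]
  have h := val_eq_of_idOK (List.all_eq_true.mp act_ok (8 * i + k) (List.mem_range.mpr (by omega)))
  simp only [val_append, val_zS, val_codeS, show (8 * i + k) / 8 = i by omega,
    show (8 * i + k) % 8 = k by omega] at h
  refine modEq_of_val (actData.getD (8 * i + k) (false, ⟨[], []⟩)).1 ?_
  rw [Subgroup.coe_mul, Subgroup.coe_mul, Subgroup.coe_inv, gL_val hi, mul_inv_eq_iff_eq_mul]
  exact h

/-- a word as an element of the presented group -/
noncomputable def wH (w : List ℕ) : HNG := prodW gen w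

theorem codeWChk : ((List.range 128).all fun c => codeS c ==
    (List.range 7).flatMap fun k => bif Nat.testBit c k then [some (ebW k)] else []) = true := by
  decide +kernel

theorem qc_word {c : ℕ} (hc : c < 128) : (qc c : HNG) = prodW gen (codeW c) := by
  have h := List.all_eq_true.mp codeWChk c (List.mem_range.mpr hc)
  rw [beq_iff_eq] at h
  have hf := repFacts_ok
  simp only [repFactsOK, Bool.and_eq_true, List.all_eq_true, List.mem_range, Nat.blt_eq] at hf
  have hl := hf.1.1.1.1.1.1.1.1.1.1.1.1.1.1.1.1.1
  have key : ∀ ks : List ℕ, (∀ k ∈ ks, k < 7) →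
      val (ks.flatMap fun k => bif Nat.testBit c k then [some (ebW k)] else []) =
      prodW gen (ks.flatMap fun k => bif Nat.testBit c k then ebW k else []) := by
    intro ks
    induction ks with
    | nil => intro _; rfl
    | cons k ks ih =>
      intro hks
      rw [List.flatMap_cons, List.flatMap_cons, val_append, prodW_append,
        ih fun x hx => hks x (List.mem_cons_of_mem _ hx)]
      congr 1
      cases Nat.testBit c k
      · rfl
      · exact val_word (hl k (hks k List.mem_cons_self)).2
  rw [← val_codeS, h, key _ fun k hk => List.mem_range.mp hk]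
  rfl

end CfsgLib.HNType.TwoB
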