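import Cfsg.Agent.Lib.HNType.TwoB.Code

/-!
Binary matrices of size eight, packed in one number, and the maps they give on codes.
-/

set_option autoImplicit false

namespace CfsgLib.HNType.TwoB

/-- column `i` -/
def col (A i : ℕ) : ℕ := (A >>> (8 * i)) % 256

/-- the image of the low `k` bits of `v` -/
def appTo (A v : ℕ) : ℕ → ℕ
  | 0 => 0
  | k + 1 => (bif v.testBit k then col A k else 0) ^^^ appTo A v k

/-- the image of `v` -/
def app8 (A v : ℕ) : ℕ := appTo A v 8

/-- the packed columns -/
def pack8 (f : ℕ → ℕ) : ℕ :=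
  f 0 + 256 * (f 1 + 256 * (f 2 + 256 * (f 3 + 256 * (f 4 + 256 * (f 5 + 256 * (f 6 + 256 * f 7))))))

/-- the product, `B` applied first -/
def mmul (A B : ℕ) : ℕ := pack8 fun i => app8 A (col B i)

/-- the identity -/
def idM : ℕ := pack8 fun i => 2 ^ i

/-- equal columns -/
def eqM (A B : ℕ) : Bool := (List.range 8).all fun i => Nat.beq (col A i) (col B i)

theorem eqM_iff {A B : ℕ} : eqM A B = true ↔ ∀ i < 8, col A i = col B i := by
  simp only [eqM, List.all_eq_true, List.mem_range]
  exact forall₂_congr fun i _ => ⟨Nat.eq_of_beq_eq_true, fun h => by rw [h]; exact Nat.beq_refl _⟩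

theorem col_lt (A i : ℕ) : col A i < 256 := Nat.mod_lt _ (by norm_num)

theorem appTo_lt (A v : ℕ) : ∀ k, appTo A v k < 256
  | 0 => by norm_num [appTo]
  | k + 1 => by
    have h1 : (bif v.testBit k then col A k else 0) < 2 ^ 8 := by
      cases v.testBit k
      · norm_num
      · exact col_lt A k
    exact Nat.xor_lt_two_pow h1 (appTo_lt A v k)

theorem app8_lt (A v : ℕ) : app8 A v < 256 := appTo_lt A v 8

theorem col_pack8 {f : ℕ → ℕ} (hf : ∀ i, f i < 256) : ∀ i < 8, col (pack8 f) i = f i := by
  intro i hi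
  have h0 := hf 0; have h1 := hf 1; have h2 := hf 2; have h3 := hf 3
  have h4 := hf 4; have h5 := hf 5; have h6 := hf 6; have h7 := hf 7
  interval_cases i <;>
    simp only [col, pack8, Nat.shiftRight_eq_div_pow, Nat.reduceMul, Nat.reducePow] <;> omega

theorem col_mmul (A B : ℕ) {i : ℕ} (hi : i < 8) : col (mmul A B) i = app8 A (col B i) :=
  col_pack8 (fun _ => app8_lt _ _) i hi

theorem col_idM {i : ℕ} (hi : i < 8) : col idM i = 2 ^ i := by
  interval_cases i <;> rfl

theorem app8_eqM {A B : ℕ} (h : eqM A B = true) (v : ℕ) : app8 A v = app8 B v := by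
  have h' := eqM_iff.mp h
  suffices ∀ k, k ≤ 8 → appTo A v k = appTo B v k from this 8 le_rfl
  intro k
  induction k with
  | zero => intro _; rfl
  | succ k ih => intro hk; rw [appTo, appTo, h' k (by omega), ih (by omega)]

theorem app8_two_pow (A : ℕ) {i : ℕ} (hi : i < 8) : app8 A (2 ^ i) = col A i := by
  interval_cases i <;> simp [app8, appTo, Nat.testBit, Nat.shiftRight_eq_div_pow]

theorem appTo_xor (A u v : ℕ) : ∀ k, appTo A (u ^^^ v) k = appTo A u k ^^^ appTo A v k
  | 0 => by simp [appTo]
  | k + 1 => by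
    rw [appTo, appTo, appTo, appTo_xor A u v k, Nat.testBit_xor]
    cases u.testBit k <;> cases v.testBit k <;>
      simp [Nat.xor_comm, Nat.xor_left_comm, Nat.xor_assoc, Nat.xor_self]

theorem app8_xor (A u v : ℕ) : app8 A (u ^^^ v) = app8 A u ^^^ app8 A v := appTo_xor A u v 8

theorem low_split (v k : ℕ) :
    v % 2 ^ (k + 1) = (bif v.testBit k then 2 ^ k else 0) ^^^ v % 2 ^ k := by
  refine Nat.eq_of_testBit_eq fun j => ?_
  rw [Nat.testBit_xor, Nat.testBit_mod_two_pow, Nat.testBit_mod_two_pow]
  cases hv : v.testBit k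
  · rcases lt_trichotomy j k with h | rfl | h
    · simp [h, show j < k + 1 by omega]
    · simp [hv]
    · simp [show ¬ j < k by omega, show ¬ j < k + 1 by omega]
  · simp only [cond_true, Nat.testBit_two_pow]
    rcases lt_trichotomy j k with h | rfl | h
    · simp [h, show j < k + 1 by omega, show k ≠ j by omega]
    · simp [hv]
    · simp [show ¬ j < k by omega, show ¬ j < k + 1 by omega, show k ≠ j by omega]

theorem app8_zero (A : ℕ) : app8 A 0 = 0 := by simp [app8, appTo]

theorem app8_mmul (A B : ℕ) {v : ℕ} (hv : v < 256) : app8 (mmul A B) v = app8 A (app8 B v) := by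
  suffices H : ∀ k, k ≤ 8 → appTo (mmul A B) v k = app8 A (appTo B v k) from H 8 le_rfl
  intro k
  induction k with
  | zero => intro _; simp [appTo, app8]
  | succ k ih =>
    intro hk
    rw [appTo, appTo, app8_xor, ih (by omega), col_mmul A B (by omega)]
    cases v.testBit k
    · simp [app8_zero]
    · simp

theorem app8_idM {v : ℕ} (hv : v < 256) : app8 idM v = v := by
  suffices H : ∀ k, k ≤ 8 → appTo idM v k = v % 2 ^ k by
    have h8 := H 8 le_rfl
    rwa [Nat.mod_eq_of_lt (show v < 2 ^ 8 from hv)] at h8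
  intro k
  induction k with
  | zero => intro _; simp [appTo, Nat.mod_one]
  | succ k ih => intro hk; rw [appTo, low_split, col_idM (by omega), ih (by omega)]

section Act

variable {G : Type*} [Group G] (gs : List G) (z : G)

/-- the element of a code -/
def code (v : ℕ) : G := bitProd gs (bits gs.length v)

/-- conjugation by `x` gives the matrix `A` on the codes -/
def Act (x : G) (A : ℕ) : Prop := ∀ v < 256, ModEq z (x * code gs v * x⁻¹) (code gs (app8 A v))

variable {gs z} (hz : ∀ g, g * z = z * g) (hz2 : z * z = 1)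
  (hp : gs.Pairwise fun g x => ModEq z (x * g) (g * x)) (hs : ∀ g ∈ gs, ModEq z (g * g) 1)

theorem code_zero : code gs 0 = 1 := bits_zero gs

include hz hz2 in
theorem conj_modEq {x y : G} (g : G) (h : ModEq z x y) : ModEq z (g * x * g⁻¹) (g * y * g⁻¹) :=
  ((ModEq.refl g).mul hz hz2 h).mul hz hz2 (ModEq.refl g⁻¹)

include hz hz2 hp hs in
theorem code_xor (u v : ℕ) : ModEq z (code gs u * code gs v) (code gs (u ^^^ v)) :=
  code_mul hz hz2 hp hs (ModEq.refl _) (ModEq.refl _)

include hz hz2 hp hs in
/-- A matrix is determined by the images of the generators. -/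
theorem act_of_cols {x : G} {A : ℕ}
    (h : ∀ i < 8, ModEq z (x * code gs (2 ^ i) * x⁻¹) (code gs (col A i))) : Act gs z x A := by
  intro v hv
  suffices H : ∀ k, k ≤ 8 → ModEq z (x * code gs (v % 2 ^ k) * x⁻¹) (code gs (appTo A v k)) by
    have h8 := H 8 le_rfl
    rwa [Nat.mod_eq_of_lt (show v < 2 ^ 8 from hv)] at h8
  intro k
  induction k with
  | zero =>
    intro _
    simp only [pow_zero, Nat.mod_one, appTo, code_zero, mul_one, mul_inv_cancel]
    exact ModEq.refl _
  | succ k ih =>
    intro hk
    rw [low_split, appTo]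
    have h1 : ModEq z (x * code gs (bif v.testBit k then 2 ^ k else 0) * x⁻¹)
        (code gs (bif v.testBit k then col A k else 0)) := by
      cases v.testBit k
      · simp only [cond_false, code_zero, mul_one, mul_inv_cancel]; exact ModEq.refl _
      · exact h k (by omega)
    have h2 := conj_modEq hz hz2 x
      (code_xor hz hz2 hp hs (bif v.testBit k then 2 ^ k else 0) (v % 2 ^ k))
    refine (h2.symm hz2).trans hz2 ?_
    rw [show x * (code gs (bif v.testBit k then 2 ^ k else 0) * code gs (v % 2 ^ k)) * x⁻¹ =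
      x * code gs (bif v.testBit k then 2 ^ k else 0) * x⁻¹ * (x * code gs (v % 2 ^ k) * x⁻¹) by
        group]
    exact (h1.mul hz hz2 (ih (by omega))).trans hz2 (code_xor hz hz2 hp hs _ _)

include hz hz2 hp hs in
theorem act_mul {x y : G} {A B : ℕ} (hA : Act gs z x A) (hB : Act gs z y B) :
    Act gs z (x * y) (mmul A B) := by
  refine act_of_cols hz hz2 hp hs fun i hi => ?_
  rw [col_mmul A B hi]
  have hi' : 2 ^ i < 256 := by interval_cases i <;> norm_num
  have h1 := conj_modEq hz hz2 x (hB _ hi')
  have e : app8 B (2 ^ i) = col B i := by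
    interval_cases i <;> simp [app8, appTo, Nat.testBit, Nat.shiftRight_eq_div_pow]
  rw [show x * y * code gs (2 ^ i) * (x * y)⁻¹ = x * (y * code gs (2 ^ i) * y⁻¹) * x⁻¹ by group]
  refine h1.trans hz2 ?_
  rw [e]
  exact hA _ (col_lt B i)

include hz hz2 hp hs in
theorem act_one : Act gs z 1 idM := by
  refine act_of_cols hz hz2 hp hs fun i hi => ?_
  rw [col_idM hi, one_mul, inv_one, mul_one]
  exact ModEq.refl _

end Act

end CfsgLib.HNType.TwoB
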