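import Cfsg.Agent.Lib.DCoset.Check

/-!
Conjugating words for the class representatives.
-/

set_option autoImplicit false
set_option linter.style.longLine false
set_option maxRecDepth 100000

namespace CfsgLib.HNType.TwoB

open CfsgLib.DCoset

/-- conjugating words: it moves a representative to its target -/
def uK : List ℕ :=
  [0,2,2,0,2,0,2,2,2,0,4,2]

/-- conjugating words: it moves a representative to its target -/
def uKz : List ℕ :=
  [0,2,4,2,2,2,4,2,2,4,2,2]

/-- conjugating words: it moves a representative to its target -/
def uX : List ℕ :=
  [0,2,4,2,2,2,0,2,2,2,2,4,2,0,2]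

/-- conjugating words: it moves a representative to its target -/
def uXz : List ℕ :=
  [0,2,2,0,2,2,4,2,2,4,2,4,2,4,2,4]

/-- conjugating words: it moves a representative to its target -/
def uDt : List ℕ :=
  [2,2,2,0,4,2,2,2]


end CfsgLib.HNType.TwoB
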