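import Cfsg.Agent.Lib.HNType.TwoB.Ids
import Cfsg.Agent.Lib.HNType.TwoB.Mat
import Cfsg.Agent.Lib.HNType.TwoB.GammaData
import Cfsg.Agent.Lib.HNType.TwoB.RepData

/-!
The group of matrices: definitions of the checks.
-/

set_option autoImplicit false
set_option maxRecDepth 10000

namespace CfsgLib.HNType.TwoB

open CfsgLib.CosetEnum CfsgLib.DCoset CfsgLib.HN

/-- matrix `k` -/
noncomputable def gamAt (k : ℕ) : ℕ := (gamTab.getD (k / 50) 0 >>> (64 * (k % 50))) % 2 ^ 64

/-- position of the product with generator `i` -/
noncomputable def nextAt (k i : ℕ) : ℕ :=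
  (gamNext.getD ((4 * k + i) / 200) 0 >>> (13 * ((4 * k + i) % 200))) % 2 ^ 13

/-- one more than the position among the involutions -/
noncomputable def invIdxAt (k : ℕ) : ℕ := (gamInv.getD (k / 200) 0 >>> (9 * (k % 200))) % 2 ^ 9

/-- involution `j` -/
def invAt (j : ℕ) : ℕ := invTab.getD j 0

/-- generator matrix `i` -/
def matAt (i : ℕ) : ℕ := mats.getD i 0

/-- its inverse -/
def minvAt (i : ℕ) : ℕ := minvs.getD i 0

/-- the matrix of a list of generators -/
def matProd (w : List ℕ) : ℕ := w.foldr (fun i A => mmul (matAt i) A) idM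

/-- the matrices of the three representatives -/
def rootMat : ℕ → ℕ
  | 0 => matAt 1
  | 1 => mmul (matAt 2) (matAt 2)
  | _ => matProd w30

/-- a code in the first orbit -/
def inT (v : ℕ) : Bool := Nat.testBit tMask v

/-- the table of left products -/
noncomputable def gamOK (k : ℕ) : Bool := strict k fun k =>
  strict (gamAt k) fun A => (List.range 4).all fun i =>
    strict (nextAt k i) fun n => Nat.blt n 7200 && eqM (mmul (matAt i) A) (gamAt n)

/-- the inverses -/
noncomputable def minvOK : Bool :=
  eqM (gamAt 0) idM && (List.range 4).all fun i =>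
    eqM (mmul (matAt i) (minvAt i)) idM && eqM (mmul (minvAt i) (matAt i)) idM

/-- involutions are in the table -/
noncomputable def invOK' (k : ℕ) : Bool := strict k fun k =>
  strict (gamAt k) fun A => bif eqM (mmul A A) idM then
    eqM A idM || strict (invIdxAt k) fun x => Nat.blt 0 x && Nat.blt x 316 && eqM A (invAt (x - 1))
  else true

/-- the predecessors of the involutions -/
noncomputable def parOK (j : ℕ) : Bool := strict j fun j =>
  if Nat.beq j 0 then eqM (invAt j) (rootMat 0)
  else if Nat.beq j 60 then eqM (invAt j) (rootMat 1)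
  else if Nat.beq j 285 then eqM (invAt j) (rootMat 2)
  else
    let e := invPar.getD j (9, 0)
    Nat.blt e.1 4 && Nat.blt e.2 j && (Nat.blt j 60 || !Nat.blt e.2 60) &&
      (Nat.blt j 285 || !Nat.blt e.2 285) &&
      eqM (invAt j) (mmul (matAt e.1) (mmul (invAt e.2) (minvAt e.1)))

/-- the first class is closed -/
noncomputable def clsOK (j : ℕ) : Bool := strict j fun j => (List.range 4).all fun i =>
  strict (cls0Next.getD (4 * j + i) 60) fun n =>
    Nat.blt n 60 && eqM (mmul (matAt i) (mmul (invAt j) (minvAt i))) (invAt n)

/-- products of two of the first class -/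
noncomputable def wreathOK (j : ℕ) : Bool := strict j fun j =>
  strict (mmul (rootMat 0) (invAt j)) fun C => strict (mmul C C) fun D =>
    bif eqM (mmul D D) idM then eqM D idM else true

/-- elements of order five fix few codes outside the first orbit -/
noncomputable def fiveOK (k : ℕ) : Bool := strict k fun k =>
  strict (gamAt k) fun A => strict (mmul A A) fun B => strict (mmul B B) fun D =>
    strict (mmul A D) fun E => bif eqM E idM && !eqM A idM then
      Nat.blt ((List.range 256).filter fun v => !inT v && Nat.beq (app8 A v) v).length 16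
    else true

/-- the products and the involutions in block `b` of 900 matrices -/
noncomputable def gamBlockOK (b : ℕ) : Bool :=
  Cert.allBelow 900 fun k => strict (900 * b + k) fun k => gamOK k && invOK' k

/-- the check on block `b` of 900 matrices -/
noncomputable def fiveBlockOK (b : ℕ) : Bool :=
  Cert.allBelow 900 fun k => strict (900 * b + k) fiveOK

/-- the three orbits -/
noncomputable def orbStepOK (n : ℕ) : Bool := strict n fun n =>
  let e := orbList.getD n (0, 0, 0)
  Nat.blt 0 e.1 && Nat.blt e.1 256 &&
  (if Nat.beq n 0 then Nat.beq e.1 1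
  else if Nat.beq n 60 then Nat.beq e.1 10
  else if Nat.beq n 180 then Nat.beq e.1 12
  else Nat.blt e.2.1 4 && Nat.blt e.2.2 n && (Nat.blt n 60 || !Nat.blt e.2.2 60) &&
    (Nat.blt n 180 || !Nat.blt e.2.2 180) &&
    Nat.beq (app8 (matAt e.2.1) (orbList.getD e.2.2 (0, 0, 0)).1) e.1)

/-- coverage and the first orbit -/
noncomputable def orbCoverOK : Bool :=
  (List.range 256).all fun v =>
    (Nat.beq v 0 || (List.range 255).any fun n => Nat.beq (orbList.getD n (0, 0, 0)).1 v) &&
    (inT v == ((List.range 60).any fun n => Nat.beq (orbList.getD n (0, 0, 0)).1 v))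

/-- the first orbit is invariant -/
noncomputable def tInvOK : Bool :=
  (List.range 4).all fun i => (List.range 256).all fun v => !inT v || inT (app8 (matAt i) v)

/-- the numbers of pairs with given sum -/
noncomputable def pairCountOK : Bool :=
  Nat.beq ((List.range 256).filter inT).length 60 && !inT 0 &&
  (List.range 256).all fun v => inT v || Nat.beq v 0 ||
    Nat.beq ((List.range 256).filter fun u => inT u && inT (u ^^^ v)).length 12

/-- fixed codes of the representatives are commutators -/
noncomputable def fixOK (r : ℕ) : Bool :=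
  strict (rootMat r) fun A => strict (fixPre.getD r 0) fun P => (List.range 256).all fun v =>
    !Nat.beq (app8 A v) v ||
      strict ((P >>> (8 * v)) % 256) fun u => Nat.beq (u ^^^ app8 A u) v

/-- the word of generator `k` of the normal subgroup -/
def ebW (k : ℕ) : List ℕ := match ebAt k with
  | [some l] => l
  | _ => []

/-- the word of a code below 128 -/
def codeW (c : ℕ) : List ℕ := (List.range 7).flatMap fun k => bif Nat.testBit c k then ebW k else []

/-- representative `k` of the part of the first three generators -/
def yRep (k : ℕ) : List ℕ := (yWord.getD k []).flatMap fun i => gY.getD i []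

/-- the Schreier table -/
noncomputable def schOK (k : ℕ) : Bool := strict k fun k =>
  ((yWord.getD k []).all fun i => Nat.blt i 3) &&
  (bif Nat.beq k 0 then (yWord.getD k []).isEmpty else !eqM (matProd (yWord.getD k [])) idM) &&
  (List.range 3).all fun i => strict (ySch.getD (3 * k + i) 0) fun e =>
    let n := e % 256
    let c := (e >>> 8) % 256
    let b := Nat.testBit e 16
    Nat.blt n 120 && Nat.blt c 128 &&
      sameOK (gY.getD i [] ++ yRep k) (yRep n ++ codeW c ++ bif b then w0 else [])

/-- facts about the representatives in the group on 1408 points -/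
noncomputable def repFactsOK : Bool :=
  ((List.range 7).all fun k => ebAt k == [some (ebW k)] && (ebW k).all fun g => Nat.blt g 5) &&
  (ebW 0 == [0, 0]) && (gY.getD 1 [] == wB) && (gY.all fun w => w.all fun g => Nat.blt g 5) &&
  sameOK (codeW 10 ++ codeW 10) w0 &&
  sameOK wX (gY.getD 2 [] ++ gY.getD 2 [] ++ codeW 4) && sameOK (wX ++ wX) [] &&
  sameOK (wB ++ wB) [] && sameOK (w0 ++ w0) [] &&
  sameOK (w0 ++ uK) (uK ++ codeW 12) && sameOK (w0 ++ uKz) (uKz ++ (codeW 12 ++ w0)) &&
  sameOK (wD ++ uX) (uX ++ wX) && sameOK (wD ++ uXz) (uXz ++ (wX ++ w0)) &&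
  sameOK (wD ++ uDt) (uDt ++ ([0, 0] ++ wD)) &&
  !sameOK (codeW 12) [] && !sameOK (codeW 12) w0 && !sameOK [0, 0] w0 && !sameOK w0 []

end CfsgLib.HNType.TwoB
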