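import Cfsg.Agent.Lib.HNType.TwoB.Ids

/-!
The identities hold.
-/

set_option autoImplicit false
set_option maxRecDepth 100000
set_option maxHeartbeats 4000000

namespace CfsgLib.HNType.TwoB

theorem sq_ok : (List.range 8).all sqOK = true := by decide +kernel
theorem comm_ok : (List.range 28).all commOK = true := by decide +kernel
theorem z_ok : (List.range 12).all zOK = true := by decide +kernel
theorem fuse_ok : fuseOK = true := by decide +kernel

end CfsgLib.HNType.TwoB
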