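import Cfsg.Agent.Lib.HNType.TwoB.Words

/-!
The identities used for the centraliser of a 2B involution, as checks.
-/

set_option autoImplicit false
set_option maxRecDepth 10000

namespace CfsgLib.HNType.TwoB

open CfsgLib.CosetEnum CfsgLib.DCoset CfsgLib.HN

/-- generator `i` of the centraliser -/
def genS (i : ℕ) : Segs := if i < 3 then [some (gY.getD i [])] else hGen

/-- generator `k` of the normal subgroup -/
def ebAt (k : ℕ) : Segs := ebS.getD k []

/-- the product selected by the bits -/
def codeSegs : List Segs → List Bool → Segs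
  | [], _ => []
  | _ :: _, [] => []
  | g :: gs, b :: bs => (bif b then g else []) ++ codeSegs gs bs

/-- the product of a code -/
def codeS (v : ℕ) : Segs := codeSegs ebS ((List.range 8).map v.testBit)

/-- a power of the central element -/
def zS (e : Bool) : Segs := bif e then [some w0] else []

/-- the pairs `k < l` -/
def pairs : List (ℕ × ℕ) :=
  (List.range 8).flatMap fun l => ((List.range 8).filter fun q => Nat.blt l q).map fun q => (l, q)

/-- the squares -/
noncomputable def sqOK (k : ℕ) : Bool :=
  let d := sqData.getD k (false, ⟨[], []⟩)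
  idOK (ebAt k ++ ebAt k) (zS d.1) d.2

/-- the commutators -/
noncomputable def commOK (n : ℕ) : Bool :=
  let d := commData.getD n (false, ⟨[], []⟩)
  let p := pairs.getD n (0, 0)
  idOK (ebAt p.2 ++ ebAt p.1) (ebAt p.1 ++ ebAt p.2 ++ zS d.1) d.2

/-- the conjugates -/
noncomputable def actOK (n : ℕ) : Bool :=
  let d := actData.getD n (false, ⟨[], []⟩)
  let i := n / 8
  idOK (genS i ++ ebAt (n % 8)) (codeS ((mats.getD i 0 >>> (8 * (n % 8))) % 256) ++ zS d.1 ++ genS i) d.2

/-- the central element commutes with the generators -/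
noncomputable def zOK (n : ℕ) : Bool :=
  let g := if n < 4 then genS n else ebAt (n - 4)
  idOK (g ++ [some w0]) ([some w0] ++ g) (zData.getD n ⟨[], []⟩)

/-- the involutions moved to the central one or to `w0` -/
noncomputable def fuseOK : Bool :=
  idOK ([some [4]] ++ gZ) (gZ ++ [some [0, 0]]) zTWit &&
  idOK ([some wA] ++ gA) (gA ++ [some [0, 0]]) aTWit &&
  idOK ([some wB] ++ gB) (gB ++ [some [0, 0]]) bTWit &&
  idOK ([some w0] ++ gB) (gB ++ [some wD]) bDWit &&
  idOK ([some wD] ++ gD) (gD ++ [some w0]) dCWit

/-- the class of 30: the square -/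
def x30S : Segs := w30.flatMap genS ++ codeS x30Code

/-- the square of the class of 30 -/
noncomputable def x30OK : Bool := idOK (x30S ++ x30S) [some w0] x30Wit

/-- generators of the centraliser of `wD` inside -/
noncomputable def dGenOK (n : ℕ) : Bool :=
  let d := dGen.getD n ([], [], 0, false, ⟨[], []⟩)
  idOK (gB ++ [some d.1]) (d.2.1.flatMap genS ++ codeS d.2.2.1 ++ zS d.2.2.2.1 ++ gB) d.2.2.2.2

end CfsgLib.HNType.TwoB
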