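import Cfsg.Agent.Lib.HNType.TwoB.Classes

/-!
The kinds of the involutions of the subgroup of generators.
-/

set_option autoImplicit false
set_option maxRecDepth 100000

namespace CfsgLib.HNType.TwoB

open CfsgLib.CosetEnum CfsgLib.DCoset CfsgLib.DCoset.Space CfsgLib.HN

/-- the representative of the first type -/
noncomputable def tL : ↥cL := qc 1

theorem tL_val : (tL : HNG) = gi := qc_one_val

theorem wordsChk :
    sameOK (w0 ++ uK) (uK ++ codeW 12) = true ∧ sameOK (w0 ++ uKz) (uKz ++ (codeW 12 ++ w0)) = true ∧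
    sameOK (wD ++ uX) (uX ++ wX) = true ∧ sameOK (wD ++ uXz) (uXz ++ (wX ++ w0)) = true ∧
    sameOK (wD ++ uDt) (uDt ++ ([0, 0] ++ wD)) = true ∧
    sameOK ([0, 0] ++ w0) wA = true := by decide +kernel

theorem isConj_of_same {a u b : List ℕ} (h : sameOK (a ++ u) (u ++ b) = true) :
    IsConj (prodW gen b) (prodW gen a) := by
  refine (isConj_hn (g := prodW gen u) ?_).symm
  rw [← prodW_append, ← prodW_append, hn_of_same h]

theorem CH_za : CH za := IsConj.refl za

theorem CH_wD : CH (prodW gen wD) := fuseFacts.2.2.1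

theorem tL_kind : TH (tL : HNG) ∧ TH (↑(tL * zL) : HNG) := by
  refine ⟨tL_val ▸ IsConj.refl gi, ?_⟩
  rw [Subgroup.coe_mul, tL_val, gi_word, show (zL : HNG) = prodW gen w0 from za_word, ← prodW_append,
    hn_of_same wordsChk.2.2.2.2.2]
  exact fuseFacts.2.1

theorem bL_kind : TH (bL : HNG) ∧ CH (↑(bL * zL) : HNG) := by
  obtain ⟨-, -, -, hb, hg⟩ := fuseFacts
  refine ⟨bL_val ▸ hb, ?_⟩
  obtain ⟨h1, h2⟩ := hg _ rfl
  have e : (↑(bL * zL) : HNG) * val gB = val gB * (prodW gen ([0, 0] ++ wD)) := by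
    rw [Subgroup.coe_mul, bL_val, show (zL : HNG) = za from rfl, mul_assoc, h2, ← mul_assoc, h1,
      prodW_append, gi_word, mul_assoc]
  exact (isConj_hn e).trans ((isConj_of_same wordsChk.2.2.2.2.1).trans CH_wD)

theorem kL_kind : CH (qc 12 : HNG) ∧ CH (↑(qc 12 * zL) : HNG) := by
  rw [Subgroup.coe_mul, qc_word (show (12 : ℕ) < 128 by norm_num),
    show (zL : HNG) = prodW gen w0 from za_word, ← prodW_append]
  have hz : IsConj (prodW gen w0) za := za_word ▸ IsConj.refl za
  exact ⟨(isConj_of_same wordsChk.1).trans hz, (isConj_of_same wordsChk.2.1).trans hz⟩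

theorem xL_kind : CH (xL : HNG) ∧ CH (↑(xL * zL) : HNG) := by
  rw [Subgroup.coe_mul, xL_val, show (zL : HNG) = prodW gen w0 from za_word, ← prodW_append]
  exact ⟨(isConj_of_same wordsChk.2.2.1).trans CH_wD, (isConj_of_same wordsChk.2.2.2.1).trans CH_wD⟩

theorem isConj_coe {x y : ↥cL} (m : ↥cL) (h : m * y * m⁻¹ = x) : IsConj (x : HNG) (y : HNG) :=
  (isConj_iff.mpr ⟨(m : HNG), congrArg Subtype.val h⟩).symm

theorem kinds_conj {x y m : ↥cL} (h : m * y * m⁻¹ = x) :
    (TH (y : HNG) → TH (x : HNG)) ∧ (CH (y : HNG) → CH (x : HNG)) :=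
  ⟨fun hy => (isConj_coe m h).trans hy, fun hy => (isConj_coe m h).trans hy⟩

theorem conj_mul_z (m y : ↥cL) : m * y * m⁻¹ * zL = m * (y * zL) * m⁻¹ := by
  rw [mul_assoc (m * y), zL_central m⁻¹]; group

theorem q7_mem : qL 7 ∈ M0 := Q0_le (Subgroup.subset_closure (Or.inl ⟨7, by norm_num, rfl⟩))

/-- The involutions of the subgroup of generators. -/
theorem inv_cases {x : ↥cL} (hx : x ∈ M0) (hx2 : x * x = 1) :
    x = 1 ∨ CH (x : HNG) ∨
    (TH (x : HNG) ∧ TH (↑(x * zL) : HNG) ∧ x ∈ Q0 ∧ ∃ m ∈ M0, m * tL * m⁻¹ = x) ∨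
    (TH (x : HNG) ∧ CH (↑(x * zL) : HNG) ∧ ∃ m ∈ M0, m * bL * m⁻¹ = x) := by
  obtain ⟨k, hk, hact, -⟩ := exists_act hx
  have hsq := act_sq hx2 hact
  have h := (gam_spec k hk).2
  simp only [invOK', strict_eq, hsq, cond_true, Bool.or_eq_true] at h
  rcases h with hid | h
  · obtain ⟨v, hv, hxv⟩ := kernel_mem (act_congr hact hid)
    by_cases hv0 : v = 0
    · subst hv0
      rw [qc_zero] at hxv
      rcases hxv with e | e
      · exact Or.inl e
      · right; left
        rw [e, one_mul]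
        exact CH_za
    obtain ⟨n, hn, hnv, -⟩ := orb_cover hv hv0
    obtain ⟨m, hm, hmv⟩ := orb_conj n hn
    rw [hnv] at hmv
    have hxm := me_trans hxv (me_symm hmv)
    have hxQ : x ∈ Q0 := mem_Q0_of_me hxv
    simp only [orbRoot] at hxm
    split_ifs at hxm with h60 h180
    · right; right; left
      obtain ⟨m', hm', e⟩ : ∃ m' ∈ M0, m' * tL * m'⁻¹ = x := by
        rcases hxm with e | e
        · exact ⟨m, hm, e.symm⟩
        · refine ⟨m * qL 7, mul_mem hm q7_mem, ?_⟩
          rw [e, conj_mul_z, ← t_code.2, tL]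
          group
      exact ⟨(kinds_conj e).1 tL_kind.1,
        (kinds_conj (show m' * (tL * zL) * m'⁻¹ = x * zL by rw [← conj_mul_z, e])).1 tL_kind.2,
        hxQ, m', hm', e⟩
    · exfalso
      have hc : sameOK (codeW 10 ++ codeW 10) w0 = true := by decide +kernel
      have h10 : qc 10 * qc 10 = zL := Subtype.ext (by
        rw [Subgroup.coe_mul, qc_word (show (10 : ℕ) < 128 by norm_num), ← prodW_append, hn_of_same hc]
        exact za_word.symm)
      have e3 : x * x = zL := by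
        have e4 : ∀ g : ↥cL, g * zL * g⁻¹ = zL := fun g => by
          rw [zL_central g, mul_inv_cancel_right]
        rcases hxm with e | e <;> rw [e]
        · rw [show m * qc 10 * m⁻¹ * (m * qc 10 * m⁻¹) = m * (qc 10 * qc 10) * m⁻¹ by group, h10, e4]
        · rw [show m * qc 10 * m⁻¹ * zL * (m * qc 10 * m⁻¹ * zL) =
            m * qc 10 * m⁻¹ * (zL * (m * qc 10 * m⁻¹)) * zL by group, ← zL_central (m * qc 10 * m⁻¹),
            show m * qc 10 * m⁻¹ * (m * qc 10 * m⁻¹ * zL) * zL =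
            m * (qc 10 * qc 10) * m⁻¹ * (zL * zL) by group, h10, e4, zL_sq, mul_one]
      rw [hx2] at e3
      exact qc_ne (v := 0 + 1) (by norm_num) (by norm_num) (absurd e3.symm (fun e5 =>
        hn_ne_of_same (u := w0) (v := []) repChk.2.2.1 rfl (by decide +kernel)
          (by rw [← za_word, prodW_nil]; exact congrArg Subtype.val e5)))
    · right; left
      rcases hxm with e | e
      · exact (kinds_conj e.symm).2 kL_kind.1
      · exact (kinds_conj (show m * (qc 12 * zL) * m⁻¹ = x by rw [← conj_mul_z, e])).2 kL_kind.2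
  · simp only [Bool.and_eq_true, Nat.blt_eq] at h
    obtain ⟨⟨hpos, hlt⟩, hM⟩ := h
    obtain ⟨m, hm, hmx⟩ := inv_reduce (invIdxAt k - 1) (by omega) x (act_congr hact hM)
    have hy2 : m * x * m⁻¹ * (m * x * m⁻¹) = 1 := by
      rw [show m * x * m⁻¹ * (m * x * m⁻¹) = m * (x * x) * m⁻¹ by group, hx2, mul_one, mul_inv_cancel]
    have hr : invClass (invIdxAt k - 1) < 3 := by unfold invClass; split_ifs <;> norm_num
    obtain ⟨f, -, hf⟩ := conj_root hr hy2 hmx
    generalize invClass (invIdxAt k - 1) = r at hr hf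
    obtain ⟨c, hc, hcx⟩ : ∃ c ∈ M0, c * rootL r * c⁻¹ = x ∨ c * (rootL r * zL) * c⁻¹ = x := by
      refine ⟨m⁻¹ * qc f, mul_mem (inv_mem hm) (Q0_le (qc_mem f)), ?_⟩
      rcases hf with e | e
      · left; rw [show m⁻¹ * qc f * rootL r * (m⁻¹ * qc f)⁻¹ =
          m⁻¹ * (qc f * rootL r * (qc f)⁻¹) * m by group, ← e]; group
      · right; rw [show m⁻¹ * qc f * (rootL r * zL) * (m⁻¹ * qc f)⁻¹ =
          m⁻¹ * (qc f * (rootL r * zL) * (qc f)⁻¹) * m by group, ← e]; group
    interval_cases r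
    · rcases hcx with e | e
      · right; right; right
        exact ⟨(kinds_conj e).1 bL_kind.1,
          (kinds_conj (show c * (bL * zL) * c⁻¹ = x * zL by rw [← conj_mul_z]; exact congrArg (· * zL) e)).2
            bL_kind.2, c, hc, e⟩
      · exact Or.inr (Or.inl ((kinds_conj e).2 bL_kind.2))
    · rcases hcx with e | e
      · exact Or.inr (Or.inl ((kinds_conj e).2 xL_kind.1))
      · exact Or.inr (Or.inl ((kinds_conj e).2 xL_kind.2))
    · exfalso
      have hs : ∀ y : ↥cL, y = x30L ∨ y = x30L * zL → y * y = zL := by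
        rintro y (rfl | rfl)
        · exact rootL_sq.2.2
        · rw [mul_assoc x30L zL, ← mul_assoc zL x30L, ← zL_central x30L, ← mul_assoc, ← mul_assoc,
            rootL_sq.2.2, mul_assoc, zL_sq, mul_one]
      have hz1 : zL = 1 := by
        obtain ⟨y, hy, e⟩ : ∃ y, (y = x30L ∨ y = x30L * zL) ∧ c * y * c⁻¹ = x := by
          rcases hcx with e | e
          · exact ⟨_, Or.inl rfl, e⟩
          · exact ⟨_, Or.inr rfl, e⟩
        rw [← e, show c * y * c⁻¹ * (c * y * c⁻¹) = c * (y * y) * c⁻¹ by group, hs y hy,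
          zL_central c, mul_inv_cancel_right] at hx2
        exact hx2
      exact hn_ne_of_same (u := w0) (v := []) repChk.2.2.1 rfl (by decide +kernel)
        (by rw [← za_word, prodW_nil]; exact congrArg Subtype.val hz1)

theorem cls_closed {m : ↥cL} (hm : m ∈ M0) :
    ∃ j < 60, Act qs zL (m * bL * m⁻¹) (invAt j) := by
  rw [← Subgroup.mem_toSubmonoid, M0, Subgroup.closure_toSubmonoid_of_finite] at hm
  induction hm using Submonoid.closure_induction_left with
  | one =>
    refine ⟨0, by norm_num, ?_⟩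
    rw [one_mul, inv_one, mul_one]
    have h := Cert.allBelow_spec par_ok 0 (by norm_num)
    simp only [parOK, strict_eq, Nat.beq_refl, if_true] at h
    exact act_congr (rootL_act 0 (by norm_num)) (eqM_iff.mpr fun i hi => (eqM_iff.mp h i hi).symm)
  | mul_left y hy a _ ha =>
    obtain ⟨i, hi, rfl⟩ := hy
    obtain ⟨j, hj, hact⟩ := ha
    have h := Cert.allBelow_spec cls_ok j hj
    simp only [clsOK, strict_eq, List.all_eq_true, List.mem_range, Bool.and_eq_true, Nat.blt_eq] at h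
    obtain ⟨hn, he⟩ := h i hi
    refine ⟨_, hn, act_congr ?_ he⟩
    rw [show gL i * a * bL * (gL i * a)⁻¹ = gL i * (a * bL * a⁻¹ * (gL i)⁻¹) by group]
    exact act_comp (act_gen hi) (act_comp hact (act_inv_gen hi))

/-- the product of two involutions of the second type, of order dividing four, squares into the normal
subgroup -/
theorem wreath_L {m n : ↥cL} (hm : m ∈ M0) (hn : n ∈ M0)
    (h4 : (m * bL * m⁻¹ * (n * bL * n⁻¹)) ^ 4 = 1) :
    (m * bL * m⁻¹ * (n * bL * n⁻¹)) ^ 2 ∈ Q0 := by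
  obtain ⟨j, hj, hact⟩ := cls_closed (mul_mem (inv_mem hm) hn)
  obtain ⟨y, hy⟩ : ∃ y, y = bL * (m⁻¹ * n * bL * (m⁻¹ * n)⁻¹) := ⟨_, rfl⟩
  have e : m * bL * m⁻¹ * (n * bL * n⁻¹) = m * y * m⁻¹ := by rw [hy]; group
  rw [e, conj_pow] at h4 ⊢
  have hy4 : y ^ 4 = 1 := conj_eq_one_iff.mp h4
  have hA : Act qs zL y (mmul (rootMat 0) (invAt j)) := hy ▸ act_comp (rootL_act 0 (by norm_num)) hact
  have hA2 : Act qs zL (y ^ 2) (mmul (mmul (rootMat 0) (invAt j)) (mmul (rootMat 0) (invAt j))) := by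
    rw [pow_two]; exact act_comp hA hA
  have hA4 := act_comp hA2 hA2
  rw [← pow_add, show 2 + 2 = 4 from rfl, hy4] at hA4
  have h := Cert.allBelow_spec wreath_ok j hj
  simp only [wreathOK, strict_eq, act_unique hA4 act_id, cond_true] at h
  obtain ⟨v, -, hv⟩ := kernel_mem (act_congr hA2 h)
  exact Q0_normal hm (mem_Q0_of_me hv)

end CfsgLib.HNType.TwoB
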