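import Cfsg.Agent.Lib.HNType.TwoB.TableChk
import Cfsg.Agent.Lib.HNType.TwoB.Cent

/-!
The two kinds of involutions in the group on 1408 points.
-/

set_option autoImplicit false
set_option maxRecDepth 100000

namespace CfsgLib.HNType.TwoB

open CfsgLib.CosetEnum CfsgLib.DCoset CfsgLib.HN
open scoped Pointwise

/-- conjugate to `iP`, `wA` or `z` -/
def TP (p : PH) : Prop := IsConj p iP ∨ IsConj p (wordP wA) ∨ IsConj p (wordP [4])

/-- conjugate to `w0` or `wD` -/
def CP (p : PH) : Prop := IsConj p (wordP w0) ∨ IsConj p (wordP wD)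

theorem TP.conj {p : PH} (h : TP p) (c : PH) : TP (c * p * c⁻¹) :=
  let hc : IsConj (c * p * c⁻¹) p := (isConj_iff.mpr ⟨c, rfl⟩).symm
  h.imp (hc.trans ·) (Or.imp (hc.trans ·) (hc.trans ·))

theorem CP.conj {p : PH} (h : CP p) (c : PH) : CP (c * p * c⁻¹) :=
  let hc : IsConj (c * p * c⁻¹) p := (isConj_iff.mpr ⟨c, rfl⟩).symm
  h.imp (hc.trans ·) (hc.trans ·)

theorem isConj_rep {k : ℕ} (hk : k < 2048) {w u : List ℕ} (h : repOK' k w u = true) :
    el k = (wordP u)⁻¹ * wordP w * wordP u := by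
  simp only [repOK', Bool.and_eq_true, List.all_eq_true, List.mem_range, Nat.blt_eq] at h
  rw [← revInv_wordP, ← wordP_append, ← wordP_append]
  refine eq_of_base fun b hb => ?_
  rw [(el_key hk).2 b hb, img_word]
  · exact (Nat.eq_of_beq_eq_true (h.2 b hb)).symm
  · intro g hg
    simp only [List.mem_append] at hg
    rcases hg with (hg | hg) | hg
    · exact revInv_lt5 h.1.2 g hg
    · exact h.1.1 g hg
    · exact h.1.2 g hg

theorem el690_eq : el 690 = (wordP u690)⁻¹ * wordP w0 * wordP u690 := by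
  have h := reps_ok
  simp only [repsOK, Bool.and_eq_true] at h
  exact isConj_rep (by norm_num) h.1.1.1

theorem el1975_eq : el 1975 = (wordP u1975)⁻¹ * wordP wA * wordP u1975 := by
  have h := reps_ok
  simp only [repsOK, Bool.and_eq_true] at h
  exact isConj_rep (by norm_num) h.1.1.2

theorem conj_inv_isConj {k : ℕ} {c w : PH} (h : el k = c⁻¹ * w * c) : IsConj (el k) w :=
  isConj_iff.mpr ⟨c, by rw [h]; group⟩

theorem kind_rep {r : ℕ} {first : Bool} (h : repKind r first = true) :
    (first = true → TP (el r)) ∧ (first = false → CP (el r)) := by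
  have hr := reps_ok
  simp only [repsOK, Bool.and_eq_true] at hr
  cases first <;> simp only [repKind, cond_true, cond_false, Bool.or_eq_true] at h
  · refine ⟨fun e => Bool.noConfusion e, fun _ => ?_⟩
    rcases h with h | h <;> rw [Nat.eq_of_beq_eq_true h]
    · exact Or.inl (conj_inv_isConj el690_eq)
    · exact Or.inr (conj_inv_isConj (isConj_rep (by norm_num) hr.2))
  · refine ⟨fun _ => ?_, fun e => Bool.noConfusion e⟩
    rcases h with (h | h) | h <;> rw [Nat.eq_of_beq_eq_true h]
    · exact Or.inl (by rw [← iP_eq])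
    · exact Or.inr (Or.inl (conj_inv_isConj el1975_eq))
    · exact Or.inr (Or.inr (conj_inv_isConj (isConj_rep (by norm_num) hr.1.2)))

theorem conj_of_keys {k r : ℕ} {g : List ℕ} (hk : k < 2048) (hr : r < 2048) (hg : ∀ x ∈ g, x < 5)
    (h : ∀ b < 6, Nat.beq (tWord (sylWord k) (space.C.run (basePt b) g))
      (space.C.run (sylKey r b) g) = true) : IsConj (el k) (el r) := by
  refine isConj_iff.mpr ⟨wordP g, ?_⟩
  rw [mul_inv_eq_iff_eq_mul]
  refine eq_of_base fun b hb => ?_
  rw [img_mul, img_mul, el, img_sProd (el_key hk).1, img_word hg]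
  have e1 : ((wordP g).1.unop (bp hb) : ℕ) = space.C.run (basePt b) g := img_word hg (bp hb)
  have e2 : ((el r).1.unop (bp hb) : ℕ) = sylKey r b := (el_key hr).2 b hb
  rw [e1, e2]
  exact Nat.eq_of_beq_eq_true (h b hb)

theorem kind_spec {j : ℕ} {first : Bool} (h : kindOK j first = true) :
    (first = true → TP (el j)) ∧ (first = false → CP (el j)) := by
  obtain ⟨r, hrk, hconj⟩ : ∃ r, repKind r first = true ∧ IsConj (el j) (el r) := by
    simp only [kindOK, Bool.or_eq_true, List.any_eq_true, Bool.and_eq_true] at h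
    rcases h with ⟨e, he, hj, hr⟩ | ⟨e, he, hj, hr⟩
    · refine ⟨e.2.2, hr, ?_⟩
      rw [← Nat.eq_of_beq_eq_true hj]
      have := List.all_eq_true.mp conj_ok e he
      simp only [conjOK, Bool.and_eq_true, List.all_eq_true, List.mem_range, Nat.blt_eq] at this
      exact conj_of_keys this.1.1.1
        (by have h2 := this.1.2; simp only [Bool.or_eq_true] at h2
            rcases h2 with (h2 | h2) | h2 <;> rw [Nat.eq_of_beq_eq_true h2] <;> norm_num)
        this.1.1.2 this.2
    · refine ⟨e.2.2, hr, ?_⟩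
      rw [← Nat.eq_of_beq_eq_true hj]
      have := List.all_eq_true.mp fusConj_ok e he
      simp only [outConjOK, Bool.and_eq_true, List.all_eq_true, List.mem_range, Nat.blt_eq,
        List.any_eq_true] at this
      refine conj_of_keys this.1.1.1 ?_ this.1.1.2 this.2
      cases first <;> simp only [repKind, cond_true, cond_false, Bool.or_eq_true] at hr <;>
        rcases hr with hr | hr <;> first
          | (rw [Nat.eq_of_beq_eq_true hr]; norm_num)
          | (rcases hr with hr | hr <;> rw [Nat.eq_of_beq_eq_true hr] <;> norm_num)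
  obtain ⟨h1, h2⟩ := kind_rep hrk
  obtain ⟨c, hc⟩ := isConj_iff.mp hconj.symm
  exact ⟨fun e => hc ▸ (h1 e).conj c, fun e => hc ▸ (h2 e).conj c⟩

theorem table_690 {k : ℕ} (hk : k < 2048) (hsq : el k * el k = 1) :
    CP (iP * el k) ∨ TP (iP * el k * el 690) ∨ TP (el k) ∨ TP (el k * el 690) := by
  by_cases hk0 : k = 0
  · subst hk0
    refine Or.inr (Or.inl ?_)
    rw [el_zero, mul_one, iP_comm, counts.2.2]
    exact Or.inr (Or.inl (conj_inv_isConj el1975_eq))
  have ht : sylTSq k = bif inK k then 0 else 564 := by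
    refine el_inj (tsq_lt2048 _) (by cases inK k <;> norm_num) ?_
    rw [← (el_spec hk).tsq, hsq, one_mul]
    cases inK k
    · exact iP_eq
    · exact el_zero.symm
  have h := Cert.allBelow_spec listed_ok k hk
  simp only [listedOK, strict_eq, ht, Nat.beq_refl, Bool.not_true, Bool.or_false, Bool.or_eq_true,
    List.any_eq_true] at h
  rcases h with h | ⟨⟨k', typ, j⟩, he, hk'⟩
  · exact absurd (Nat.eq_of_beq_eq_true h) hk0
  obtain rfl : k' = k := Nat.eq_of_beq_eq_true hk'
  have he' := List.all_eq_true.mp ent_ok _ he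
  simp only [entOK, Bool.and_eq_true, prodOK, List.all_eq_true, List.mem_range, Nat.blt_eq] at he'
  obtain ⟨⟨⟨htyp, hj⟩, hprod⟩, hkind⟩ := he'
  obtain ⟨hT, hC⟩ := kind_spec hkind
  interval_cases typ
  · left
    rw [iP_eq, show el 564 * el k' = el j from eq_of_base fun b hb => by
      rw [img_el_mul (by norm_num) hk hb, (el_key hj).2 b hb]
      exact Nat.eq_of_beq_eq_true (hprod b hb)]
    exact hC rfl
  · right; left
    rw [iP_eq, show el 564 * el k' * el 690 = el j from eq_of_base fun b hb => by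
      rw [img_el_mul₃ (by norm_num) hk (by norm_num) hb, (el_key hj).2 b hb]
      exact Nat.eq_of_beq_eq_true (hprod b hb)]
    exact hT rfl
  · right; right; left
    rw [Nat.eq_of_beq_eq_true (hprod 0 (by norm_num))]
    exact hT rfl
  · right; right; right
    rw [show el k' * el 690 = el j from eq_of_base fun b hb => by
      rw [img_el_mul hk (by norm_num) hb, (el_key hj).2 b hb]
      exact Nat.eq_of_beq_eq_true (hprod b hb)]
    exact hT rfl

/-- the Sylow subgroup controls the involutions of the centraliser of `el 690` -/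
theorem exists_conj_cent {p : PH} (hp : p ^ 2 = 1) (hc : Commute p (el 690)) :
    ∃ c : PH, Commute c (el 690) ∧ c * p * c⁻¹ ∈ T := by
  have : Fact (Nat.Prime 2) := ⟨Nat.prime_two⟩
  obtain ⟨C, hCdef⟩ : ∃ C : Subgroup PH, C = Subgroup.centralizer {el 690} := ⟨_, rfl⟩
  have hTC : T ≤ C := fun v hv => by
    rw [hCdef, Subgroup.mem_centralizer_singleton_iff]
    exact (central_three (Or.inr (Or.inl rfl)) v hv).eq
  have hcard : Nat.card ↥(T.subgroupOf C) = 2 ^ 11 := by
    rw [Nat.card_congr (Subgroup.subgroupOfEquivOfLe hTC).toEquiv, card_T]; norm_num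
  have hidx : ¬ 2 ∣ (T.subgroupOf C).index := by
    intro h2
    have h1 : T.relIndex C * C.index = T.index := Subgroup.relIndex_mul_index hTC
    have h3 := T.card_mul_index
    rw [card_T, card_P] at h3
    have h4 : 2 ∣ T.index := h1 ▸ h2.mul_right _
    omega
  let P : Sylow 2 ↥C := (IsPGroup.of_card hcard).toSylow hidx
  have hx : p ∈ C := by rw [hCdef, Subgroup.mem_centralizer_singleton_iff]; exact hc.eq
  have hz : IsPGroup 2 (Subgroup.zpowers (⟨p, hx⟩ : ↥C)) := by
    rintro ⟨y, hy⟩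
    obtain ⟨i, rfl⟩ := Subgroup.mem_zpowers_iff.mp hy
    refine ⟨1, Subtype.ext ?_⟩
    show ((⟨p, hx⟩ : ↥C) ^ i) ^ 2 ^ 1 = 1
    rw [← zpow_natCast, ← zpow_mul, mul_comm, zpow_mul, zpow_natCast,
      show (⟨p, hx⟩ : ↥C) ^ 2 ^ 1 = 1 from Subtype.ext (by simpa using hp), one_zpow]
  obtain ⟨Q, hQ⟩ := hz.exists_le_sylow
  obtain ⟨g, hg⟩ := MulAction.exists_smul_eq ↥C Q P
  refine ⟨g.1, ?_, ?_⟩
  · have key : ∀ v ∈ C, Commute v (el 690) := fun v hv => by
      rw [hCdef, Subgroup.mem_centralizer_singleton_iff] at hv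
      exact hv
    exact key _ g.2
  · have h2 := Subgroup.smul_mem_pointwise_smul (⟨p, hx⟩ : ↥C) (MulAut.conj g) _
      (hQ (Subgroup.mem_zpowers _))
    have h3 : (MulAut.conj g • (Q : Subgroup ↥C)) = T.subgroupOf C := by
      have := congrArg (fun R : Sylow 2 ↥C => (R : Subgroup ↥C)) hg
      rwa [Sylow.coe_subgroup_smul] at this
    rw [h3] at h2
    exact h2

/-- The involutions commuting with `w0`: one of four products has a known kind. -/
theorem inventory_PH {p : PH} (hp : p * p = 1) (hc : Commute p (wordP w0)) :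
    CP (iP * p) ∨ TP (iP * p * wordP w0) ∨ TP p ∨ TP (p * wordP w0) := by
  obtain ⟨u, hu⟩ : ∃ u, u = wordP u690 := ⟨_, rfl⟩
  have h690 : u⁻¹ * wordP w0 * u = el 690 := by rw [hu, el690_eq]
  have hc' : Commute (u⁻¹ * p * u) (el 690) := by
    rw [← h690]
    show u⁻¹ * p * u * (u⁻¹ * wordP w0 * u) = u⁻¹ * wordP w0 * u * (u⁻¹ * p * u)
    calc _ = u⁻¹ * (p * wordP w0) * u := by group
      _ = _ := by rw [hc.eq]; group
  have hp' : (u⁻¹ * p * u) ^ 2 = 1 := by
    rw [pow_two, show u⁻¹ * p * u * (u⁻¹ * p * u) = u⁻¹ * (p * p) * u by group, hp, mul_one,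
      inv_mul_cancel]
  obtain ⟨c, hcc, hT⟩ := exists_conj_cent hp' hc'
  obtain ⟨k, hk, hek⟩ := exists_el hT
  obtain ⟨g, hg⟩ : ∃ g, g = c * u⁻¹ := ⟨_, rfl⟩
  have hgp : g * p * g⁻¹ = el k := by rw [hek, hg]; group
  have hg0 : g * wordP w0 * g⁻¹ = el 690 := by
    calc g * wordP w0 * g⁻¹ = c * (u⁻¹ * wordP w0 * u) * c⁻¹ := by rw [hg]; group
      _ = el 690 := by rw [h690, hcc.eq, mul_inv_cancel_right]
  have hgi : g * iP * g⁻¹ = iP := by rw [← iP_comm g, mul_inv_cancel_right]
  have hsq : el k * el k = 1 := by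
    rw [← hgp, show g * p * g⁻¹ * (g * p * g⁻¹) = g * (p * p) * g⁻¹ by group, hp, mul_one,
      mul_inv_cancel]
  have back : ∀ {x y : PH}, g * x * g⁻¹ = y → (TP y → TP x) ∧ (CP y → CP x) := fun {x y} h => by
    have e : g⁻¹ * y * g⁻¹⁻¹ = x := by rw [← h]; group
    exact ⟨fun hy => e ▸ hy.conj _, fun hy => e ▸ hy.conj _⟩
  rcases table_690 hk hsq with h | h | h | h
  · exact Or.inl ((back (show g * (iP * p) * g⁻¹ = iP * el k by
      rw [← hgp]; nth_rw 2 [← hgi]; group)).2 h)
  · exact Or.inr (Or.inl ((back (show g * (iP * p * wordP w0) * g⁻¹ = iP * el k * el 690 by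
      rw [← hgp, ← hg0]; nth_rw 2 [← hgi]; group)).1 h))
  · exact Or.inr (Or.inr (Or.inl ((back hgp).1 h)))
  · exact Or.inr (Or.inr (Or.inr ((back (show g * (p * wordP w0) * g⁻¹ = el k * el 690 by
      rw [← hgp, ← hg0]; group)).1 h)))

end CfsgLib.HNType.TwoB
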