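import Cfsg.Agent.Lib.HNType.TwoB.Subspace
import Cfsg.Agent.Lib.HNType.TwoB.Kinds
import Cfsg.Agent.Lib.HNType.TwoB.Table
import Cfsg.Agent.Lib.HNType.TwoB.Core
import Cfsg.Agent.Lib.HN.Order

/-!
The two kinds of involutions of the model and of the subgroup of `x, y, z` of HN.
-/

set_option autoImplicit false
set_option maxRecDepth 100000

namespace CfsgLib.HNType.TwoB

open CfsgLib.CosetEnum CfsgLib.DCoset CfsgLib.DCoset.Space CfsgLib.HN

theorem za_ne_one : za ≠ 1 := fun e =>
  hn_ne_of_same (u := w0) (v := []) repChk.2.2.1 rfl (by decide +kernel)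
    (by rw [← za_word, prodW_nil]; exact e)

theorem za_sq : za * za = 1 := congrArg Subtype.val zL_sq

theorem TH_sq {x : HNG} (h : TH x) : x * x = 1 ∧ x ≠ 1 := by
  obtain ⟨c, hc⟩ := isConj_iff.mp h.symm
  subst hc
  refine ⟨?_, fun e => gi_ne_one (conj_eq_one_iff.mp e)⟩
  rw [show c * gi * c⁻¹ * (c * gi * c⁻¹) = c * (gi * gi) * c⁻¹ by group, gi_sq, mul_one, mul_inv_cancel]

/-- conjugate in the image means conjugate -/
theorem isConj_of_toP {a b : ↥subH} (h : IsConj (toP a) (toP b)) : IsConj (a : HNG) (b : HNG) := by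
  obtain ⟨c, hc⟩ := isConj_iff.mp h
  obtain ⟨d, rfl⟩ := toP_surjective c
  rw [← map_inv, ← map_mul, ← map_mul] at hc
  exact isConj_iff.mpr ⟨d, congrArg Subtype.val (toP_injective hc)⟩

theorem toP_gi_eq : toP ⟨gi, gi_mem⟩ = iP := Subtype.ext (by rw [iP_val, ← toP_gi])

theorem toP_za : ∀ h : za ∈ subH, toP ⟨za, h⟩ = wordP w0 := fun h => by
  have hw : ∀ g ∈ w0, g < 5 := by decide +kernel
  rw [show (⟨za, h⟩ : ↥subH) = subW w0 hw from Subtype.ext za_word, toP_subW]

theorem za_mem : za ∈ subH :=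
  za_word ▸ rig.prodW_mem (show ∀ g ∈ w0, g < 5 by decide +kernel)

theorem wdChk : wlt wA = true ∧ wlt wD = true ∧ ((List.range 4).all fun n =>
    (dGen.getD n ([], [], 0, false, ⟨[], []⟩)).2.1.all (fun i => Nat.blt i 4) &&
    wlt (dGen.getD n ([], [], 0, false, ⟨[], []⟩)).1) = true ∧ dGen.length = 4 := by decide +kernel

theorem TH_of_TP {x : ↥subH} (h : TP (toP x)) : TH (x : HNG) := by
  have hA : ∀ g ∈ wA, g < 5 := wlt_iff.mp wdChk.1
  have h4 : ∀ g ∈ [4], g < 5 := by simp
  rcases h with h | h | h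
  · rw [← toP_gi_eq] at h
    exact isConj_of_toP h
  · rw [← toP_subW hA] at h
    exact (isConj_of_toP h).trans fuseFacts.2.1
  · rw [← toP_subW h4] at h
    refine (isConj_of_toP h).trans ?_
    show IsConj (prodW gen [4]) gi
    rw [show prodW gen [4] = gz by simp [gen]]
    exact fuseFacts.1

theorem CH_of_CP {x : ↥subH} (h : CP (toP x)) : CH (x : HNG) := by
  have hD : ∀ g ∈ wD, g < 5 := wlt_iff.mp wdChk.2.1
  rcases h with h | h
  · rw [← toP_za za_mem] at h
    exact isConj_of_toP h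
  · rw [← toP_subW hD] at h
    exact (isConj_of_toP h).trans CH_wD

theorem kind_outer {r : ℕ} (h : r = 1 ∨ r = 101) : repKind r true = true ∨ repKind r false = true := by
  rcases h with rfl | rfl
  · exact Or.inl rfl
  · exact Or.inr rfl

/-- every involution of the model is of one of the two kinds -/
theorem kinds_PH {p : PH} (hp : p * p = 1) (hp1 : p ≠ 1) : TP p ∨ CP p := by
  by_cases hK : p ∈ kP
  · obtain ⟨d, hd⟩ := inner_involution hK hp hp1
    have back : ∀ {y : PH}, d * p * d⁻¹ = y → (TP y → TP p) ∧ (CP y → CP p) := fun {y} h => by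
      have e : d⁻¹ * y * d⁻¹⁻¹ = p := by rw [← h]; group
      exact ⟨fun hy => e ▸ hy.conj _, fun hy => e ▸ hy.conj _⟩
    rcases hd with h | h | h
    · exact Or.inl ((back h).1 (Or.inl (iP_eq ▸ IsConj.refl iP)))
    · exact Or.inr ((back h).2 (Or.inl (conj_inv_isConj el690_eq)))
    · exact Or.inl ((back h).1 (Or.inr (Or.inl (conj_inv_isConj el1975_eq))))
  · obtain ⟨c, hc⟩ := exists_conj_T (x := p) (by
      rw [show p ^ 4 = (p * p) * (p * p) by simp [pow_succ, mul_assoc], hp, one_mul])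
    obtain ⟨k, hk, e⟩ := exists_el hc
    have hkK : inK k = false := by
      rw [← Bool.not_eq_true, inK_iff hk, e, conj_mem_kP]; exact hK
    have hsq : el k * el k = 1 := by
      rw [e, show c * p * c⁻¹ * (c * p * c⁻¹) = c * (p * p) * c⁻¹ by group, hp, mul_one, mul_inv_cancel]
    have hts : sylTSq k = 564 := by
      refine el_inj (tsq_lt2048 _) (by norm_num) ?_
      rw [← (el_spec hk).tsq, hkK, cond_false, hsq, one_mul, iP_eq]
    have h := Cert.allBelow_spec outClass_ok k hk
    simp only [outClassOK, strict_eq, hkK, hts, Bool.false_or, Bool.or_eq_true, Bool.not_eq_true',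
      Nat.beq_refl, List.any_eq_true] at h
    rcases h with h | ⟨u, hu, hu1⟩
    · cases h
    have hr : u.2.2 = 1 ∨ u.2.2 = 101 := by
      have hu' := List.all_eq_true.mp fusConj_ok u hu
      simp only [outConjOK, fusReps, Bool.and_eq_true, List.any_eq_true] at hu'
      obtain ⟨r, hr, hr'⟩ := hu'.1.2
      simp only [List.mem_cons, List.not_mem_nil, or_false] at hr
      rcases hr with rfl | rfl <;> simp only at hr'
      · exact Or.inl (Nat.eq_of_beq_eq_true hr').symm
      · exact Or.inr (Nat.eq_of_beq_eq_true hr').symm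
    have back : (TP (el k) → TP p) ∧ (CP (el k) → CP p) := by
      have e' : c⁻¹ * el k * c⁻¹⁻¹ = p := by rw [e]; group
      exact ⟨fun hy => e' ▸ hy.conj _, fun hy => e' ▸ hy.conj _⟩
    have hk' : ∀ b, repKind u.2.2 b = true → kindOK k b = true := fun b hb => by
      simp only [kindOK, Bool.or_eq_true, List.any_eq_true, Bool.and_eq_true]
      exact Or.inr ⟨u, hu, hu1, hb⟩
    rcases kind_outer hr with hb | hb
    · exact Or.inl (back.1 ((kind_spec (hk' _ hb)).1 rfl))
    · exact Or.inr (back.2 ((kind_spec (hk' _ hb)).2 rfl))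

/-- every involution of the subgroup of `x, y, z` is of one of the two kinds -/
theorem kinds_subH {x : HNG} (hx : x ∈ subH) (hx2 : x * x = 1) (hx1 : x ≠ 1) : TH x ∨ CH x := by
  have h2 : toP ⟨x, hx⟩ * toP ⟨x, hx⟩ = 1 := by
    rw [← map_mul, show (⟨x, hx⟩ * ⟨x, hx⟩ : ↥subH) = 1 from Subtype.ext hx2, map_one]
  have h1 : toP ⟨x, hx⟩ ≠ 1 := fun e =>
    hx1 (congrArg Subtype.val (toP_injective (e.trans (map_one toP).symm)))
  rcases kinds_PH h2 h1 with h | h
  · exact Or.inl (TH_of_TP h)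
  · exact Or.inr (CH_of_CP h)

/-- every involution of HN is of one of the two kinds, if the centraliser of `za` is generated -/
theorem kinds_HN (hM : (M0 : Subgroup ↥cL) = ⊤) {y : HNG} (hy : y * y = 1) (hy1 : y ≠ 1) :
    TH y ∨ CH y := by
  obtain ⟨n, hn⟩ : ∃ n, n = orderOf (y * gi) := ⟨_, rfl⟩
  have hconj : ∀ g, (TH (g * y * g⁻¹) → TH y) ∧ (CH (g * y * g⁻¹) → CH y) := fun g =>
    have e : IsConj y (g * y * g⁻¹) := isConj_iff.mpr ⟨g, rfl⟩
    ⟨fun h => e.trans h, fun h => e.trans h⟩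
  rcases Nat.even_or_odd n with he | ho
  · obtain ⟨k, hk⟩ := he
    obtain ⟨i, hi⟩ : ∃ i, i = (y * gi) ^ k := ⟨_, rfl⟩
    have : Finite HNG := finite_G
    have hpos : 0 < n := hn ▸ orderOf_pos _
    have hi2 : i * i = 1 := by rw [hi, ← pow_add, ← hk, hn, pow_orderOf_eq_one]
    have hi1 : i ≠ 1 := fun e => by
      have h := Nat.le_of_dvd (by omega : 0 < k)
        (orderOf_dvd_of_pow_eq_one (x := y * gi) (n := k) (hi ▸ e))
      omega
    have hiy : Commute i y := by
      have h := inv_pow_mul (prod_inverted hy gi_sq) k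
      rw [← hi] at h
      calc i * y = i * (i * y * i) := by rw [h]
        _ = (i * i) * y * i := by group
        _ = y * i := by rw [hi2, one_mul]
    have hiu : Commute i (y * gi) := hi ▸ Commute.pow_self _ _
    have hig : Commute i gi := by
      have h := hiy.mul_right hiu
      rwa [← mul_assoc, hy, one_mul] at h
    rcases kinds_subH (mem_subH_of_gi hig) hi2 hi1 with h | h
    · obtain ⟨g, hg⟩ := isConj_iff.mp h
      have h' : Commute (g * y * g⁻¹) gi := by
        rw [← hg]
        show _ * _ = _ * _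
        rw [show g * y * g⁻¹ * (g * i * g⁻¹) = g * (y * i) * g⁻¹ by group, ← hiy.eq]
        group
      rcases kinds_subH (mem_subH_of_gi h') (mul_self_conj hy g)
          (fun e => hy1 (conj_eq_one_iff.mp e)) with e | e
      · exact Or.inl ((hconj g).1 e)
      · exact Or.inr ((hconj g).2 e)
    · obtain ⟨g, hg⟩ := isConj_iff.mp h
      have h' : g * y * g⁻¹ ∈ cL := mem_cL.mpr (by
        rw [← hg, show g * y * g⁻¹ * (g * i * g⁻¹) = g * (y * i) * g⁻¹ by group, ← hiy.eq]
        group)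
      rcases inv_cases (x := ⟨g * y * g⁻¹, h'⟩) (hM ▸ Subgroup.mem_top _)
          (Subtype.ext (mul_self_conj hy g)) with e | e | ⟨e, -⟩ | ⟨e, -⟩
      · exact absurd (conj_eq_one_iff.mp (congrArg Subtype.val e)) hy1
      · exact Or.inr ((hconj g).2 e)
      · exact Or.inl ((hconj g).1 e)
      · exact Or.inl ((hconj g).1 e)
  · obtain ⟨j, hj⟩ := (conj_power hy gi_sq n).2 ho
    rw [hn, pow_orderOf_eq_one, mul_one] at hj
    exact Or.inl (isConj_iff.mpr ⟨((y * gi) ^ j)⁻¹, by rw [inv_inv]; exact hj⟩).symm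

end CfsgLib.HNType.TwoB
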