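import Cfsg.Agent.Lib.HNType.TwoB.Classes

/-!
A subgroup of the normal subgroup free of the first orbit with a transitive stabiliser is central.
-/

set_option autoImplicit false
set_option maxRecDepth 100000

namespace CfsgLib.HNType.TwoB

open CfsgLib.CosetEnum CfsgLib.DCoset CfsgLib.DCoset.Space CfsgLib.HN

open scoped _root_.Classical in
theorem two_pow_card {P : Subgroup ↥cL} (hP : P ≤ Q0) (hz : zL ∈ P) :
    ∃ n, ((Finset.range 256).filter fun v => ∃ p ∈ P, ME p (qc v)).card = 2 ^ n := by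
  obtain ⟨S, hS⟩ : ∃ S, S = (Finset.range 256).filter fun v => ∃ p ∈ P, ME p (qc v) := ⟨_, rfl⟩
  rw [← hS]
  have : Fact (Nat.Prime 2) := ⟨Nat.prime_two⟩
  have hp : IsPGroup 2 ↥P := by
    rintro ⟨x, hx⟩
    obtain ⟨v, -, hv⟩ := exists_code (hP hx)
    refine ⟨2, Subtype.ext ?_⟩
    show x ^ 2 ^ 2 = 1
    have h := me_trans (me_mul hv hv) (qc_self v)
    rw [show (2 : ℕ) ^ 2 = 2 + 2 from rfl, pow_add, pow_two]
    rcases h with e | e <;> rw [e]
    · exact one_mul 1
    · rw [one_mul, zL_sq]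
  obtain ⟨N, hN⟩ := IsPGroup.iff_card.mp hp
  have hz1 : zL ≠ 1 := fun e => hn_ne_of_same (u := w0) (v := []) repChk.2.2.1 rfl (by decide +kernel)
    (by rw [← za_word, prodW_nil]; exact congrArg Subtype.val e)
  have hmemP : ∀ v, v ∈ S → qc v ∈ P := fun v hv => by
    rw [hS, Finset.mem_filter] at hv
    obtain ⟨-, p, hp, e⟩ := hv
    rcases me_symm e with e | e <;> rw [e]
    · exact hp
    · exact mul_mem hp hz
  let f : {v // v ∈ S} × Bool → ↥P := fun e =>
    ⟨qc e.1.1 * (bif e.2 then zL else 1), mul_mem (hmemP _ e.1.2) (by cases e.2 <;> simp [hz])⟩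
  have hf : Function.Bijective f := by
    constructor
    · rintro ⟨⟨u, hu⟩, b⟩ ⟨⟨v, hv⟩, c⟩ e
      have e' : qc u * (bif b then zL else 1) = qc v * (bif c then zL else 1) := congrArg Subtype.val e
      have hu' : u < 256 := Finset.mem_range.mp (Finset.mem_filter.mp (hS ▸ hu)).1
      have hv' : v < 256 := Finset.mem_range.mp (Finset.mem_filter.mp (hS ▸ hv)).1
      have hme : ∀ b : Bool, ME (qc u * (bif b then zL else 1)) (qc u) := fun b => by
        cases b
        · exact Or.inl (mul_one _)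
        · exact Or.inr rfl
      have hme' : ∀ b : Bool, ME (qc v * (bif b then zL else 1)) (qc v) := fun b => by
        cases b
        · exact Or.inl (mul_one _)
        · exact Or.inr rfl
      obtain rfl : u = v := code_inj hu' hv' (me_trans (me_symm (hme b)) (e' ▸ hme' c))
      have h2 := mul_left_cancel e'
      cases b <;> cases c <;> first | rfl | (exact absurd h2 hz1) | (exact absurd h2.symm hz1)
    · rintro ⟨p, hp⟩
      obtain ⟨v, hv, hpv⟩ := exists_code (hP hp)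
      have hvS : v ∈ S := by
        rw [hS, Finset.mem_filter]; exact ⟨Finset.mem_range.mpr hv, p, hp, hpv⟩
      rcases hpv with e | e
      · exact ⟨(⟨v, hvS⟩, false), Subtype.ext (by simp [f, e])⟩
      · exact ⟨(⟨v, hvS⟩, true), Subtype.ext (by simp [f, e])⟩
  have hc := Nat.card_congr (Equiv.ofBijective f hf)
  rw [Nat.card_prod, Nat.card_eq_fintype_card, Fintype.card_coe,
    Nat.card_eq_fintype_card (α := Bool), Fintype.card_bool, hN] at hc
  cases N with
  | zero => omega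
  | succ N => exact ⟨N, by rw [pow_succ] at hc; omega⟩

open scoped _root_.Classical in
/-- A subgroup without elements of the first orbit, transitive in the given sense, is central. -/
theorem subspace_trivial (P : Subgroup ↥cL) (hP : P ≤ Q0) (hz : zL ∈ P)
    (hfree : ∀ p ∈ P, ∀ v < 256, inT v = true → ¬ ME p (qc v))
    (htr : ∀ u₁ < 256, ∀ u₂ < 256, inT u₁ = true → inT u₂ = true → ∃ p₁ ∈ P, ∃ p₂ ∈ P, ∃ m ∈ M0,
      (∀ p ∈ P, m * p * m⁻¹ = p ∨ m * p * m⁻¹ = p * zL) ∧
        ME (m * (qc u₁ * p₁) * m⁻¹) (qc u₂ * p₂)) :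
    ∀ p ∈ P, p = 1 ∨ p = zL := by
  obtain ⟨S, hS⟩ : ∃ S, S = (Finset.range 256).filter fun v => ∃ p ∈ P, ME p (qc v) := ⟨_, rfl⟩
  have hSmem : ∀ v, v ∈ S ↔ v < 256 ∧ ∃ p ∈ P, ME p (qc v) := fun v => by
    rw [hS, Finset.mem_filter, Finset.mem_range]
  have hxS : ∀ u ∈ S, ∀ v ∈ S, u ^^^ v ∈ S := by
    intro u hu v hv
    obtain ⟨hu', p, hp, hpu⟩ := (hSmem u).mp hu
    obtain ⟨hv', q, hq, hqv⟩ := (hSmem v).mp hv
    exact (hSmem _).mpr ⟨Nat.xor_lt_two_pow (n := 8) hu' hv', p * q, mul_mem hp hq,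
      me_trans (me_mul hpu hqv) (qc_xor u v)⟩
  have h0S : 0 ∈ S := (hSmem 0).mpr ⟨by norm_num, 1, one_mem _, by rw [qc_zero]; exact ModEq.refl _⟩
  have hST : ∀ v ∈ S, inT v = false := fun v hv => by
    obtain ⟨hv', p, hp, hpv⟩ := (hSmem v).mp hv
    exact Bool.eq_false_iff.mpr fun h => hfree p hp v hv' h hpv
  obtain ⟨T, hT⟩ : ∃ T, T = (Finset.range 256).filter fun u => inT u = true := ⟨_, rfl⟩
  have hTmem : ∀ u, u ∈ T ↔ u < 256 ∧ inT u = true := fun u => by
    rw [hT, Finset.mem_filter, Finset.mem_range]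
  have hcount := pairCount_ok
  simp only [pairCountOK, Bool.and_eq_true, List.all_eq_true, List.mem_range] at hcount
  obtain ⟨⟨hc60, -⟩, hc12⟩ := hcount
  have filt : ∀ f : ℕ → Bool, ((Finset.range 256).filter fun u => f u = true).card =
      ((List.range 256).filter f).length := fun f => by
    rw [← List.toFinset_card_of_nodup (List.nodup_range.filter _)]
    congr 1
    ext u
    simp
  have hT60 : T.card = 60 := by rw [hT, filt]; exact Nat.eq_of_beq_eq_true hc60
  have hN : ∀ v ∈ S, (T.filter fun u => u ^^^ v ∈ T).card = if v = 0 then 60 else 12 := by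
    intro v hv
    split_ifs with h
    · subst h
      rw [Finset.filter_true_of_mem fun u hu => by simpa using hu, hT60]
    · have h1 := hc12 v ((hSmem v).mp hv).1
      rw [hST v hv, show Nat.beq v 0 = false by
        rw [← Bool.not_eq_true]; exact fun e => h (Nat.eq_of_beq_eq_true e), Bool.false_or,
        Bool.false_or] at h1
      rw [← Nat.eq_of_beq_eq_true h1, ← filt]
      congr 1
      ext u
      simp only [Finset.mem_filter, hTmem, Finset.mem_range, Bool.and_eq_true]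
      exact ⟨fun ⟨⟨a, b⟩, _, c⟩ => ⟨a, b, c⟩,
        fun ⟨a, b, c⟩ => ⟨⟨a, b⟩, Nat.xor_lt_two_pow (n := 8) a ((hSmem v).mp hv).1, c⟩⟩
  let cset : ℕ → Finset ℕ := fun u => S.image (u ^^^ ·)
  -- the stabiliser
  obtain ⟨H, hH⟩ : ∃ H : Subgroup ↥cL, ∀ m, m ∈ H ↔
      m ∈ M0 ∧ ∀ p ∈ P, m * p * m⁻¹ = p ∨ m * p * m⁻¹ = p * zL := by
    let K : Submonoid ↥cL :=
      { carrier := {m | m ∈ M0 ∧ ∀ p ∈ P, ME (m * p * m⁻¹) p}
        one_mem' := ⟨one_mem _, fun p _ => by rw [one_mul, inv_one, mul_one]; exact ModEq.refl _⟩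
        mul_mem' := fun {a b} ha hb => ⟨mul_mem ha.1 hb.1, fun p hp => by
          rw [show a * b * p * (a * b)⁻¹ = a * (b * p * b⁻¹) * a⁻¹ by group]
          exact me_trans (me_conj a (hb.2 p hp)) (ha.2 p hp)⟩ }
    exact ⟨⟨K, fun {a} ha => ⟨inv_mem ha.1, fun p hp => by
      have h := me_conj a⁻¹ (ha.2 p hp)
      rw [show a⁻¹ * (a * p * a⁻¹) * a⁻¹⁻¹ = p by group] at h
      exact me_symm h⟩⟩, fun m => Iff.rfl⟩
  have hact : ∀ m ∈ H, ∃ k < 7200, Act qs zL m (gamAt k) ∧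
      (∀ v < 256, inT v = true → inT (app8 (gamAt k) v) = true) ∧
      ∀ v ∈ S, app8 (gamAt k) v = v := by
    intro m hm
    obtain ⟨hM, hfix⟩ := (hH m).mp hm
    obtain ⟨k, hk, ha, hT'⟩ := exists_act hM
    refine ⟨k, hk, ha, hT', fun v hv => ?_⟩
    obtain ⟨hv', p, hp, hpv⟩ := (hSmem v).mp hv
    exact act_eval ha hv' hv' (me_trans (me_symm (me_conj m hpv)) (me_trans (hfix p hp) hpv))
  have hinjA : ∀ m ∈ H, ∀ k, Act qs zL m (gamAt k) → ∀ u < 256, ∀ v < 256,
      app8 (gamAt k) u = app8 (gamAt k) v → u = v := by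
    intro m _ k ha u hu v hv e
    have h1 := me_trans (ha u hu) (me_symm (e ▸ ha v hv))
    have h2 := me_conj m⁻¹ h1
    rw [show ∀ a : ↥cL, m⁻¹ * (m * a * m⁻¹) * m⁻¹⁻¹ = a from fun a => by group,
      show ∀ a : ↥cL, m⁻¹ * (m * a * m⁻¹) * m⁻¹⁻¹ = a from fun a => by group] at h2
    exact code_inj hu hv h2
  have trans : ∀ u₁ ∈ T, ∀ u₂ ∈ T, ∃ m ∈ H, ∃ k < 7200, Act qs zL m (gamAt k) ∧
      (cset u₁).image (app8 (gamAt k)) = cset u₂ := by
    intro u₁ hu₁ u₂ hu₂
    obtain ⟨hu₁', ht₁⟩ := (hTmem u₁).mp hu₁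
    obtain ⟨hu₂', ht₂⟩ := (hTmem u₂).mp hu₂
    obtain ⟨p₁, hp₁, p₂, hp₂, m, hm, hfix, hme⟩ := htr u₁ hu₁' u₂ hu₂' ht₁ ht₂
    have hmH : m ∈ H := (hH m).mpr ⟨hm, hfix⟩
    obtain ⟨k, hk, ha, -, hkS⟩ := hact m hmH
    refine ⟨m, hmH, k, hk, ha, ?_⟩
    obtain ⟨v₁, hv₁, e₁⟩ := exists_code (hP hp₁)
    obtain ⟨v₂, hv₂, e₂⟩ := exists_code (hP hp₂)
    have hv₁S : v₁ ∈ S := (hSmem _).mpr ⟨hv₁, p₁, hp₁, e₁⟩
    have hv₂S : v₂ ∈ S := (hSmem _).mpr ⟨hv₂, p₂, hp₂, e₂⟩
    have h1 : app8 (gamAt k) (u₁ ^^^ v₁) = u₂ ^^^ v₂ := by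
      refine act_eval ha (Nat.xor_lt_two_pow (n := 8) hu₁' hv₁) (Nat.xor_lt_two_pow (n := 8) hu₂' hv₂) ?_
      refine me_trans (me_conj m (me_symm (me_trans (me_mul (ModEq.refl (z := zL) (qc u₁)) e₁)
        (qc_xor u₁ v₁)))) ?_
      exact me_trans hme (me_trans (me_mul (ModEq.refl (z := zL) (qc u₂)) e₂) (qc_xor u₂ v₂))
    rw [app8_xor, hkS v₁ hv₁S] at h1
    have h2 : app8 (gamAt k) u₁ = u₂ ^^^ (v₂ ^^^ v₁) := by
      rw [← Nat.xor_assoc, ← h1, Nat.xor_assoc, Nat.xor_self, Nat.xor_zero]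
    ext w
    simp only [cset, Finset.mem_image, exists_exists_and_eq_and]
    constructor
    · rintro ⟨v, hv, rfl⟩
      refine ⟨v₂ ^^^ v₁ ^^^ v, hxS _ (hxS _ hv₂S _ hv₁S) _ hv, ?_⟩
      rw [app8_xor, hkS v hv, h2, Nat.xor_assoc, Nat.xor_assoc, Nat.xor_assoc]
    · rintro ⟨v, hv, rfl⟩
      refine ⟨v₂ ^^^ v₁ ^^^ v, hxS _ (hxS _ hv₂S _ hv₁S) _ hv, ?_⟩
      rw [app8_xor, hkS _ (hxS _ (hxS _ hv₂S _ hv₁S) _ hv), h2,
        show u₂ ^^^ (v₂ ^^^ v₁) ^^^ (v₂ ^^^ v₁ ^^^ v) = u₂ ^^^ ((v₂ ^^^ v₁) ^^^ (v₂ ^^^ v₁)) ^^^ v by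
          simp only [Nat.xor_assoc], Nat.xor_self, Nat.xor_zero]
  -- constant count
  obtain ⟨u₀, hu₀⟩ : ∃ u, u ∈ T := Finset.card_pos.mp (by rw [hT60]; norm_num)
  have hcls : ∀ u ∈ T, ∀ u' ∈ T, ((cset u).filter fun w => w ∈ T).card ≤
      ((cset u').filter fun w => w ∈ T).card := by
    intro u hu u' hu'
    obtain ⟨m, hmH, k, -, ha, him⟩ := trans u hu u' hu'
    obtain ⟨k', hk', ha', hT', -⟩ := hact m hmH
    have he := act_unique ha' ha
    refine Finset.card_le_card_of_injOn (app8 (gamAt k)) (fun w hw => ?_) (fun a hA b hb e => ?_)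
    · simp only [Finset.coe_filter, Set.mem_setOf_eq] at hw ⊢
      obtain ⟨hw, hwT⟩ := hw
      refine ⟨him ▸ Finset.mem_image_of_mem _ hw, (hTmem _).mpr ⟨app8_lt _ _, ?_⟩⟩
      rw [← app8_eqM he]
      exact hT' w ((hTmem w).mp hwT).1 ((hTmem w).mp hwT).2
    · simp only [Finset.coe_filter, Set.mem_setOf_eq] at hA hb
      exact hinjA m hmH k ha a ((hTmem a).mp hA.2).1 b ((hTmem b).mp hb.2).1 e
  obtain ⟨c, hc⟩ : ∃ c, c = ((cset u₀).filter fun w => w ∈ T).card := ⟨_, rfl⟩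
  have hconst : ∀ u ∈ T, ((cset u).filter fun w => w ∈ T).card = c := fun u hu =>
    hc ▸ le_antisymm (hcls u hu u₀ hu₀) (hcls u₀ hu₀ u hu)
  have hcard : ∀ u, ((cset u).filter fun w => w ∈ T).card = (S.filter fun v => u ^^^ v ∈ T).card := by
    intro u
    simp only [cset, Finset.filter_image]
    exact Finset.card_image_of_injective _ fun a b e => by
      have := congrArg (u ^^^ ·) e
      simpa [← Nat.xor_assoc] using this
  have hsum : 60 * c = 60 + 12 * (S.card - 1) := by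
    have h1 := Finset.sum_card_bipartiteAbove_eq_sum_card_bipartiteBelow (s := T) (t := S)
      (fun u v => u ^^^ v ∈ T)
    simp only [Finset.bipartiteAbove, Finset.bipartiteBelow] at h1
    rw [Finset.sum_congr rfl (fun u hu => (hcard u).symm.trans (hconst u hu)), Finset.sum_const,
      hT60, smul_eq_mul, Finset.sum_congr rfl hN, ← Finset.add_sum_erase _ _ h0S, if_pos rfl,
      Finset.sum_congr rfl (fun v hv => if_neg (Finset.mem_erase.mp hv).1), Finset.sum_const,
      Finset.card_erase_of_mem h0S, smul_eq_mul] at h1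
    rw [h1, mul_comm (S.card - 1) 12]
  obtain ⟨n, hn⟩ : ∃ n, S.card = 2 ^ n := hS ▸ two_pow_card hP hz
  have hle : S.card ≤ 196 := by
    have hd : Disjoint S T := Finset.disjoint_left.mpr fun v hv hv' => by
      exact Bool.noConfusion ((hST v hv).symm.trans ((hTmem v).mp hv').2)
    have h := Finset.card_le_card (show S ∪ T ⊆ Finset.range 256 from fun v hv => by
      rcases Finset.mem_union.mp hv with h | h
      · exact Finset.mem_range.mpr ((hSmem v).mp h).1
      · exact Finset.mem_range.mpr ((hTmem v).mp h).1)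
    rw [Finset.card_union_of_disjoint hd, hT60, Finset.card_range] at h
    omega
  have hn8 : n < 8 := by
    by_contra hlt
    have := Nat.pow_le_pow_right (show 0 < 2 by norm_num) (not_lt.mp hlt)
    omega
  rcases (show S.card = 1 ∨ S.card = 16 by interval_cases n <;> omega) with h1 | h16
  · intro p hp
    obtain ⟨v, hv, hpv⟩ := exists_code (hP hp)
    obtain ⟨a, ha⟩ := Finset.card_eq_one.mp h1
    have hv' : v ∈ S := (hSmem v).mpr ⟨hv, p, hp, hpv⟩
    rw [ha, Finset.mem_singleton] at hv' h0S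
    rw [hv', ← h0S, qc_zero] at hpv
    rcases hpv with e | e
    · exact Or.inl e
    · exact Or.inr (e.trans (one_mul zL))
  exfalso
  have hc4 : c = 4 := by omega
  -- the classes
  obtain ⟨X, hX⟩ : ∃ X, X = T.image cset := ⟨_, rfl⟩
  have hmapX : ∀ m ∈ H, ∀ k, Act qs zL m (gamAt k) → ∀ a ∈ X, a.image (app8 (gamAt k)) ∈ X := by
    intro m hmH k ha a haX
    rw [hX, Finset.mem_image] at haX ⊢
    obtain ⟨u, hu, rfl⟩ := haX
    obtain ⟨k', -, ha', hT', hS'⟩ := hact m hmH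
    have he := act_unique ha' ha
    refine ⟨app8 (gamAt k) u, (hTmem _).mpr ⟨app8_lt _ _, ?_⟩, ?_⟩
    · rw [← app8_eqM he]; exact hT' u ((hTmem u).mp hu).1 ((hTmem u).mp hu).2
    · simp only [cset, Finset.image_image]
      refine Finset.image_congr fun v hv => ?_
      rw [Function.comp_apply, app8_xor, ← app8_eqM he v, hS' v hv]
  have hX15 : X.card = 15 := by
    have h1 := Finset.card_eq_sum_card_image cset T
    rw [← hX, hT60] at h1
    have h2 : ∀ a ∈ X, (T.filter fun u => cset u = a).card = 4 := by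
      intro a ha
      rw [hX, Finset.mem_image] at ha
      obtain ⟨u, hu, rfl⟩ := ha
      rw [← hc4, ← hconst u hu]
      congr 1
      ext w
      simp only [Finset.mem_filter]
      constructor
      · rintro ⟨hw, e⟩
        refine ⟨?_, hw⟩
        rw [← e]
        exact Finset.mem_image.mpr ⟨0, h0S, Nat.xor_zero w⟩
      · rintro ⟨hw, hwT⟩
        refine ⟨hwT, ?_⟩
        obtain ⟨v, hv, rfl⟩ := Finset.mem_image.mp hw
        ext x
        simp only [cset, Finset.mem_image]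
        constructor
        · rintro ⟨v', hv', rfl⟩
          exact ⟨v ^^^ v', hxS _ hv _ hv', (Nat.xor_assoc _ _ _).symm⟩
        · rintro ⟨v', hv', rfl⟩
          exact ⟨v ^^^ v', hxS _ hv _ hv', by
            rw [Nat.xor_assoc, ← Nat.xor_assoc v v, Nat.xor_self, Nat.zero_xor]⟩
    rw [Finset.sum_congr rfl h2, Finset.sum_const, smul_eq_mul] at h1
    omega
  choose kf hkf hka hkT hkS using fun m : ↥H => hact m.1 m.2
  let : MulAction ↥H {a : Finset ℕ // a ∈ X} :=
    { smul := fun m a => ⟨a.1.image (app8 (gamAt (kf m))), hmapX m.1 m.2 _ (hka m) a.1 a.2⟩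
      one_smul := fun a => Subtype.ext (by
        show a.1.image (app8 (gamAt (kf 1))) = a.1
        have he := act_unique (hka 1) act_id
        obtain ⟨u, hu, e⟩ := Finset.mem_image.mp (show a.1 ∈ T.image cset by rw [← hX]; exact a.2)
        conv_rhs => rw [← Finset.image_id (s := a.1)]
        refine Finset.image_congr fun w hw => ?_
        rw [app8_eqM he]
        refine app8_idM ?_
        rw [← e] at hw
        obtain ⟨v, hv, rfl⟩ := Finset.mem_image.mp hw
        exact Nat.xor_lt_two_pow (n := 8) ((hTmem u).mp hu).1 ((hSmem v).mp hv).1)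
      mul_smul := fun m m' a => Subtype.ext (by
        show a.1.image (app8 (gamAt (kf (m * m')))) =
          (a.1.image (app8 (gamAt (kf m')))).image (app8 (gamAt (kf m)))
        have he := act_unique (hka (m * m')) (act_comp (hka m) (hka m'))
        obtain ⟨u, hu, e⟩ := Finset.mem_image.mp (show a.1 ∈ T.image cset by rw [← hX]; exact a.2)
        rw [Finset.image_image]
        refine Finset.image_congr fun w hw => ?_
        rw [← e] at hw
        obtain ⟨v, hv, rfl⟩ := Finset.mem_image.mp hw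
        rw [Function.comp_apply, app8_eqM he,
          app8_mmul _ _ (Nat.xor_lt_two_pow (n := 8) ((hTmem u).mp hu).1 ((hSmem v).mp hv).1)]) }
  obtain ⟨a₀⟩ : Nonempty {a : Finset ℕ // a ∈ X} :=
    ⟨⟨cset u₀, by rw [hX]; exact Finset.mem_image_of_mem _ hu₀⟩⟩
  have horb : MulAction.orbit ↥H a₀ = Set.univ := Set.eq_univ_of_forall fun b => by
    obtain ⟨u, hu, e⟩ := Finset.mem_image.mp (show a₀.1 ∈ T.image cset by rw [← hX]; exact a₀.2)
    obtain ⟨u', hu', e'⟩ := Finset.mem_image.mp (show b.1 ∈ T.image cset by rw [← hX]; exact b.2)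
    obtain ⟨m, hm, k, -, ha, him⟩ := trans u hu u' hu'
    refine ⟨⟨m, hm⟩, Subtype.ext ?_⟩
    show a₀.1.image (app8 (gamAt (kf ⟨m, hm⟩))) = b.1
    rw [← e, ← e', ← him]
    exact Finset.image_congr fun w _ => app8_eqM (act_unique (hka ⟨m, hm⟩) ha) w
  have h5 : 5 ∣ Nat.card ↥H := by
    have h := (MulAction.orbitEquivQuotientStabilizer ↥H a₀).trans (Equiv.refl _)
    have h1 := Nat.card_congr h
    rw [horb, Nat.card_univ, Nat.card_eq_fintype_card, Fintype.card_coe, hX15] at h1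
    have h2 := (MulAction.stabilizer ↥H a₀).index_dvd_card
    rw [Subgroup.index, ← h1] at h2
    exact Dvd.dvd.trans (by norm_num) h2
  have : Fact (Nat.Prime 5) := ⟨by norm_num⟩
  obtain ⟨m, hm5⟩ := exists_prime_orderOf_dvd_card' (p := 5) h5
  have hpow : (m : ↥cL) ^ 5 = 1 := by
    rw [← hm5, ← SubgroupClass.coe_pow, pow_orderOf_eq_one, OneMemClass.coe_one]
  have hA : Act qs zL (m : ↥cL) (gamAt (kf m)) := hka m
  have hid : eqM (gamAt (kf m)) idM = false := Bool.eq_false_iff.mpr fun h => by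
    obtain ⟨v, -, hv⟩ := kernel_mem (act_congr hA h)
    have h2 := me_trans (me_mul hv hv) (qc_self v)
    have h4 : (m : ↥cL) ^ 4 = 1 := by
      rw [show (4 : ℕ) = 2 + 2 from rfl, pow_add, pow_two]
      rcases h2 with e | e <;> rw [e]
      · exact one_mul 1
      · rw [one_mul, zL_sq]
    have h1 : (m : ↥cL) = 1 := by
      calc (m : ↥cL) = (m : ↥cL) ^ 5 * ((m : ↥cL) ^ 4)⁻¹ := by group
        _ = 1 := by rw [hpow, h4, inv_one, mul_one]
    rw [show m = 1 from Subtype.ext h1, orderOf_one] at hm5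
    norm_num at hm5
  have h2 := act_comp hA hA
  have h4 := act_comp h2 h2
  have h5' := act_comp hA h4
  rw [show (m : ↥cL) * ((m : ↥cL) * m * ((m : ↥cL) * m)) = (m : ↥cL) ^ 5 by
    simp only [pow_succ, pow_zero, one_mul, mul_assoc], hpow] at h5'
  have h := five_spec _ (hkf m)
  simp only [fiveOK, strict_eq, act_unique h5' act_id, hid, Bool.not_false, Bool.and_self, cond_true,
    Nat.blt_eq] at h
  have hsub : S ⊆ (Finset.range 256).filter fun v =>
      (!inT v && Nat.beq (app8 (gamAt (kf m)) v) v) = true := by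
    intro v hv
    rw [Finset.mem_filter, Finset.mem_range, Bool.and_eq_true, hST v hv, hkS m v hv]
    exact ⟨((hSmem v).mp hv).1, rfl, Nat.beq_refl v⟩
  have hle' := Finset.card_le_card hsub
  rw [filt, h16] at hle'
  omega

end CfsgLib.HNType.TwoB
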