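import Cfsg.Agent.Lib.HNType.TwoB.TableDefs

/-!
The checks on the involutions of a Sylow 2-subgroup hold.
-/

set_option autoImplicit false
set_option maxRecDepth 100000
set_option maxHeartbeats 4000000

namespace CfsgLib.HNType.TwoB

theorem ent_ok : invList.all entOK = true := by decide +kernel
theorem listed_ok : CfsgLib.CosetEnum.Cert.allBelow 2048 listedOK = true := by decide +kernel
theorem reps_ok : repsOK = true := by decide +kernel

end CfsgLib.HNType.TwoB
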