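import Cfsg.Agent.Lib.HN.A12
import Cfsg.Agent.Lib.HNType.Syl
import Cfsg.Agent.Lib.HNType.TwoB.Data

/-!
Identities in the presented group HN between products of words and the generator `t`.
-/

set_option autoImplicit false
set_option maxRecDepth 10000

namespace CfsgLib.HNType.TwoB

open CfsgLib.CosetEnum CfsgLib.DCoset CfsgLib.DCoset.Space CfsgLib.HN

/-- a product of words and copies of `t` -/
abbrev Segs : Type := List (Option (List ℕ))

/-- the inverse product -/
def invS (Q : Segs) : Segs :=
  Q.reverse.flatMap fun s => match s with
    | none => [none, none, none, none]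
    | some l => [some (space.C.revInv l)]

/-- all words are words in the letters -/
def lettersS (Q : Segs) : Bool :=
  Q.all fun s => match s with
    | none => true
    | some l => l.all fun g => Nat.blt g 5

/-- the value -/
noncomputable def val (Q : Segs) : CfsgLib.HN.G := rig.evS Q

theorem val_nil : val [] = 1 := rfl

theorem val_append (P Q : Segs) : val (P ++ Q) = val P * val Q := rig.evS_append P Q

theorem val_cons_none (Q : Segs) : val (none :: Q) = gt * val Q := rfl

theorem ev_word {l : List ℕ} (hl : ∀ g ∈ l, g < 5) : rig.ev l = prodW gen l := by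
  have h1 : rig.ev l = prodW gen (valid.lw l) := rfl
  have hlw : ∀ g ∈ valid.lw l, g < space.C.K := valid.lw_lt l
  have e : (toP ⟨prodW gen (valid.lw l), rig.prodW_mem hlw⟩) = toP ⟨prodW gen l, rig.prodW_mem hl⟩ := by
    refine Subtype.ext ?_
    rw [toP_word hlw, toP_word hl]
    exact pgen_word hl
  rw [h1]
  exact congrArg Subtype.val (toP_injective e)

/-- the value of one word -/
theorem val_word {l : List ℕ} (hl : ∀ g ∈ l, g < 5) : val [some l] = prodW gen l := by
  rw [val, Rig.evS, Rig.evS, mul_one, ev_word hl]

theorem revInv_lt5 {l : List ℕ} (hl : ∀ g ∈ l, g < 5) : ∀ g ∈ space.C.revInv l, g < 5 :=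
  fun g hg => Rig.revInv_lt valid hl g hg

theorem prodW_revInv {l : List ℕ} : prodW gen (space.C.revInv l) = (prodW gen l)⁻¹ :=
  model.revInv_eq l

theorem val_invS : ∀ {Q : Segs}, lettersS Q = true → val (invS Q) = (val Q)⁻¹
  | [], _ => by simp [invS, val_nil]
  | s :: Q, h => by
    simp only [lettersS, List.all_cons, Bool.and_eq_true] at h
    have ih := val_invS (Q := Q) h.2
    have e : invS (s :: Q) = invS Q ++ invS [s] := by
      simp [invS, List.reverse_cons, List.flatMap_append]
    rw [e, val_append, ih, show s :: Q = [s] ++ Q from rfl, val_append, mul_inv_rev]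
    congr 1
    cases s with
    | none =>
      show val [none, none, none, none] = (val [none])⁻¹
      simp only [val_cons_none, val_nil, mul_one]
      exact t_inv.symm
    | some l =>
      have hl : ∀ g ∈ l, g < 5 := fun g hg => Nat.blt_eq ▸ List.all_eq_true.mp h.1 g hg
      show val [some (space.C.revInv l)] = (val [some l])⁻¹
      rw [val_word (revInv_lt5 hl), val_word hl, prodW_revInv]

/-- put a step in front, cancelling five copies of `t` and joining words -/
def consS : Option (List ℕ) → Segs → Segs
  | none, none :: none :: none :: none :: t => t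
  | some l, some m :: t => some (l ++ m) :: t
  | s, t => s :: t

/-- cancel and join -/
def redS (Q : Segs) : Segs := Q.foldr consS []

theorem val_cons_some (l : List ℕ) (Q : Segs) : val (some l :: Q) = rig.ev l * val Q := rfl

theorem val_consS (s : Option (List ℕ)) (t : Segs) : val (consS s t) = val (s :: t) := by
  unfold consS
  split
  · simp only [val_cons_none, t_mul_five]
  · simp only [val_cons_some, rig.ev_append, mul_assoc]
  · rfl

theorem val_redS : ∀ Q : Segs, val (redS Q) = val Q
  | [] => rfl
  | s :: Q => by
    rw [show redS (s :: Q) = consS s (redS Q) from rfl, val_consS]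
    cases s <;> simp only [val_cons_none, val_cons_some, val_redS Q]

/-- the check of an identity with a witness -/
noncomputable def idOK (P Q : Segs) (w : Wit) : Bool :=
  lettersS Q && segsOK (redS (P ++ invS Q)) w.w0 w.wb

theorem val_eq_of_idOK {P Q : Segs} {w : Wit} (h : idOK P Q w = true) : val P = val Q := by
  rw [idOK, Bool.and_eq_true] at h
  have e : val (redS (P ++ invS Q)) = 1 := segs_eq_one h.2
  rwa [val_redS, val_append, val_invS h.1, mul_inv_eq_one] at e

/-- two words with the same images of the base points -/
noncomputable def sameOK (u v : List ℕ) : Bool :=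
  (u.all fun g => Nat.blt g 5) && (v.all fun g => Nat.blt g 5) &&
    (List.range 6).all fun b => Nat.beq (space.C.run (basePt b) u) (space.C.run (basePt b) v)

theorem wordP_of_sameOK {u v : List ℕ} (h : sameOK u v = true) : wordP u = wordP v := by
  simp only [sameOK, Bool.and_eq_true, List.all_eq_true, List.mem_range, Nat.blt_eq] at h
  refine eq_of_base fun b hb => ?_
  rw [img_word h.1.1, img_word h.1.2]
  exact Nat.eq_of_beq_eq_true (h.2 b hb)

theorem wordP_append (u v : List ℕ) : wordP (u ++ v) = wordP u * wordP v :=
  Subtype.ext (prodW_append _ u v)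

theorem wordP_nil : wordP [] = 1 := rfl

/-- the element of the subgroup of `x, y, z` -/
noncomputable def subW (l : List ℕ) (hl : ∀ g ∈ l, g < 5) : ↥subH :=
  ⟨prodW gen l, rig.prodW_mem hl⟩

theorem toP_subW {l : List ℕ} (hl : ∀ g ∈ l, g < 5) : toP (subW l hl) = wordP l :=
  Subtype.ext (toP_word hl)

end CfsgLib.HNType.TwoB
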