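import Cfsg.Agent.Lib.HNType.Fusion
import Cfsg.Agent.Lib.HNType.TwoB.Words
import Cfsg.Agent.Lib.HNType.TwoB.TableData

/-!
The classes of the involutions of a Sylow 2-subgroup: definitions of the checks.
-/

set_option autoImplicit false
set_option maxRecDepth 10000

namespace CfsgLib.HNType.TwoB

open CfsgLib.CosetEnum CfsgLib.DCoset CfsgLib.HN

/-- the class representatives of the two kinds -/
noncomputable def repKind (r : ℕ) (first : Bool) : Bool :=
  bif first then Nat.beq r 564 || Nat.beq r 1975 || Nat.beq r 1
  else Nat.beq r 690 || Nat.beq r 101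

/-- element `j` is listed with a representative of the given kind -/
noncomputable def kindOK (j : ℕ) (first : Bool) : Bool :=
  (sylConj.any fun e => Nat.beq e.1 j && repKind e.2.2 first) ||
    fusConj.any fun e => Nat.beq e.1 j && repKind e.2.2 first

/-- element `j` is the product in the given case -/
noncomputable def prodOK (k typ j : ℕ) : Bool :=
  (List.range 6).all fun b =>
    match typ with
    | 0 => Nat.beq (mulKey 564 k b) (sylKey j b)
    | 1 => Nat.beq (tWord (sylWord 690) (mulKey 564 k b)) (sylKey j b)
    | 2 => Nat.beq k j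
    | _ => Nat.beq (mulKey k 690 b) (sylKey j b)

/-- the check of an involution -/
noncomputable def entOK (e : ℕ × ℕ × ℕ) : Bool :=
  Nat.blt e.2.1 4 && Nat.blt e.2.2 2048 && prodOK e.1 e.2.1 e.2.2 && kindOK e.2.2 (!Nat.beq e.2.1 0)

/-- every involution is listed -/
noncomputable def listedOK (k : ℕ) : Bool := strict k fun k =>
  Nat.beq k 0 || !Nat.beq (sylTSq k) (bif inK k then 0 else 564) || invList.any fun e => Nat.beq e.1 k

/-- element `k` is the conjugate of a word -/
noncomputable def repOK' (k : ℕ) (w u : List ℕ) : Bool :=
  (w.all fun g => Nat.blt g 5) && (u.all fun g => Nat.blt g 5) &&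
  (List.range 6).all fun b =>
    Nat.beq (space.C.run (basePt b) (space.C.revInv u ++ w ++ u)) (sylKey k b)

/-- the representatives -/
noncomputable def repsOK : Bool :=
  repOK' 690 w0 u690 && repOK' 1975 wA u1975 && repOK' 1 [4] uOne && repOK' 101 wD u101

end CfsgLib.HNType.TwoB
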